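import Groth.Prelude.Def_RDer
import Mathlib.Algebra.Homology.ShortComplex.Exact

/-!
The comparison of homology under a left exact functor is an isomorphism in the first nonvanishing degree
of a complex of injectives.
-/

set_option autoImplicit false

open CategoryTheory CategoryTheory.Limits HomologicalComplex

namespace Groth.Agent.Depth22

variable {B : Type*} [Category B] [Abelian B]

theorem toCycles_comp_d (K : CochainComplex B ℕ) (i : ℕ) :
    K.iCycles i ≫ K.toCycles i (i + 1) = 0 := by
  rw [← cancel_mono (K.iCycles (i + 1)), Category.assoc, toCycles_i, zero_comp, iCycles_d]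

theorem exact_cycles (K : CochainComplex B ℕ) (i : ℕ) :
    (ShortComplex.mk (K.iCycles i) (factorThruImage (K.toCycles i (i + 1))) (by
      rw [← cancel_mono (image.ι (K.toCycles i (i + 1))), Category.assoc, image.fac, toCycles_comp_d,
        zero_comp])).Exact := by
  refine ShortComplex.exact_of_f_is_kernel _ (KernelFork.IsLimit.ofι' _ _ fun {A} k hk => ⟨K.liftCycles k (i + 1)
    (by simp) ?_, liftCycles_i _ _ _ _ _⟩)
  dsimp at hk
  rw [← toCycles_i, ← image.fac (K.toCycles i (i + 1))]
  simp only [← Category.assoc, hk, zero_comp]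

/-- If the cycles in degree `i` are injective, so is the image in degree `i + 1`, with a section. -/
theorem exists_regular_aux (K : CochainComplex B ℕ) [∀ i, Injective (K.X i)] (i : ℕ)
    (h : Injective (K.cycles i)) :
    Injective (image (K.toCycles i (i + 1))) ∧ ∃ q : K.cycles (i + 1) ⟶ K.X i,
      K.toCycles i (i + 1) ≫ q ≫ K.toCycles i (i + 1) = K.toCycles i (i + 1) := by
  let r := Injective.factorThru (𝟙 (K.cycles i)) (K.iCycles i)
  have : Epi (factorThruImage (K.toCycles i (i + 1))) := inferInstance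
  let S := ShortComplex.Splitting.ofExactOfRetraction _ (exact_cycles K i) r
    (Injective.comp_factorThru _ _) this
  have hinj : Injective (image (K.toCycles i (i + 1))) :=
    Retract.injective ⟨S.s, factorThruImage _, S.s_g⟩
  refine ⟨hinj, Injective.factorThru (𝟙 _) (image.ι (K.toCycles i (i + 1))) ≫ S.s, ?_⟩
  let τ := K.toCycles i (i + 1)
  have e : S.s ≫ τ = image.ι τ :=
    (congrArg (S.s ≫ ·) (image.fac τ).symm).trans ((Category.assoc _ _ _).symm.trans
      ((congrArg (· ≫ image.ι τ) S.s_g).trans (Category.id_comp _)))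
  refine (congrArg (τ ≫ ·) ((Category.assoc _ _ _).trans (congrArg (Injective.factorThru _ _ ≫ ·) e))).trans ?_
  refine (congrArg (· ≫ _) (image.fac τ).symm).trans ?_
  refine (Category.assoc _ _ _).trans ?_
  exact (congrArg (factorThruImage τ ≫ ·)
    ((Injective.comp_factorThru_assoc _ _ _).trans (Category.id_comp _))).trans (image.fac τ)

theorem injective_cycles (K : CochainComplex B ℕ) [∀ i, Injective (K.X i)] (n : ℕ)
    (h : ∀ i, i < n → IsZero (K.homology i)) : ∀ i, i < n → Injective (K.cycles i) := by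
  intro i
  induction i with
  | zero =>
    intro hi
    exact ((h 0 hi).of_iso K.isoHomologyπ₀).injective
  | succ i ih =>
    intro hi
    obtain ⟨hinj, -⟩ := exists_regular_aux K i (ih (by omega))
    have he : Epi (K.toCycles i (i + 1)) := Preadditive.epi_of_cancel_zero _ fun {A} k hk => by
      obtain ⟨l, hl⟩ := CokernelCofork.IsColimit.desc' (K.homologyIsCokernel i (i + 1) (by simp)) k hk
      change K.homologyπ (i + 1) ≫ l = k at hl
      rw [← hl, (h (i + 1) hi).eq_of_src l 0, comp_zero]
    have : Epi (image.ι (K.toCycles i (i + 1))) := epi_of_epi_fac (image.fac _)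
    have := isIso_of_mono_of_epi (image.ι (K.toCycles i (i + 1)))
    exact Injective.of_iso (asIso (image.ι (K.toCycles i (i + 1)))) hinj

theorem exists_regular (K : CochainComplex B ℕ) [∀ i, Injective (K.X i)] (n : ℕ)
    (h : ∀ i, i < n → IsZero (K.homology i)) :
    ∃ q : K.cycles n ⟶ K.X ((ComplexShape.up ℕ).prev n),
      K.toCycles _ n ≫ q ≫ K.toCycles _ n = K.toCycles ((ComplexShape.up ℕ).prev n) n := by
  rcases n with _ | m
  · have e : K.toCycles ((ComplexShape.up ℕ).prev 0) 0 = 0 := by
      rw [← cancel_mono (K.iCycles 0), toCycles_i, zero_comp, K.shape]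
      simp
    exact ⟨0, by rw [e]; simp⟩
  · have hp : (ComplexShape.up ℕ).prev (m + 1) = m := by simp
    rw [hp]
    exact (exists_regular_aux K m (injective_cycles K (m + 1) h m m.lt_succ_self)).2

variable {C : Type*} [Category C] [Abelian C] (Ψ : B ⥤ C) [Ψ.Additive] [PreservesFiniteLimits Ψ]

theorem isIso_cyclesComparison (K : CochainComplex B ℕ) (n : ℕ) :
    IsIso (RDer.cyclesComparison Ψ K n) := by
  let e := IsLimit.conePointUniqueUpToIso
    (((Ψ.mapHomologicalComplex _).obj K).cyclesIsKernel n ((ComplexShape.up ℕ).next n) rfl)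
    (KernelFork.mapIsLimit _ (K.cyclesIsKernel n ((ComplexShape.up ℕ).next n) rfl) Ψ)
  have : RDer.cyclesComparison Ψ K n = e.hom := by
    apply Fork.IsLimit.hom_ext (KernelFork.mapIsLimit _ (K.cyclesIsKernel n _ rfl) Ψ)
    refine (RDer.cyclesComparison_i Ψ K n).trans ?_
    exact (IsLimit.conePointUniqueUpToIso_hom_comp
      (((Ψ.mapHomologicalComplex _).obj K).cyclesIsKernel n ((ComplexShape.up ℕ).next n) rfl)
      (KernelFork.mapIsLimit _ (K.cyclesIsKernel n ((ComplexShape.up ℕ).next n) rfl) Ψ)
      WalkingParallelPair.zero).symm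
  rw [this]
  exact e.isIso_hom

theorem isIso_homologyComparison (K : CochainComplex B ℕ) [∀ i, Injective (K.X i)] (n : ℕ)
    (h : ∀ i, i < n → IsZero (K.homology i)) : IsIso (RDer.homologyComparison Ψ K n) := by
  obtain ⟨q, hq⟩ := exists_regular K n h
  have hc := isIso_cyclesComparison Ψ K n
  let τ := K.toCycles ((ComplexShape.up ℕ).prev n) n
  obtain ⟨t, ht⟩ : ∃ t : K.homology n ⟶ K.cycles n, K.homologyπ n ≫ t = 𝟙 _ - q ≫ τ :=
    ⟨_, (CokernelCofork.IsColimit.desc' (K.homologyIsCokernel _ n rfl) (𝟙 _ - q ≫ τ)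
      (by rw [Preadditive.comp_sub, hq, Category.comp_id, sub_self])).2⟩
  have htπ : t ≫ K.homologyπ n = 𝟙 _ := by
    refine (cancel_epi (K.homologyπ n)).1 (Eq.trans ?_ (Category.comp_id _).symm)
    refine (Category.assoc _ _ _).symm.trans ((congrArg (· ≫ K.homologyπ n) ht).trans ?_)
    simp [τ]
  let L := (Ψ.mapHomologicalComplex (ComplexShape.up ℕ)).obj K
  let i : Ψ.obj (K.homology n) ⟶ L.homology n :=
    Ψ.map t ≫ inv (RDer.cyclesComparison Ψ K n) ≫ L.homologyπ n
  refine ⟨i, ?_, ?_⟩
  · rw [← cancel_epi (L.homologyπ n)]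
    erw [RDer.homologyπ_homologyComparison_assoc, Category.comp_id]
    simp only [i]
    rw [← Functor.map_comp_assoc, ht, Functor.map_sub, Ψ.map_id, Ψ.map_comp,
      ← RDer.toCycles_cyclesComparison]
    simp only [Preadditive.sub_comp, Preadditive.comp_sub, Category.id_comp, Category.assoc,
      IsIso.hom_inv_id_assoc]
    simp [L]
    refine (congrArg (Ψ.map q ≫ ·) ((Category.assoc _ _ _).trans
      (congrArg (L.toCycles _ n ≫ ·) (IsIso.hom_inv_id_assoc _ _)))).trans ?_
    exact (congrArg (Ψ.map q ≫ ·) (L.toCycles_comp_homologyπ _ n)).trans comp_zero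
  · simp only [i, Category.assoc]
    erw [RDer.homologyπ_homologyComparison, IsIso.inv_hom_id_assoc]
    rw [← Ψ.map_comp, htπ, Ψ.map_id]

end Groth.Agent.Depth22

namespace Groth.Agent.Depth22

theorem isIso_edgeOut {A : Type*} [Category A] [Abelian A] [HasInjectiveResolutions A]
    {B : Type*} [Category B] [Abelian B] [HasInjectiveResolutions B]
    {C : Type*} [Category C] [Abelian C] (Φ : A ⥤ B) [Φ.Additive] (Ψ : B ⥤ C) [Ψ.Additive]
    [PreservesFiniteLimits Ψ] (hΦ : ∀ I : A, Injective I → Injective (Φ.obj I)) (n : ℕ) (X : A)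
    (h : ∀ p, p < n → IsZero ((Φ.rightDerived p).obj X)) : IsIso (RDer.edgeOut Φ Ψ n X) := by
  let K := (Φ.mapHomologicalComplex (ComplexShape.up ℕ)).obj (injectiveResolution X).cocomplex
  have : ∀ i, Injective (K.X i) := fun i => hΦ _ ((injectiveResolution X).injective i)
  have hK : IsIso (RDer.homologyComparison Ψ K n) := isIso_homologyComparison Ψ K n fun i hi =>
    (h i hi).of_iso ((injectiveResolution X).isoRightDerivedObj Φ i).symm
  unfold RDer.edgeOut
  exact IsIso.comp_isIso' inferInstance
    (IsIso.comp_isIso' hK (Ψ.mapIso ((injectiveResolution X).isoRightDerivedObj Φ n)).isIso_inv)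

end Groth.Agent.Depth22
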