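import Groth.Agent.Depth22.EtLocal
import Mathlib.CategoryTheory.Adjunction.Additive
import Mathlib.GroupTheory.Perm.Cycle.Type

/-!
Depth of constant sheaves with finite `ℓ`-primary value groups.
-/

set_option autoImplicit false
set_option backward.isDefEq.respectTransparency.types false
universe u

open CategoryTheory CategoryTheory.Limits AlgebraicGeometry Opposite
open Groth.Agent.EtCore45

namespace Groth.Agent.Depth22

variable {X U : Scheme.{u}} (j : U ⟶ X) [IsOpenImmersion j]

omit [IsOpenImmersion j] in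
theorem const_exact (X : Scheme.{u}) :
    (constantSheaf X.smallEtaleTopology AddCommGrpCat.{u + 1}).Additive ∧
      ∀ S : ShortComplex AddCommGrpCat.{u + 1}, S.ShortExact →
        ∀ [(constantSheaf X.smallEtaleTopology AddCommGrpCat.{u + 1}).PreservesZeroMorphisms],
          (S.map (constantSheaf X.smallEtaleTopology AddCommGrpCat.{u + 1})).ShortExact := by
  have : PreservesFiniteLimits (Functor.const X.Etaleᵒᵖ : AddCommGrpCat.{u + 1} ⥤ _) :=
    ⟨fun K _ _ => inferInstance⟩
  have : PreservesFiniteColimits (Functor.const X.Etaleᵒᵖ : AddCommGrpCat.{u + 1} ⥤ _) :=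
    ⟨fun K _ _ => inferInstance⟩
  have : PreservesFiniteLimits (constantSheaf X.smallEtaleTopology AddCommGrpCat.{u + 1}) :=
    comp_preservesFiniteLimits _ _
  have : PreservesFiniteColimits (constantSheaf X.smallEtaleTopology AddCommGrpCat.{u + 1}) :=
    comp_preservesFiniteColimits _ _
  exact ⟨Functor.additive_of_preserves_binary_products _, fun S hS _ => hS.map_of_exact _⟩

omit [IsOpenImmersion j] in
theorem depthGE_const_finite (ℓ : ℕ) (hℓ : ℓ.Prime) (n : ℕ)
    (hX : EtDepth.DepthGE j (EtCoh.const X (ZMod ℓ)) n) :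
    ∀ (c : ℕ) (M : Type (u + 1)) [AddCommGroup M] [Finite M], Nat.card M ≤ c →
      (∀ m : M, ∃ k : ℕ, (ℓ ^ k) • m = 0) →
      EtDepth.DepthGE j ((constantSheaf X.smallEtaleTopology AddCommGrpCat.{u + 1}).obj (AddCommGrpCat.of M)) n := by
  intro c
  induction c with
  | zero =>
    intro M _ _ hc
    exact absurd hc (Nat.not_le.2 Nat.card_pos)
  | succ c ih =>
    intro M _ _ hc hM
    rcases subsingleton_or_nontrivial M with hs | hne
    · have := (const_exact X).1
      exact depthGE_isZero j ((constantSheaf X.smallEtaleTopology AddCommGrpCat.{u + 1}).map_isZero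
        (AddCommGrpCat.isZero_of_subsingleton _)) n
    obtain ⟨m, hm⟩ := exists_ne (0 : M)
    obtain ⟨k, hk⟩ := hM m
    have : Fact ℓ.Prime := ⟨hℓ⟩
    obtain ⟨a, ha⟩ : ∃ a : M, addOrderOf a = ℓ := by
      obtain ⟨i, -, hi⟩ := (Nat.dvd_prime_pow hℓ).1 (addOrderOf_dvd_iff_nsmul_eq_zero.2 hk)
      have hd : ℓ ∣ addOrderOf m := by
        rw [hi]
        refine dvd_pow_self ℓ fun h => hm ?_
        rw [h, pow_zero] at hi
        exact AddMonoid.addOrderOf_eq_one_iff.1 hi
      exact exists_prime_addOrderOf_dvd_card' ℓ (hd.trans (addOrderOf_dvd_natCard m))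
    let A := AddSubgroup.zmultiples a
    have hA : Nat.card A = ℓ := (Nat.card_zmultiples a).trans ha
    have : IsAddCyclic A := inferInstance
    let e : ULift.{u + 1} (ZMod ℓ) ≃+ A :=
      AddEquiv.ulift.trans ((ZMod.ringEquivCongr hA.symm).toAddEquiv.trans (zmodAddCyclicAddEquiv inferInstance))
    let S : ShortComplex AddCommGrpCat.{u + 1} :=
      ShortComplex.mk (AddCommGrpCat.ofHom (A.subtype.comp e.toAddMonoidHom))
        (AddCommGrpCat.ofHom (QuotientAddGroup.mk' A))
        (ConcreteCategory.hom_ext _ _ fun z => (QuotientAddGroup.eq_zero_iff _).2 (e z).2)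
    have hS : S.ShortExact :=
      { exact := by
          rw [ShortComplex.ab_exact_iff]
          intro x hx
          exact ⟨e.symm ⟨x, (QuotientAddGroup.eq_zero_iff _).1 hx⟩,
            congrArg Subtype.val (e.apply_symm_apply _)⟩
        mono_f := (AddCommGrpCat.mono_iff_injective _).2 (Subtype.val_injective.comp e.injective)
        epi_g := (AddCommGrpCat.epi_iff_surjective _).2 (QuotientAddGroup.mk'_surjective A) }
    have := (const_exact X).1
    refine depthGE_extension j ((const_exact X).2 S hS) hX (ih (M ⧸ A) ?_ ?_)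
    · have h1 := AddSubgroup.card_eq_card_quotient_mul_card_addSubgroup A
      rw [hA] at h1
      have h2 : 0 < Nat.card (M ⧸ A) := Nat.card_pos
      have h3 := hℓ.two_le
      nlinarith
    · intro q
      obtain ⟨x, rfl⟩ := QuotientAddGroup.mk'_surjective A q
      obtain ⟨k, hk⟩ := hM x
      exact ⟨k, by rw [← map_nsmul, hk, map_zero]⟩

theorem depthGE_flc (ℓ : ℕ) (hℓ : ℓ.Prime) (n : ℕ) (hX : EtDepth.DepthGE j (EtCoh.const X (ZMod ℓ)) n)
    (F : EtCoh.Ab X) (hF : EtCoh.IsFiniteLocallyConstant F) (ht : EtDepth.IsLTorsion ℓ F) :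
    EtDepth.DepthGE j F n := by
  refine depthGE_of_cover j n fun x => ?_
  obtain ⟨V, v, M, _, _, σ, hv, hσ⟩ := (LocConst45.finiteLocallyConstant_iff F).1 hF x
  have : Etale V.hom := V.prop
  refine ⟨V, v, hv, ?_⟩
  obtain ⟨e⟩ := exists_cst_iso hσ
  refine depthGE_of_iso _ e (depthGE_const_finite _ ℓ hℓ n ?_ (Nat.card M) M le_rfl fun m => ?_)
  · exact depthGE_of_iso _ (EtCore.pullConst V.hom (ZMod ℓ))
      (depthGE_pull j V.hom _ (Scheme.Pullback.range_snd (f := j) (g := V.hom)) n hX)
  · obtain ⟨W, g, ⟨w, -⟩, k, hk⟩ := ht V (σ m) v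
    refine ⟨k, hσ.inj W g _ ⟨w⟩ ?_⟩
    rw [map_nsmul, map_nsmul]
    exact hk

end Groth.Agent.Depth22
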