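import Groth.Agent.Depth22.TorsTools
import Groth.Agent.Depth22.Devissage
import Groth.Agent.EtTrace93.Trace
import Groth.Agent.EtCore45.ExtAdjoint
import Groth.Agent.EtCore45.EtaleField
import Groth.Agent.GalCoh84.Trace
import Groth.Agent.Cons51.Local
import Mathlib.LinearAlgebra.Dual.Lemmas

/-!
The top degree of `ℓ`-torsion cohomology of a field.
-/

set_option autoImplicit false
set_option backward.isDefEq.respectTransparency.types false
universe u

open CategoryTheory CategoryTheory.Limits AlgebraicGeometry Opposite CategoryTheory.Abelian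
open Groth.Agent.Unr55.EtSh Groth.Agent.EtCore45

namespace Groth.Agent.Depth22

variable {X Y : Scheme.{u}}

theorem subsingleton_H_of_iso {F G : EtCoh.Ab X} (e : F ≅ G) {q : ℕ} (h : Subsingleton (EtCoh.H X F q)) :
    Subsingleton (EtCoh.H X G q) := by
  have h' : IsZero ((EtCoh.HF X q).obj F) := @AddCommGrpCat.isZero_of_subsingleton _ h
  exact AddCommGrpCat.subsingleton_of_isZero (h'.of_iso ((EtCoh.HF X q).mapIso e).symm)

theorem H_push_finite (f : X ⟶ Y) [IsFinite f] (F : EtCoh.Ab X) (q : ℕ) :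
    Subsingleton (EtCoh.H Y ((EtCoh.push f).obj F) q) ↔ Subsingleton (EtCoh.H X F q) := by
  have := preservesFiniteLimits_pull f
  have hb := adjTransfer_bijective.{u + 1} (EtCoh.pullPushAdj f) (EtCore.pullConst f ℤ).inv q F
    (fun p hp => isZero_Rpush_of_finite f F p hp)
  exact ⟨fun h => hb.2.subsingleton (α := EtCoh.H Y ((EtCoh.push f).obj F) q), fun h => hb.1.subsingleton⟩

/-- The counit of extension by zero along a surjective etale map is an epimorphism. -/
theorem epi_traceR (f : X ⟶ Y) [IsFinite f] [Etale f] [Surjective f] (F : EtCoh.Ab Y) :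
    Epi (EtTrace93.traceR f F) := by
  suffices Epi ((EtShriek.extZeroAdj f).counit.app F) from epi_comp _ _
  refine ⟨fun {Z} a b hab => EtTrace93.hom_eq_of_stalks_algClosed a b fun K _ _ η W t τ => ?_⟩
  obtain ⟨z, hz⟩ := f.surjective (η default)
  obtain ⟨⟨v, hv⟩, -⟩ := FlatMor66.exists_lift f η z (hz.trans (congrArg η (Subsingleton.elim _ _)))
  have key : (EtCoh.stalk η).map ((EtShriek.extZeroAdj f).counit.app F)
      (extZeroStalkMap f hv ((EtShriek.restrAlong f).obj F)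
        (germ v ((EtShriek.restrAlong f).obj F) (ptUpAt f hv t) (F.obj.map ((compBcAdj f).counit.app W).op τ))) =
      germ η F t τ := by
    refine (EtTrace93.counit_extZeroStalkMap f hv F _ _).trans ?_
    rw [germ_map]
    refine congrArg (fun p => germ η F p τ) (Over.OverMorphism.ext ?_)
    exact (congrArg (pullback.lift _ _ _ ≫ ·) (EtTrace93.compBcAdj_counit_left f W)).trans (pullback.lift_fst _ _ _)
  obtain ⟨x, key⟩ : ∃ x, (EtCoh.stalk η).map ((EtShriek.extZeroAdj f).counit.app F) x = germ η F t τ := ⟨_, key⟩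
  refine ((congrArg ((EtCoh.stalk η).map a) key).symm.trans ?_).trans (congrArg ((EtCoh.stalk η).map b) key)
  exact (ConcreteCategory.congr_hom ((EtCoh.stalk η).map_comp _ a) x).symm.trans
    ((ConcreteCategory.congr_hom (congrArg (EtCoh.stalk η).map hab) x).trans
      (ConcreteCategory.congr_hom ((EtCoh.stalk η).map_comp _ b) x))

/-- In the top degree, cohomology of torsion sheaves is right exact. -/
theorem surjective_comp_top {ℓ n : ℕ} (hℓ : ℓ.Prime) (hcd : EtDepth.CohDimLLE X ℓ n) {A B : EtCoh.Ab X}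
    (φ : A ⟶ B) [Epi φ] (hA : EtDepth.IsLTorsion ℓ A) (y : EtCoh.H X B n) :
    ∃ x : EtCoh.H X A n, Ext.comp x (Ext.mk₀ φ) (add_zero n) = y := by
  let S : ShortComplex (EtCoh.Ab X) := ShortComplex.mk (kernel.ι φ) φ (kernel.condition φ)
  have hS : S.ShortExact :=
    { exact := ShortComplex.exact_of_f_is_kernel _ (kernelIsKernel φ)
      mono_f := inferInstanceAs (Mono (kernel.ι φ))
      epi_g := ‹Epi φ› }
  have : Subsingleton (EtCoh.H X (kernel φ) (n + 1)) :=
    hcd _ ((isLTorsion_iff hℓ _).2 (isLTorsion_of_mono (kernel.ι φ) ((isLTorsion_iff hℓ _).1 hA))) _ n.lt_succ_self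
  exact Ext.covariant_sequence_exact₃ _ hS y rfl (Subsingleton.elim (α := EtCoh.H X (kernel φ) (n + 1)) _ _)

theorem subsingleton_top_of_epi {ℓ n : ℕ} (hℓ : ℓ.Prime) (hcd : EtDepth.CohDimLLE X ℓ n) {A B : EtCoh.Ab X}
    (φ : A ⟶ B) [Epi φ] (hA : EtDepth.IsLTorsion ℓ A) (h : Subsingleton (EtCoh.H X A n)) :
    Subsingleton (EtCoh.H X B n) := by
  refine subsingleton_of_forall_eq 0 fun y => ?_
  obtain ⟨x, rfl⟩ := surjective_comp_top hℓ hcd φ hA y
  rw [Subsingleton.elim x 0]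
  exact Ext.zero_comp _ _ _ _ _

theorem cohDimLLE_of_finite {ℓ n : ℕ} (hℓ : ℓ.Prime) (f : X ⟶ Y) [IsFinite f]
    (hcd : EtDepth.CohDimLLE Y ℓ n) : EtDepth.CohDimLLE X ℓ n := fun F hF q hq =>
  (H_push_finite f F q).1
    (hcd _ ((isLTorsion_iff hℓ _).2 (isLTorsion_push f ((isLTorsion_iff hℓ _).1 hF))) q hq)

/-- Vanishing in the top degree descends along finite etale surjections. -/
theorem subsingleton_top_descend {ℓ n : ℕ} (hℓ : ℓ.Prime) (f : X ⟶ Y) [IsFinite f] [Etale f] [Surjective f]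
    (hcd : EtDepth.CohDimLLE Y ℓ n) {G : EtCoh.Ab Y} (hG : EtDepth.IsLTorsion ℓ G)
    (h : Subsingleton (EtCoh.H X ((EtCoh.pull f).obj G) n)) : Subsingleton (EtCoh.H Y G n) := by
  have := epi_traceR f G
  refine subsingleton_top_of_epi hℓ hcd
    ((EtCoh.push f).map ((pullRestrIso f).hom.app G) ≫ EtTrace93.traceR f G) ?_ ((H_push_finite f _ n).2 h)
  exact (isLTorsion_iff hℓ _).2 (isLTorsion_push f (isLTorsion_pull f ((isLTorsion_iff hℓ _).1 hG)))

/-- The constant sheaf of an abelian group with values in the universe of sheaves. -/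
noncomputable abbrev cst (X : Scheme.{u}) (M : AddCommGrpCat.{u + 1}) : EtCoh.Ab X :=
  (constantSheaf X.smallEtaleTopology AddCommGrpCat.{u + 1}).obj M

theorem isLTorsion_cst {L : Set ℕ} (M : Type (u + 1)) [AddCommGroup M] [Finite M]
    (hM : ∀ m : M, ∃ k, EtAcyc.PrimesIn L k ∧ k • m = 0) : EtAcyc.IsLTorsion L (cst X (AddCommGrpCat.of M)) := by
  classical
  have := (const_exact X).1
  choose k hk hkm using hM
  have : Fintype M := Fintype.ofFinite M
  let N := ∏ m : M, k m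
  have hN : N • 𝟙 (AddCommGrpCat.of M) = 0 := ConcreteCategory.hom_ext _ _ fun m => by
    change N • m = 0
    obtain ⟨c, hc⟩ := Finset.dvd_prod_of_mem k (Finset.mem_univ m)
    rw [show N = k m * c from hc, mul_comm, mul_nsmul', hkm, smul_zero]
  intro U s x
  refine ⟨U, 𝟙 U, N, ⟨x, rfl⟩, EtTor93.primesIn_prod _ fun m _ => hk m, ?_⟩
  rw [← map_nsmul, Cons51.killedBy_of_nsmul (G := cst X (AddCommGrpCat.of M)) ?_ U s, map_zero]
  rw [← CategoryTheory.Functor.map_id, ← Functor.map_nsmul, hN, Functor.map_zero]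

theorem subsingleton_top_cst {ℓ n : ℕ} (hℓ : ℓ.Prime)
    (h : Subsingleton (EtCoh.H X (EtCoh.const X (ZMod ℓ)) n)) :
    ∀ (c : ℕ) (M : Type (u + 1)) [AddCommGroup M] [Finite M], Nat.card M ≤ c →
      (∀ m : M, ∃ k : ℕ, (ℓ ^ k) • m = 0) →
      Subsingleton (EtCoh.H X (cst X (AddCommGrpCat.of M)) n) := by
  intro c
  induction c with
  | zero =>
    intro M _ _ hc
    exact absurd hc (Nat.not_le.2 Nat.card_pos)
  | succ c ih =>
    intro M _ _ hc hM
    have := (const_exact X).1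
    rcases subsingleton_or_nontrivial M with hs | hne
    · refine subsingleton_of_forall_eq 0 fun y => ?_
      have hz : 𝟙 (cst X (AddCommGrpCat.of M)) = 0 :=
        ((constantSheaf X.smallEtaleTopology AddCommGrpCat.{u + 1}).map_isZero
          (AddCommGrpCat.isZero_of_subsingleton (AddCommGrpCat.of M))).eq_of_src _ _
      rw [← Ext.comp_mk₀_id y, hz, Ext.mk₀_zero, Ext.comp_zero]
    obtain ⟨a, ha⟩ := exists_addOrderOf_prime hℓ hM
    let A := AddSubgroup.zmultiples a
    have hA : Nat.card A = ℓ := (Nat.card_zmultiples a).trans ha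
    let e : ULift.{u + 1} (ZMod ℓ) ≃+ A :=
      AddEquiv.ulift.trans ((ZMod.ringEquivCongr hA.symm).toAddEquiv.trans (zmodAddCyclicAddEquiv inferInstance))
    let S : ShortComplex AddCommGrpCat.{u + 1} :=
      ShortComplex.mk (AddCommGrpCat.ofHom (A.subtype.comp e.toAddMonoidHom))
        (AddCommGrpCat.ofHom (QuotientAddGroup.mk' A))
        (ConcreteCategory.hom_ext _ _ fun z => (QuotientAddGroup.eq_zero_iff _).2 (e z).2)
    have hS : S.ShortExact :=
      { exact := by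
          rw [ShortComplex.ab_exact_iff]
          intro x hx
          exact ⟨e.symm ⟨x, (QuotientAddGroup.eq_zero_iff _).1 hx⟩,
            congrArg Subtype.val (e.apply_symm_apply _)⟩
        mono_f := (AddCommGrpCat.mono_iff_injective _).2 (Subtype.val_injective.comp e.injective)
        epi_g := (AddCommGrpCat.epi_iff_surjective _).2 (QuotientAddGroup.mk'_surjective A) }
    have hT := (const_exact X).2 S hS
    have hq : Subsingleton (EtCoh.H X (cst X (AddCommGrpCat.of (M ⧸ A))) n) := by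
      refine ih (M ⧸ A) ?_ fun q => ?_
      · have h1 := AddSubgroup.card_eq_card_quotient_mul_card_addSubgroup A
        rw [hA] at h1
        have h2 : 0 < Nat.card (M ⧸ A) := Nat.card_pos
        have h3 := hℓ.two_le
        nlinarith
      · obtain ⟨x, rfl⟩ := QuotientAddGroup.mk'_surjective A q
        obtain ⟨k, hk⟩ := hM x
        exact ⟨k, by rw [← map_nsmul, hk, map_zero]⟩
    refine subsingleton_of_forall_eq 0 fun y => ?_
    obtain ⟨z, rfl⟩ := Ext.covariant_sequence_exact₂ _ hT y (hq.elim _ _)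
    rw [h.elim z 0]
    exact Ext.zero_comp _ _ _ _ _
where
  exists_addOrderOf_prime {ℓ : ℕ} (hℓ : ℓ.Prime) {M : Type (u + 1)} [AddCommGroup M] [Finite M] [Nontrivial M]
      (hM : ∀ m : M, ∃ k : ℕ, (ℓ ^ k) • m = 0) : ∃ a : M, addOrderOf a = ℓ := by
    obtain ⟨m, hm⟩ := exists_ne (0 : M)
    obtain ⟨k, hk⟩ := hM m
    have : Fact ℓ.Prime := ⟨hℓ⟩
    obtain ⟨i, -, hi⟩ := (Nat.dvd_prime_pow hℓ).1 (addOrderOf_dvd_iff_nsmul_eq_zero.2 hk)
    have hd : ℓ ∣ addOrderOf m := by
      rw [hi]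
      refine dvd_pow_self ℓ fun h => hm ?_
      rw [h, pow_zero] at hi
      exact AddMonoid.addOrderOf_eq_one_iff.1 hi
    exact exists_prime_addOrderOf_dvd_card' ℓ (hd.trans (addOrderOf_dvd_natCard m))

/-- A nontrivial finite abelian `ℓ`-group surjects onto `ℤ/ℓ`. -/
theorem exists_surjective_zmod {ℓ : ℕ} (hℓ : ℓ.Prime) (M : Type (u + 1)) [AddCommGroup M] [Finite M] [Nontrivial M]
    (hM : ∀ m : M, ∃ k : ℕ, (ℓ ^ k) • m = 0) :
    ∃ π : M →+ ULift.{u + 1} (ZMod ℓ), Function.Surjective π := by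
  have : Fact ℓ.Prime := ⟨hℓ⟩
  let R := (nsmulAddMonoidHom ℓ : M →+ M).range
  have hR : R ≠ ⊤ := fun h => by
    obtain ⟨a, ha⟩ := subsingleton_top_cst.exists_addOrderOf_prime hℓ hM
    have hinj := Finite.injective_iff_surjective.2 (AddMonoidHom.range_eq_top.1 h)
    have h0 : a = 0 := hinj (show ℓ • a = ℓ • (0 : M) by rw [smul_zero, ← ha, addOrderOf_nsmul_eq_zero])
    rw [h0, addOrderOf_zero] at ha
    exact hℓ.one_lt.ne ha
  obtain ⟨x, hx⟩ : ∃ x, x ∉ R := by
    by_contra hne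
    push Not at hne
    exact hR (eq_top_iff.2 fun z _ => hne z)
  let : Module (ZMod ℓ) (M ⧸ R) := AddCommGroup.zmodModule fun q => by
    obtain ⟨y, rfl⟩ := QuotientAddGroup.mk'_surjective R q
    rw [← map_nsmul]
    exact (QuotientAddGroup.eq_zero_iff _).2 ⟨y, rfl⟩
  have hq0 : QuotientAddGroup.mk' R x ≠ 0 := fun h => hx ((QuotientAddGroup.eq_zero_iff _).1 h)
  obtain ⟨φ, hφ⟩ : ∃ φ : (M ⧸ R) →ₗ[ZMod ℓ] ZMod ℓ, φ.toFun (QuotientAddGroup.mk' R x) ≠ 0 := by
    let b := Module.Basis.ofVectorSpace (ZMod ℓ) (M ⧸ R)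
    obtain ⟨i, hi⟩ : ∃ i, b.repr (QuotientAddGroup.mk' R x) i ≠ 0 := by
      by_contra hne
      push Not at hne
      exact hq0 (b.repr.map_eq_zero_iff.1 (Finsupp.ext hne))
    exact ⟨b.coord i, hi⟩
  let ψ : M →+ ZMod ℓ := φ.toAddMonoidHom.comp (QuotientAddGroup.mk' R)
  have hψ : ψ x ≠ 0 := hφ
  refine ⟨AddEquiv.ulift.symm.toAddMonoidHom.comp ψ, fun z => ⟨(z.down * (ψ x)⁻¹).val • x, ULift.ext _ _ ?_⟩⟩
  change ψ ((z.down * (ψ x)⁻¹).val • x) = z.down
  rw [map_nsmul, nsmul_eq_mul, ZMod.natCast_val, ZMod.cast_id, inv_mul_cancel_right₀ hψ]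

variable (K : Type u) [Field K]

theorem flc_of_constructible_field {F : EtCoh.Ab (Spec (CommRingCat.of K))} (hF : EtPBC.IsConstructible F) :
    EtCoh.IsFiniteLocallyConstant F := by
  obtain ⟨n, T, g, hg, -, -, hcov, hflc⟩ := hF ⊤ (isAffineOpen_top _)
  refine Cons51.flc_of_etale_cover fun x => ?_
  have hx : x ∈ ⋃ i, Set.range (g i) := by rw [hcov]; trivial
  obtain ⟨i, hi⟩ := Set.mem_iUnion.1 hx
  have := hg i
  have : Subsingleton (Spec (CommRingCat.of K) : Scheme.{u}) :=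
    (inferInstance : Subsingleton (PrimeSpectrum K))
  have : Surjective (g i) := ⟨fun y => by
    obtain ⟨t, ht⟩ := hi
    exact ⟨t, ht.trans (Subsingleton.elim x y)⟩⟩
  have : IsClosedImmersion (g i) := IsClosedImmersion.of_isPreimmersion _ (by
    rw [(g i).surjective.range_eq]; exact isClosed_univ)
  have := isIso_of_isClosedImmersion_of_surjective (g i)
  exact ⟨_, g i, inferInstance, hi, hflc i⟩

/-- A constructible torsion sheaf on a field is constant over a finite separable extension. -/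
theorem exists_const {L : Set ℕ} {F : EtCoh.Ab (Spec (CommRingCat.of K))} (hF : EtPBC.IsConstructible F)
    (ht : EtAcyc.IsLTorsion L F) :
    ∃ (E : Type u) (_ : Field E) (_ : Algebra K E) (_ : Module.Finite K E) (_ : Algebra.IsSeparable K E)
      (M : Type (u + 1)) (_ : AddCommGroup M) (_ : Finite M),
      (∀ m : M, ∃ k, EtAcyc.PrimesIn L k ∧ k • m = 0) ∧
      Nonempty (cst (Spec (CommRingCat.of E)) (AddCommGrpCat.of M) ≅
        (EtCoh.pull (Spec.map (CommRingCat.ofHom (algebraMap K E)))).obj F) := by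
  obtain ⟨V, v, M, _, _, σ, -, hσ⟩ :=
    (LocConst45.finiteLocallyConstant_iff F).1 (flc_of_constructible_field K hF) default
  obtain ⟨ι, E, _, _, _, _, e, he⟩ := (etale_field_iff V.hom).1 V.prop
  obtain ⟨i, y, -⟩ := (sigmaOpenCover fun i => Spec (CommRingCat.of (E i))).exists_eq (e.inv v)
  let q : Spec (CommRingCat.of (E i)) ⟶ V.left := Sigma.ι (fun i => Spec (CommRingCat.of (E i))) i ≫ e.hom
  have hq : q ≫ V.hom = Spec.map (CommRingCat.ofHom (algebraMap K (E i))) := (Category.assoc _ _ _).trans (he i)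
  obtain ⟨c⟩ := exists_cst_iso hσ
  refine ⟨E i, inferInstance, inferInstance, inferInstance, inferInstance, M, inferInstance, inferInstance,
    fun m => ?_, ⟨((EtCore.pullConstIso q).app (AddCommGrpCat.of M)).symm ≪≫ (EtCoh.pull q).mapIso c ≪≫
      ((EtCore.pullComp q V.hom).app F).symm ≪≫ (EtCore.pullCongr hq).app F⟩⟩
  obtain ⟨B, hB, hvB, -⟩ := exists_isAffineOpen_mem_and_subset (X := V.left) (x := v) (U := ⊤) trivial
  have : IsAffine (openSub V B).left := hB
  obtain ⟨k, hk, hkm⟩ := EtTor93.exists_smul_eq_zero ht (openSub V B) (F.obj.map (openSubι V B).op (σ m))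
  refine ⟨k, hk, hσ.inj (openSub V B) (openSubι V B) _ ⟨⟨v, hvB⟩⟩ ?_⟩
  rw [map_nsmul, map_nsmul]
  exact hkm

theorem spec_finite_etale (L : Type u) [Field L] [Algebra K L] [Module.Finite K L] [Algebra.IsSeparable K L] :
    IsFinite (Spec.map (CommRingCat.ofHom (algebraMap K L))) ∧
      Etale (Spec.map (CommRingCat.ofHom (algebraMap K L))) ∧
      Surjective (Spec.map (CommRingCat.ofHom (algebraMap K L))) :=
  ⟨(IsFinite.SpecMap_iff _).2 (RingHom.finite_algebraMap.2 ‹_›), GalCoh84.etale_specMap L,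
    ⟨fun _ => ⟨default, Subsingleton.elim _ _⟩⟩⟩

/-- Some finite separable extension carries top degree cohomology of `ℤ/ℓ`. -/
theorem exists_top_zmod_ne_zero (ℓ : ℕ) (hℓ : ℓ.Prime) (n : ℕ)
    (hcd : EtDepth.CohDimLLE (Spec (CommRingCat.of K)) ℓ n)
    (hcd' : ∀ d : ℕ, d < n → ¬ EtDepth.CohDimLLE (Spec (CommRingCat.of K)) ℓ d) :
    ∃ (E : Type u) (_ : Field E) (_ : Algebra K E) (_ : Module.Finite K E) (_ : Algebra.IsSeparable K E),
      ¬ Subsingleton (EtCoh.H (Spec (CommRingCat.of E)) (EtCoh.const _ (ZMod ℓ)) n) := by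
  have : Fact ℓ.Prime := ⟨hℓ⟩
  obtain ⟨G, hG, hne⟩ : ∃ G : EtCoh.Ab (Spec (CommRingCat.of K)), EtDepth.IsLTorsion ℓ G ∧
      Nontrivial (EtCoh.H (Spec (CommRingCat.of K)) G n) := by
    obtain _ | m := n
    · have hz : EtDepth.IsLTorsion ℓ (EtCoh.const (Spec (CommRingCat.of K)) (ZMod ℓ)) :=
        (isLTorsion_iff hℓ _).2 (isLTorsion_cst (ULift.{u + 1} (ZMod ℓ)) fun z =>
          ⟨ℓ, (congrArg (EtAcyc.PrimesIn {ℓ}) (pow_one ℓ)).mp (primesIn_pow hℓ 1), ULift.ext _ _ ((nsmul_eq_mul _ _).trans (by simp))⟩)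
      refine ⟨_, hz, ?_⟩
      have := (const_exact (Spec (CommRingCat.of K))).1
      let c : AddCommGrpCat.of (ULift.{u + 1} ℤ) ⟶ AddCommGrpCat.of (ULift.{u + 1} (ZMod ℓ)) :=
        AddCommGrpCat.ofHom (AddEquiv.ulift.symm.toAddMonoidHom.comp
          ((Int.castAddHom (ZMod ℓ)).comp AddEquiv.ulift.toAddMonoidHom))
      let φ : EtCoh.const (Spec (CommRingCat.of K)) ℤ ⟶ EtCoh.const (Spec (CommRingCat.of K)) (ZMod ℓ) :=
        (constantSheaf _ AddCommGrpCat.{u + 1}).map c
      refine nontrivial_of_ne (Ext.mk₀ φ) 0 fun h0 => ?_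
      have h1 : φ = 0 := (Ext.mk₀_bijective _ _).1 (h0.trans (Ext.mk₀_zero _ _).symm)
      have : Epi c := (AddCommGrpCat.epi_iff_surjective _).2 fun z => by
        obtain ⟨w, hw⟩ := ZMod.intCast_surjective z.down
        exact ⟨⟨w⟩, ULift.ext _ _ hw⟩
      have : Epi φ := inferInstanceAs (Epi ((constantSheaf _ AddCommGrpCat.{u + 1}).map c))
      have h2 : 𝟙 (EtCoh.const (Spec (CommRingCat.of K)) (ZMod ℓ)) = 0 :=
        (cancel_epi φ).1 (by rw [Category.comp_id, comp_zero]; exact h1)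
      have hone : (ULift.up 1 : ULift.{u + 1} (ZMod ℓ)) = 0 :=
        (LocConst45.isTriv_const (AddCommGrpCat.of (ULift.{u + 1} (ZMod ℓ))) (EtCoh.top _)).inj
          (EtCoh.top (Spec (CommRingCat.of K))) (𝟙 _) _ ⟨(default : PrimeSpectrum K)⟩
          (ConcreteCategory.congr_hom
            (congrArg (fun k : EtCoh.const (Spec (CommRingCat.of K)) (ZMod ℓ) ⟶ _ => k.hom.app (op (EtCoh.top _))) h2) _)
      exact one_ne_zero (congrArg ULift.down hone)
    · have h' := hcd' m m.lt_succ_self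
      simp only [EtDepth.CohDimLLE, not_forall] at h'
      obtain ⟨G, hG, q, hq, hne⟩ := h'
      obtain rfl : q = m + 1 := by
        by_contra hne'
        exact hne (hcd G hG q (by omega))
      exact ⟨G, hG, not_subsingleton_iff_nontrivial.1 hne⟩
  obtain ⟨C, hC, hCt, hCne⟩ := exists_constructible_of_nontrivial_H ((isLTorsion_iff hℓ G).1 hG) hne
  obtain ⟨E, _, _, _, _, M, _, _, hM, ⟨e⟩⟩ := exists_const K hC hCt
  refine ⟨E, inferInstance, inferInstance, inferInstance, inferInstance, fun h => not_nontrivial_iff_subsingleton.2 ?_ hCne⟩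
  obtain ⟨_, _, _⟩ := spec_finite_etale K E
  refine subsingleton_top_descend hℓ (Spec.map (CommRingCat.ofHom (algebraMap K E))) hcd ((isLTorsion_iff hℓ _).2 hCt)
    (subsingleton_H_of_iso e (subsingleton_top_cst hℓ h (Nat.card M) M le_rfl fun m => ?_))
  obtain ⟨k, hk, hkm⟩ := hM m
  obtain ⟨j, rfl⟩ := primesIn_singleton hk
  exact ⟨j, hkm⟩

/-- A nonzero constructible `ℓ`-torsion sheaf has nonzero top degree cohomology over some finite separable
extension. -/
theorem exists_top_ne_zero (ℓ : ℕ) (hℓ : ℓ.Prime) (F : EtCoh.Ab (Spec (CommRingCat.of K)))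
    (hF : EtDepth.IsLTorsion ℓ F) (hFc : EtPBC.IsConstructible F) (hF0 : ¬ IsZero F) (n : ℕ)
    (hcd : EtDepth.CohDimLLE (Spec (CommRingCat.of K)) ℓ n)
    (hcd' : ∀ d : ℕ, d < n → ¬ EtDepth.CohDimLLE (Spec (CommRingCat.of K)) ℓ d) :
    ∃ (L : Type u) (_ : Field L) (_ : Algebra K L) (_ : Module.Finite K L) (_ : Algebra.IsSeparable K L),
      Nontrivial (EtCoh.H (Spec (CommRingCat.of L))
        ((EtCoh.pull (Spec.map (CommRingCat.ofHom (algebraMap K L)))).obj F) n) := by
  obtain ⟨E, _, _, _, _, hE⟩ := exists_top_zmod_ne_zero K ℓ hℓ n hcd hcd'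
  let f := Spec.map (CommRingCat.ofHom (algebraMap K E))
  obtain ⟨_, _, _⟩ : IsFinite f ∧ Etale f ∧ Surjective f := spec_finite_etale K E
  have hFE := isLTorsion_pull f ((isLTorsion_iff hℓ F).1 hF)
  obtain ⟨L, _, _, _, _, M, _, _, hM, ⟨e⟩⟩ := exists_const E
    (Cons51.isConstructible_of_flc (LocConst45.isFiniteLocallyConstant_pull f (flc_of_constructible_field K hFc))) hFE
  let g := Spec.map (CommRingCat.ofHom (algebraMap E L))
  obtain ⟨_, _, _⟩ : IsFinite g ∧ Etale g ∧ Surjective g := spec_finite_etale E L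
  let : Algebra K L := ((algebraMap E L).comp (algebraMap K E)).toAlgebra
  have : IsScalarTower K E L := IsScalarTower.of_algebraMap_eq fun _ => rfl
  have hw : g ≫ f = Spec.map (CommRingCat.ofHom (algebraMap K L)) := (Spec.map_comp _ _).symm
  refine ⟨L, inferInstance, inferInstance, Module.Finite.trans E L, Algebra.IsSeparable.trans K E L,
    not_subsingleton_iff_nontrivial.1 fun h => hE ?_⟩
  let e' : cst (Spec (CommRingCat.of L)) (AddCommGrpCat.of M) ≅
      (EtCoh.pull (Spec.map (CommRingCat.ofHom (algebraMap K L)))).obj F :=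
    e ≪≫ ((EtCore.pullComp g f).app F).symm ≪≫ (EtCore.pullCongr hw).app F
  have hcdE := cohDimLLE_of_finite hℓ f hcd
  have hMℓ : ∀ m : M, ∃ k : ℕ, (ℓ ^ k) • m = 0 := fun m => by
    obtain ⟨k, hk, hkm⟩ := hM m
    obtain ⟨j, rfl⟩ := primesIn_singleton hk
    exact ⟨j, hkm⟩
  have : Nontrivial M := not_subsingleton_iff_nontrivial.1 fun _ => hF0 ?_
  · have := (const_exact (Spec (CommRingCat.of L))).1
    have : Fact ℓ.Prime := ⟨hℓ⟩
    obtain ⟨π, hπ⟩ := exists_surjective_zmod hℓ M hMℓ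
    have : Epi (AddCommGrpCat.ofHom π) := (AddCommGrpCat.epi_iff_surjective _).2 hπ
    have hz : EtDepth.IsLTorsion ℓ (EtCoh.const (Spec (CommRingCat.of E)) (ZMod ℓ)) :=
      (isLTorsion_iff hℓ _).2 (isLTorsion_cst (ULift.{u + 1} (ZMod ℓ)) fun z => by
        obtain ⟨x, rfl⟩ := hπ z
        obtain ⟨k, hk, hkm⟩ := hM x
        exact ⟨k, hk, by rw [← map_nsmul, hkm, map_zero]⟩)
    refine subsingleton_top_descend hℓ g hcdE hz (subsingleton_H_of_iso (EtCore.pullConst g (ZMod ℓ)).symm ?_)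
    exact subsingleton_top_of_epi hℓ (cohDimLLE_of_finite hℓ g hcdE)
      ((constantSheaf _ AddCommGrpCat.{u + 1}).map (AddCommGrpCat.ofHom π))
      ((isLTorsion_iff hℓ _).2 (isLTorsion_cst M hM)) (subsingleton_H_of_iso e'.symm h)
  · have := (const_exact (Spec (CommRingCat.of L))).1
    have h1 : IsZero ((EtCoh.pull g).obj ((EtCoh.pull f).obj F)) :=
      ((constantSheaf _ AddCommGrpCat.{u + 1}).map_isZero
        (AddCommGrpCat.isZero_of_subsingleton (AddCommGrpCat.of M))).of_iso e.symm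
    have key : ∀ {A B : Scheme.{u}} (φ : A ⟶ B) [IsFinite φ] [Etale φ] [Surjective φ] (G : EtCoh.Ab B),
        IsZero ((EtCoh.pull φ).obj G) → IsZero G := fun φ _ _ _ G hG => by
      have := epi_traceR φ G
      exact IsZero.of_epi_eq_zero ((EtCoh.push φ).map ((pullRestrIso φ).hom.app G) ≫ EtTrace93.traceR φ G)
        (((EtCoh.push φ).map_isZero hG).eq_of_src _ _)
    exact key f F (key g _ h1)

end Groth.Agent.Depth22
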