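import Groth.Prelude.Def_Hens2
import Groth.Prelude.Def_Hensel
import Groth.Agent.Henz21.LocalProps
import Groth.Agent.Henz21.Henselization
import Mathlib.AlgebraicGeometry.Morphisms.Affine
import Mathlib.AlgebraicGeometry.Morphisms.Etale
import Mathlib.CategoryTheory.Presentable.Directed

/-!
The spectrum of a strict henselization as a directed limit of affine etale neighbourhoods.
-/

set_option autoImplicit false
set_option backward.isDefEq.respectTransparency.types false
universe u

open CategoryTheory CategoryTheory.Limits AlgebraicGeometry Opposite IsLocalRing Polynomial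

namespace Groth.Agent.Depth22

section Algebra

/-- A strict henselization of a localization is the colimit of the etale algebras with a point in its
residue field. -/
theorem exists_H_equiv (A : Type u) [CommRing A] (p : Ideal A) [p.IsPrime] (L : Type u) [CommRing L] [Algebra A L]
  [IsLocalization.AtPrime L p] [IsLocalRing L]
  (R : Type u) [CommRing R] [IsLocalRing R] [Algebra L R] [IsLocalHom (algebraMap L R)]
  [hS : Hensel.IsStrictHenselization L R] [Algebra A R] [IsScalarTower A L R] :
    Nonempty (Henz21.H A (ResidueField R) ≃ₐ[A] R) := by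
  let K := ResidueField R
  have := hS.henselian
  have := hS.isSepClosure.sep_closed
  have hsep : Algebra.IsSeparable (ResidueField L) K := hS.isSepClosure.separable
  let H := Henz21.H A K
  have hunit : ∀ y : p.primeCompl, IsUnit (algebraMap A H y) := fun y => by
    refine Henz21.H.isUnit_of_isUnit_proj ?_
    rw [AlgHom.commutes, IsScalarTower.algebraMap_apply A L K]
    exact (IsLocalization.map_units L y).map (algebraMap L K)
  let f : L →+* H := IsLocalization.lift (M := p.primeCompl) (g := algebraMap A H) hunit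
  have hf : f.comp (algebraMap A L) = algebraMap A H := IsLocalization.lift_comp _
  have hprojf : (Henz21.H.proj A K).toRingHom.comp f = algebraMap L K :=
    IsLocalization.ringHom_ext p.primeCompl (by
      rw [RingHom.comp_assoc, hf, AlgHom.toRingHom_eq_coe, AlgHom.comp_algebraMap, ← IsScalarTower.algebraMap_eq])
  have hKloc : IsLocalHom (algebraMap L K) := by
    rw [IsScalarTower.algebraMap_eq L R K, ResidueField.algebraMap_eq]
    exact RingHom.isLocalHom_comp _ _
  have : IsLocalHom f := ⟨fun x hx => by
    have h1 := hx.map (Henz21.H.proj A K).toRingHom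
    rw [← RingHom.comp_apply, hprojf] at h1
    exact isUnit_of_map_unit _ _ h1⟩
  have hsurj : Function.Surjective (Henz21.H.proj A K) := fun α => by
    have hi : IsIntegral (ResidueField L) α := Algebra.IsIntegral.isIntegral α
    obtain ⟨q, hq, -, hqm⟩ := Polynomial.lifts_and_natDegree_eq_and_monic
      (Polynomial.map_surjective (residue L) residue_surjective (minpoly (ResidueField L) α)) (minpoly.monic hi)
    have h1 : ∀ r : L[X], r.eval₂ (algebraMap L K) α = aeval α (r.map (residue L)) := fun r => by
      rw [aeval_def, eval₂_map, ← ResidueField.algebraMap_eq, ← IsScalarTower.algebraMap_eq]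
    obtain ⟨a, -, ha⟩ := Henz21.H.exists_root (K := K) (q.map f) (hqm.map _) α
      (by rw [eval₂_map, hprojf, h1, hq, minpoly.aeval])
      (by
        rw [derivative_map, eval₂_map, hprojf, h1, ← derivative_map, hq, isUnit_iff_ne_zero]
        exact (Algebra.IsSeparable.isSeparable (ResidueField L) α).aeval_derivative_ne_zero (minpoly.aeval _ _))
    exact ⟨a, ha⟩
  have : IsLocalHom (Henz21.H.proj A K).toRingHom := ⟨fun _ h => Henz21.H.isUnit_of_isUnit_proj h⟩
  let p' : ResidueField H →+* K := ResidueField.lift (Henz21.H.proj A K).toRingHom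
  have hp' : ∀ x, p' (residue H x) = Henz21.H.proj A K x := fun x => rfl
  let e' : ResidueField H ≃+* K := RingEquiv.ofBijective p' ⟨p'.injective, fun y => by
    obtain ⟨x, rfl⟩ := hsurj y
    exact ⟨residue H x, hp' x⟩⟩
  obtain ⟨h, ⟨hh1, hh2⟩, -⟩ := hS.universal H f e'.symm.toRingHom (RingHom.ext fun x => by
    obtain ⟨l, rfl⟩ := residue_surjective x
    show e'.symm (residue R (algebraMap L R l)) = residue H (f l)
    rw [RingEquiv.symm_apply_eq]
    exact (RingHom.congr_fun hprojf l).symm)
  have hcomm : ∀ a : A, h (algebraMap A R a) = algebraMap A H a := fun a => by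
    rw [IsScalarTower.algebraMap_apply A L R, ← RingHom.comp_apply, hh1, ← RingHom.comp_apply, hf]
  let hA : R →ₐ[A] H := { h with commutes' := hcomm }
  obtain ⟨g, hg, -⟩ := Henz21.H.existsUnique_lift (T := R) (Henz21.H.proj A K)
  have hgr : ∀ x, residue R (g x) = Henz21.H.proj A K x := fun x => DFunLike.congr_fun hg x
  have e1 : g.comp hA = AlgHom.id A R := by
    have hL : (g.toRingHom.comp h).comp (algebraMap L R) = algebraMap L R :=
      IsLocalization.ringHom_ext p.primeCompl (by
        rw [RingHom.comp_assoc, RingHom.comp_assoc, ← IsScalarTower.algebraMap_eq]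
        ext a
        show g (hA (algebraMap A R a)) = algebraMap A R a
        rw [AlgHom.commutes, AlgHom.commutes])
    obtain ⟨_, -, huniq⟩ := hS.universal R (algebraMap L R) (RingHom.id _) (by rw [RingHom.id_comp])
    have hres : ∀ x, residue R (g (h x)) = residue R x := fun x => by
      rw [hgr, ← hp', hh2]
      exact e'.apply_symm_apply _
    exact AlgHom.ext (RingHom.congr_fun ((huniq _ ⟨hL, hres⟩).trans
      (huniq _ ⟨RingHom.id_comp _, fun x => rfl⟩).symm))
  have e2 : hA.comp g = AlgHom.id A H := by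
    obtain ⟨_, -, huniq⟩ := Henz21.H.existsUnique_lift (T := H) (IsScalarTower.toAlgHom A H (ResidueField H))
    refine (huniq _ (AlgHom.ext fun x => ?_)).trans (huniq _ (AlgHom.comp_id _)).symm
    show residue H (h (g x)) = residue H x
    rw [hh2, hgr, ← hp']
    exact e'.symm_apply_apply (residue H x)
  exact ⟨AlgEquiv.ofAlgHom g hA e1 e2⟩

end Algebra

/-- Affine etale neighbourhoods presenting a strict henselization. -/
theorem exists_sh_presentation (X : Scheme.{u}) (y : X) (R : Type u) [CommRing R] [IsLocalRing R]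
    [Algebra (X.presheaf.stalk y) R] [IsLocalHom (algebraMap (X.presheaf.stalk y) R)]
    [Hensel.IsStrictHenselization (X.presheaf.stalk y) R] :
    ∃ (ι : Type u) (_ : Preorder ι) (_ : IsDirected ι (· ≤ ·)) (_ : Nonempty ι) (Xs : ιᵒᵖ ⥤ Scheme.{u})
      (_ : ∀ a, IsAffine (Xs.obj a)) (t : ∀ j : ι, Xs.obj (op j) ⟶ X) (_ : ∀ j, Etale (t j))
      (c : (Functor.const ιᵒᵖ).obj (Spec (CommRingCat.of R)) ⟶ Xs),
      (∀ i j (h : i ≤ j), Xs.map (homOfLE h).op ≫ t i = t j) ∧
      (∀ j, c.app (op j) ≫ t j = Hens2.specOf X y R) ∧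
      Nonempty (IsLimit (Cone.mk _ c)) := by
  obtain ⟨W, hW, hyW, -⟩ := exists_isAffineOpen_mem_and_subset (X := X) (x := y) (U := ⊤) trivial
  let A : Type u := Γ(X, W)
  let gm : Γ(X, W) ⟶ X.presheaf.stalk y := X.presheaf.germ W y hyW
  let : Algebra A (X.presheaf.stalk y) := gm.hom.toAlgebra
  let : Algebra A R := ((algebraMap (X.presheaf.stalk y) R).comp gm.hom).toAlgebra
  have : IsScalarTower A (X.presheaf.stalk y) R := IsScalarTower.of_algebraMap_eq fun _ => rfl
  let p := (hW.primeIdealOf ⟨y, hyW⟩).asIdeal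
  have : IsLocalization.AtPrime (X.presheaf.stalk y) p := hW.isLocalization_stalk ⟨y, hyW⟩
  obtain ⟨e⟩ := exists_H_equiv A p (X.presheaf.stalk y) R
  let K := ResidueField R
  obtain ⟨ι, _, _, _, F, hF⟩ := IsFiltered.exists_directed (Henz21.Pt A K)
  let D : Henz21.Pt A K ⥤ CommRingCat.{u} := Henz21.Pt.diagram A K
  let cc : Cocone D := (colimit.cocone D).extend
    (CommRingCat.ofHom e.toRingEquiv.toRingHom : colimit D ⟶ CommRingCat.of R)
  have : IsIso (CommRingCat.ofHom e.toRingEquiv.toRingHom : colimit D ⟶ CommRingCat.of R) :=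
    e.toRingEquiv.toCommRingCatIso.isIso_hom
  have hcc : IsColimit cc := IsColimit.extendIso _ (colimit.isColimit D)
  let hccF : IsColimit (cc.whisker F) := (Functor.Final.isColimitWhiskerEquiv F cc).symm hcc
  let Xs : ιᵒᵖ ⥤ Scheme.{u} := (F ⋙ D).op ⋙ Scheme.Spec
  let c : (Functor.const ιᵒᵖ).obj (Spec (CommRingCat.of R)) ⟶ Xs :=
    (Scheme.Spec.mapCone (cc.whisker F).op).π
  let t : ∀ j : ι, Xs.obj (op j) ⟶ X := fun j =>
    Spec.map (CommRingCat.ofHom (algebraMap A (F.obj j).S)) ≫ hW.fromSpec
  refine ⟨ι, inferInstance, inferInstance, inferInstance, Xs, fun a => ?_, t, fun j => ?_, c, ?_, ?_, ?_⟩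
  · exact inferInstanceAs (IsAffine (Spec _))
  · have : Algebra.Etale A (F.obj j).S := inferInstance
    have : Etale (Spec.map (CommRingCat.ofHom (algebraMap A (F.obj j).S))) :=
      HasRingHomProperty.Spec_iff.2 (RingHom.etale_algebraMap.2 this)
    show Etale (Spec.map (CommRingCat.ofHom (algebraMap A (F.obj j).S)) ≫ hW.fromSpec)
    infer_instance
  · intro i j h
    rw [← Category.assoc]
    refine congrArg (· ≫ hW.fromSpec) ((Spec.map_comp _ _).symm.trans (congrArg Spec.map ?_))
    exact CommRingCat.hom_ext (AlgHom.comp_algebraMap (F.map (homOfLE h)).φ)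
  · intro j
    rw [Hens2.specOf, ← hW.fromSpecStalk_eq_fromSpecStalk hyW, IsAffineOpen.fromSpecStalk]
    refine (Category.assoc _ _ _).symm.trans (Eq.trans ?_ (Category.assoc _ _ _))
    refine congrArg (· ≫ hW.fromSpec) ((Spec.map_comp _ _).symm.trans (Eq.trans ?_ (Spec.map_comp _ _)))
    refine congrArg Spec.map (CommRingCat.hom_ext (RingHom.ext fun a => ?_))
    show e (Henz21.H.incl (F.obj j) (algebraMap A (F.obj j).S a)) = algebraMap A R a
    rw [AlgHom.commutes, AlgEquiv.commutes]
  · exact ⟨(IsLimit.ofIsoLimit (isLimitOfPreserves Scheme.Spec hccF.op) (Cone.ext (Iso.refl _) fun j =>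
      (Category.id_comp _).symm) : IsLimit (Cone.mk _ c))⟩

end Groth.Agent.Depth22
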