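import Groth.Prelude.Def_EtDepth
import Groth.Agent.EtTor93.Hpull
import Groth.Agent.Cons51.Colim
import Groth.Agent.Cons51.Gen
import Groth.Agent.Cons51.Present
import Groth.Agent.Unr55.Et.HFiltColim

/-!
`ℓ`-torsion sheaves: permanence, and presentation as filtered colimits of constructible `ℓ`-torsion sheaves.
-/

set_option autoImplicit false
set_option backward.isDefEq.respectTransparency.types false
universe u

open CategoryTheory CategoryTheory.Limits AlgebraicGeometry Opposite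
open Groth.Agent.Unr55.EtSh Groth.Agent.EtTor93
open scoped ZeroObject

namespace Groth.Agent.Depth22

variable {X Y : Scheme.{u}}

theorem primesIn_singleton {ℓ m : ℕ} (h : EtAcyc.PrimesIn {ℓ} m) : ∃ k, m = ℓ ^ k :=
  ⟨_, Nat.eq_prime_pow_of_unique_prime_dvd h.1.ne' fun {p} hp hd => h.2 p hp hd⟩

theorem primesIn_pow {ℓ : ℕ} (hℓ : ℓ.Prime) (k : ℕ) : EtAcyc.PrimesIn {ℓ} (ℓ ^ k) :=
  ⟨pow_pos hℓ.pos k, fun _ hp hd => (Nat.prime_dvd_prime_iff_eq hp hℓ).1 (hp.dvd_of_dvd_pow hd)⟩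

theorem isLTorsion_iff {ℓ : ℕ} (hℓ : ℓ.Prime) (F : EtCoh.Ab X) :
    EtDepth.IsLTorsion ℓ F ↔ EtAcyc.IsLTorsion {ℓ} F := by
  constructor
  · intro h U s x
    obtain ⟨V, g, hv, k, hk⟩ := h U s x
    exact ⟨V, g, ℓ ^ k, hv, primesIn_pow hℓ k, hk⟩
  · intro h U s x
    obtain ⟨V, g, m, hv, hm, hk⟩ := h U s x
    obtain ⟨k, rfl⟩ := primesIn_singleton hm
    exact ⟨V, g, hv, k, hk⟩

theorem isLTorsion_of_iso {L : Set ℕ} {F G : EtCoh.Ab X} (e : F ≅ G) (h : EtAcyc.IsLTorsion L F) :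
    EtAcyc.IsLTorsion L G :=
  EtTor93.isLTorsion_of_epi e.hom h

theorem isLTorsion_of_mono {L : Set ℕ} {F G : EtCoh.Ab X} (v : F ⟶ G) [Mono v]
    (h : EtAcyc.IsLTorsion L G) : EtAcyc.IsLTorsion L F :=
  isLTorsion_of_stalks fun K _ _ ξ t => by
    obtain ⟨m, hm, hs⟩ := stalk_torsion h ξ ((EtCoh.stalk ξ).map v t)
    refine ⟨m, hm, (AddCommGrpCat.mono_iff_injective _).1 (inferInstance : Mono ((EtCoh.stalk ξ).map v)) ?_⟩
    rw [map_nsmul, hs, map_zero]

theorem isLTorsion_zero (L : Set ℕ) : EtAcyc.IsLTorsion L (0 : EtCoh.Ab X) :=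
  isLTorsion_of_stalks fun K _ _ ξ t => ⟨1, primesIn_one L, by
    have := AddCommGrpCat.subsingleton_of_isZero ((EtCoh.stalk ξ).map_isZero (isZero_zero (EtCoh.Ab X)))
    exact Subsingleton.elim _ _⟩

theorem isLTorsion_extension {L : Set ℕ} {S : ShortComplex (EtCoh.Ab X)} (hS : S.ShortExact)
    (h₁ : EtAcyc.IsLTorsion L S.X₁) (h₃ : EtAcyc.IsLTorsion L S.X₃) : EtAcyc.IsLTorsion L S.X₂ :=
  isLTorsion_of_stalks fun K _ _ ξ t => by
    obtain ⟨m, hm, ht⟩ := stalk_torsion h₃ ξ ((EtCoh.stalk ξ).map S.g t)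
    have hT := hS.map_of_exact (EtCoh.stalk ξ)
    obtain ⟨s, hs⟩ := (ShortComplex.ab_exact_iff _).1 hT.exact (m • t) ((map_nsmul _ m t).trans ht)
    obtain ⟨m', hm', hs'⟩ := stalk_torsion h₁ ξ s
    refine ⟨m' * m, primesIn_mul hm' hm, ?_⟩
    refine (mul_nsmul' t m' m).trans ((congrArg (m' • ·) hs.symm).trans ?_)
    exact (map_nsmul ((EtCoh.stalk ξ).map S.f).hom m' s).symm.trans
      ((congrArg ((EtCoh.stalk ξ).map S.f).hom hs').trans (map_zero _))

theorem isLTorsion_push {L : Set ℕ} (f : X ⟶ Y) [QuasiCompact f] {F : EtCoh.Ab X}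
    (hF : EtAcyc.IsLTorsion L F) : EtAcyc.IsLTorsion L ((EtCoh.push f).obj F) := fun U s x => by
  obtain ⟨B, hB, hxB, -⟩ := exists_isAffineOpen_mem_and_subset (X := U.left) (x := x) (U := ⊤) trivial
  let V := openSub U B
  have : IsAffine V.left := hB
  have : CompactSpace ((EtCoh.bc f).obj V).left := by
    change CompactSpace ↥(pullback V.hom f)
    have : CompactSpace ↥((𝟭 Scheme.{u}).obj V.left) := inferInstanceAs (CompactSpace V.left)
    exact QuasiCompact.compactSpace_of_compactSpace (pullback.fst V.hom f)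
  obtain ⟨m, hm, hs⟩ := exists_smul_eq_zero hF ((EtCoh.bc f).obj V)
    (((EtCoh.push f).obj F).obj.map (openSubι U B).op s)
  exact ⟨V, openSubι U B, m, ⟨⟨x, hxB⟩, rfl⟩, hm, hs⟩

theorem isLTorsion_pull {L : Set ℕ} (f : X ⟶ Y) {F : EtCoh.Ab Y}
    (hF : EtAcyc.IsLTorsion L F) : EtAcyc.IsLTorsion L ((EtCoh.pull f).obj F) :=
  isLTorsion_of_stalks fun K _ _ ξ t => by
    let e := ((stalkPullIso f ξ).app F).addCommGroupIsoToAddEquiv
    obtain ⟨m, hm, hs⟩ := stalk_torsion hF (ξ ≫ f) (e t)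
    exact ⟨m, hm, e.injective ((map_nsmul e m t).trans (hs.trans (map_zero e).symm))⟩

theorem nsmul_id_extZeroConst (W : X.Etale) (n : ℕ) : n • 𝟙 (EtPBC.extZeroConst W (ZMod n)) = 0 := by
  obtain ⟨g, hg, hu⟩ := Cons51.exists_universal W n
  refine (hu _).2 ?_
  let ev : (EtPBC.extZeroConst W (ZMod n) ⟶ EtPBC.extZeroConst W (ZMod n)) →+
      EtCoh.sect (EtPBC.extZeroConst W (ZMod n)) W :=
    AddMonoidHom.mk' (fun f => f.hom.app (op W) g) fun _ _ => rfl
  change ev (n • 𝟙 _) = ev 0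
  rw [map_nsmul, map_zero]
  exact hg

/-- Constructible `L`-torsion sheaves generate every `L`-torsion sheaf. -/
theorem generating_lTorsion [CompactSpace X] [QuasiSeparatedSpace X] {L : Set ℕ} {F : EtCoh.Ab X}
    (hF : EtAcyc.IsLTorsion L F) :
    Cons51.Generating F fun G => EtPBC.IsConstructible G ∧ EtAcyc.IsLTorsion L G where
  cons _ h := h.1
  iso _ _ e h := ⟨Cons51.isConstructible_of_iso e.some h.1, isLTorsion_of_iso e.some h.2⟩
  zero := ⟨Cons51.isConstructible_zero, isLTorsion_zero L⟩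
  sum A B hA hB := ⟨Cons51.isConstructible_biprod hA.1 hB.1,
    isLTorsion_extension (ShortComplex.Splitting.ofHasBinaryBiproduct A B).shortExact hA.2 hB.2⟩
  quot A B φ hA hB := ⟨(Cons51.isConstructible_kernel_cokernel φ hA hB.1).2,
    EtTor93.isLTorsion_of_epi (cokernel.π φ) hB.2⟩
  germ K _ _ η a := by
    obtain ⟨U, p, σ, rfl⟩ := exists_germ_eq η F a
    obtain ⟨B, hB, hpB, -⟩ :=
      exists_isAffineOpen_mem_and_subset (X := U.left) (x := hom η p default) (U := ⊤) trivial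
    have : IsAffine (openSub U B).left := hB
    obtain ⟨n, hn, hnτ⟩ := exists_smul_eq_zero hF (openSub U B) (F.obj.map (openSubι U B).op σ)
    have : NeZero n := ⟨hn.1.ne'⟩
    obtain ⟨f, e, hfe⟩ := Cons51.exists_genSect (openSub U B) n _ hnτ
    refine ⟨_, ⟨Cons51.isConstructible_genObj (openSub U B) n, fun W s x => ?_⟩, f,
      germ η _ (ptOpen B p hpB) e, ?_⟩
    · refine ⟨W, 𝟙 W, n, ⟨x, rfl⟩, hn, ?_⟩
      rw [← map_nsmul, Cons51.killedBy_of_nsmul (nsmul_id_extZeroConst _ n) W s, map_zero]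
    rw [stalk_map_germ]
    refine (congrArg (germ η F (ptOpen B p hpB)) hfe).trans ?_
    refine (germ_map η F (openSubι U B) (ptOpen B p hpB) _).trans ?_
    rw [map_ptOpen]

/-- A nonvanishing cohomology group of an `L`-torsion sheaf is seen on a constructible `L`-torsion sheaf. -/
theorem exists_constructible_of_nontrivial_H [CompactSpace X] [QuasiSeparatedSpace X] {L : Set ℕ}
    {F : EtCoh.Ab X} (hF : EtAcyc.IsLTorsion L F) {q : ℕ} (h : Nontrivial (EtCoh.H X F q)) :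
    ∃ G : EtCoh.Ab X, EtPBC.IsConstructible G ∧ EtAcyc.IsLTorsion L G ∧ Nontrivial (EtCoh.H X G q) := by
  obtain ⟨J, _, _, D, c, hc, ⟨e⟩, hD⟩ := Cons51.exists_isColimit (generating_lTorsion hF)
  by_contra hne
  push Not at hne
  have := Unr55.HColim.preservesColimitsOfShape_HF (X := X) J q
  have hz : IsZero ((EtCoh.HF X q).obj c.pt) := by
    refine IsColimit.isZero_pt (isColimitOfPreserves (EtCoh.HF X q) hc) ?_
    refine Functor.isZero _ fun j => ?_
    have := hne (D.obj j) (hD j).1 (hD j).2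
    exact @AddCommGrpCat.isZero_of_subsingleton _ this
  have : Subsingleton (EtCoh.H X F q) :=
    AddCommGrpCat.subsingleton_of_isZero (hz.of_iso ((EtCoh.HF X q).mapIso e).symm)
  exact not_nontrivial (EtCoh.H X F q) h

end Groth.Agent.Depth22
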