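import Groth.Agent.EtCore45.ConstSect

/-!
Sections of a constant sheaf as locally constant functions.
-/

set_option autoImplicit false
set_option backward.isDefEq.respectTransparency.types false
universe u

open CategoryTheory CategoryTheory.Limits AlgebraicGeometry Opposite
open Groth.Agent.Unr55.EtSh Groth.Agent.LocConst45 Groth.Agent.EtCore45

namespace Groth.Agent.Depth22

variable {X : Scheme.{u}} {M : AddCommGrpCat.{u + 1}} {V : X.Etale}

/-- `f` records the values of the section `s`. -/
def IsVal (s : EtCoh.sect (cst (X := X) M) V) (f : V.left → M) : Prop :=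
  ∀ (Z : X.Etale) (a : Z ⟶ V) (m : M), (cst (X := X) M).obj.map a.op s = constσ M Z m →
    ∀ z, f (a.left z) = m

theorem exists_isVal (s : EtCoh.sect (cst (X := X) M) V) : ∃ f, IsVal s f := by
  choose W g v m hv hm using (isTriv_const M V).surj V (𝟙 V) s
  refine ⟨m, fun Z a m' h z => ?_⟩
  exact constσ_eq_of_meet M (g (a.left z)) a s ((hm _).trans (constσ_map M _ _)) h _ _ (hv (a.left z))

/-- The value of a section at a point. -/
noncomputable def val (s : EtCoh.sect (cst (X := X) M) V) : V.left → M := (exists_isVal s).choose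

theorem val_spec (s : EtCoh.sect (cst (X := X) M) V) : IsVal s (val s) := (exists_isVal s).choose_spec

theorem exists_nhd (s : EtCoh.sect (cst (X := X) M) V) (x : V.left) :
    ∃ (W : X.Etale) (g : W ⟶ V) (v : W.left), g.left v = x ∧
      (cst (X := X) M).obj.map g.op s = constσ M W (val s x) := by
  obtain ⟨W, g, v, m, hv, hm⟩ := (isTriv_const M V).surj V (𝟙 V) s x
  have hm' := hm.trans (constσ_map M _ _)
  have e := val_spec s W g m hm' v
  rw [hv] at e
  exact ⟨W, g, v, hv, by rw [e]; exact hm'⟩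

theorem isLocallyConstant_val (s : EtCoh.sect (cst (X := X) M) V) : IsLocallyConstant (val s) := by
  rw [IsLocallyConstant.iff_exists_open]
  intro x
  obtain ⟨W, g, v, hv, hg⟩ := exists_nhd s x
  have : Etale g.left := EtCore45.etale_left g
  refine ⟨Set.range g.left, g.left.isOpenMap.isOpen_range, ⟨v, hv⟩, ?_⟩
  rintro _ ⟨z, rfl⟩
  exact val_spec s W g _ hg z

theorem val_map {W : X.Etale} (a : W ⟶ V) (s : EtCoh.sect (cst (X := X) M) V) (w : W.left) :
    val ((cst (X := X) M).obj.map a.op s) w = val s (a.left w) := by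
  obtain ⟨Z, g, v, hv, hg⟩ := exists_nhd ((cst (X := X) M).obj.map a.op s) w
  have h := val_spec s Z (g ≫ a) _ ((map_comp' _ _ _ _).trans hg) v
  rw [← h, ← hv]
  rfl

theorem val_constσ (m : M) (x : V.left) : val (constσ (X := X) M V m) x = m :=
  val_spec (constσ M V m) V (𝟙 V) m (constσ_map M _ m) x

theorem val_ext {s t : EtCoh.sect (cst (X := X) M) V} (h : ∀ x, val s x = val t x) : s = t := by
  choose W g v hv hs using exists_nhd s
  choose W' g' v' hv' ht using fun x => exists_nhd ((cst (X := X) M).obj.map (g x).op t) (v x)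
  have hS : Sieve.ofArrows _ (fun x => g' x ≫ g x) ∈ X.smallEtaleTopology V := mem_topology fun x =>
    ⟨W' x, g' x ≫ g x, v' x, Sieve.ofArrows_mk _ _ x, by
      change (g x).left ((g' x).left (v' x)) = x
      rw [hv', hv]⟩
  refine (isSheafFor_forget (cst M) hS).isSeparatedFor.ext fun Z f hf => ?_
  obtain ⟨x, a, rfl⟩ := (Sieve.mem_ofArrows_iff _ _ _).1 hf
  change (cst (X := X) M).obj.map (a ≫ g' x ≫ g x).op s = (cst (X := X) M).obj.map (a ≫ g' x ≫ g x).op t
  rw [map_comp', map_comp', map_comp', map_comp']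
  refine congrArg _ ?_
  rw [hs x, constσ_map, ht x, val_map, hv, h]

theorem exists_of_isLocallyConstant {f : V.left → M} (hf : IsLocallyConstant f) :
    ∃ s : EtCoh.sect (cst (X := X) M) V, ∀ x, val s x = f x := by
  let N : V.left → V.left.Opens := fun x => ⟨f ⁻¹' {f x}, hf _⟩
  have hS : Sieve.ofArrows _ (fun x => openSubι V (N x)) ∈ X.smallEtaleTopology V := mem_topology fun x =>
    ⟨_, openSubι V (N x), ⟨x, rfl⟩, Sieve.ofArrows_mk _ _ x, rfl⟩
  have hF := isSheafFor_forget (cst (X := X) M) hS
  rw [Sieve.ofArrows, ← Presieve.isSheafFor_iff_generate, Presieve.isSheafFor_arrows_iff] at hF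
  obtain ⟨t, ht, -⟩ := hF (fun x => constσ M (openSub V (N x)) (f x)) fun x y Z ga gb h => by
    change (cst (X := X) M).obj.map ga.op _ = (cst (X := X) M).obj.map gb.op _
    rw [constσ_map, constσ_map]
    rcases isEmpty_or_nonempty Z.left with hZ | ⟨⟨z⟩⟩
    · exact (sect_eq_zero_of_isEmpty _ _).trans (sect_eq_zero_of_isEmpty _ _).symm
    · have hx : f ((ga ≫ openSubι V (N x)).left z) = f x := (N x).range_ι.le ⟨ga.left z, rfl⟩
      have hy : f ((gb ≫ openSubι V (N y)).left z) = f y := (N y).range_ι.le ⟨gb.left z, rfl⟩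
      rw [← hx, ← hy, h]
  exact ⟨t, fun x => val_spec t _ (openSubι V (N x)) (f x) (ht x) ⟨x, rfl⟩⟩

end Groth.Agent.Depth22
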