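import Groth.Agent.Depth22.Supp
import Groth.Agent.Depth22.ConstVal

/-!
Depth at most two of constant sheaves in terms of clopen subsets of etale schemes.
-/

set_option autoImplicit false
set_option backward.isDefEq.respectTransparency.types false
universe u

open CategoryTheory CategoryTheory.Limits AlgebraicGeometry Opposite
open Groth.Agent.EtCore45

namespace Groth.Agent.Depth22

variable {X U : Scheme.{u}} (j : U ⟶ X)

/-- The open `U` meets every nonempty clopen subset of every etale scheme. -/
def NoClopenOff : Prop :=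
  ∀ (X' : Scheme.{u}) (g : X' ⟶ X) [Etale g] (C : Set X'), IsClopen C →
    C ∩ g ⁻¹' Set.range j = ∅ → C = ∅

/-- Clopen subsets extend from `U`. -/
def ClopenExtends : Prop :=
  ∀ (X' : Scheme.{u}) (g : X' ⟶ X) [Etale g] (S : Set X'), IsOpen S → IsOpen (g ⁻¹' Set.range j \ S) →
    S ⊆ g ⁻¹' Set.range j → ∃ C : Set X', IsClopen C ∧ C ∩ g ⁻¹' Set.range j = S

variable [IsOpenImmersion j]

theorem range_counit_left (V : X.Etale) :
    Set.range ((compBcAdj j).counit.app V).left = V.hom ⁻¹' Set.range j :=
  Scheme.Pullback.range_fst (f := V.hom) (g := j)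

theorem isOpenImmersion_counit_left (V : X.Etale) : IsOpenImmersion ((compBcAdj j).counit.app V).left := by
  change IsOpenImmersion (pullback.fst V.hom j)
  infer_instance

variable (M : AddCommGrpCat.{u + 1})

theorem injective_restr (h : NoClopenOff j) (V : X.Etale) :
    Function.Injective ((cst (X := X) M).obj.map ((compBcAdj j).counit.app V).op) := by
  intro s t hst
  refine val_ext fun x => ?_
  have : Etale V.hom := V.prop
  have hop : IsOpen {y : V.left | val s y = val t y} ∧ IsOpen {y : V.left | val s y ≠ val t y} := by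
    have h2 := (isLocallyConstant_val s).prodMk (isLocallyConstant_val t)
    exact ⟨h2 {p : M × M | p.1 = p.2}, h2 {p : M × M | p.1 ≠ p.2}⟩
  have hC := h V.left V.hom {y | val s y ≠ val t y}
    ⟨by simpa [Set.compl_setOf] using hop.1.isClosed_compl, hop.2⟩
    (Set.eq_empty_of_forall_notMem fun y hy => by
      obtain ⟨z, rfl⟩ := (range_counit_left j V).ge hy.2
      refine hy.1 ?_
      have := congrArg (fun r => val r z) hst
      exact ((val_map ((compBcAdj j).counit.app V) s z).symm.trans this).trans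
        (val_map ((compBcAdj j).counit.app V) t z))
  by_contra hne
  exact (hC.le (show x ∈ {y | val s y ≠ val t y} from hne)).elim

theorem noClopenOff_of_injective (m : M) (hm : m ≠ 0)
    (h : ∀ V : X.Etale, Function.Injective ((cst (X := X) M).obj.map ((compBcAdj j).counit.app V).op)) :
    NoClopenOff j := by
  intro X' g _ C hC hCU
  classical
  let V : X.Etale := Scheme.Etale.mk g
  obtain ⟨s, hs⟩ := exists_of_isLocallyConstant (M := M) (V := V) (f := fun x : X' => if x ∈ C then m else 0)
    ((IsLocallyConstant.iff_exists_open _).2 fun x => by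
      by_cases hx : x ∈ C
      · exact ⟨C, hC.2, hx, fun y hy => (if_pos hy).trans (if_pos hx).symm⟩
      · exact ⟨Cᶜ, hC.1.isOpen_compl, hx, fun y hy => (if_neg hy).trans (if_neg hx).symm⟩)
  have h0 : s = 0 := by
    refine h V ?_
    rw [map_zero]
    refine val_ext fun z => ?_
    have hn : ((compBcAdj j).counit.app V).left z ∉ C := fun hz =>
      (hCU.le ⟨hz, (range_counit_left j V).le ⟨z, rfl⟩⟩).elim
    refine (val_map _ s z).trans ((hs _).trans ((if_neg hn).trans ?_))
    exact ((congrArg (fun r => val r z) (LocConst45.constσ M _).map_zero).symm.trans (val_constσ 0 z)).symm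
  refine Set.eq_empty_of_forall_notMem fun x hx => hm ?_
  have h2 := hs x
  rw [h0] at h2
  exact (h2.trans (if_pos hx)).symm.trans
    ((congrArg (fun r => val r x) (LocConst45.constσ (X := X) M V).map_zero).symm.trans (val_constσ (X := X) (V := V) 0 x))

theorem surjective_restr [Finite M] (h : NoClopenOff j) (h' : ClopenExtends j) (V : X.Etale) :
    Function.Surjective ((cst (X := X) M).obj.map ((compBcAdj j).counit.app V).op) := by
  intro t
  classical
  have : Etale V.hom := V.prop
  let c := ((compBcAdj j).counit.app V).left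
  have := isOpenImmersion_counit_left j V
  have ho : Topology.IsOpenEmbedding c := c.isOpenEmbedding
  have hr : Set.range c = V.hom ⁻¹' Set.range j := range_counit_left j V
  have hS : ∀ m : M, ∃ C : Set V.left, IsClopen C ∧ C ∩ V.hom ⁻¹' Set.range j = c '' {z | val t z = m} := by
    intro m
    refine h' V.left V.hom _ (ho.isOpenMap _ (isLocallyConstant_val t {m})) ?_
      (hr ▸ Set.image_subset_range _ _)
    rw [← hr, ← Set.image_univ, ← Set.image_sdiff ho.injective]
    refine ho.isOpenMap _ ?_
    rw [← Set.compl_eq_univ_sdiff]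
    exact isLocallyConstant_val t {m}ᶜ
  choose C hC hCS using hS
  have hdis : ∀ m m', m ≠ m' → C m ∩ C m' = ∅ := fun m m' hne => by
    refine h V.left V.hom _ ((hC m).inter (hC m')) (Set.eq_empty_of_forall_notMem ?_)
    rintro y ⟨⟨h1, h2⟩, h3⟩
    obtain ⟨z, hz, rfl⟩ := (hCS m).le ⟨h1, h3⟩
    obtain ⟨z', hz', e⟩ := (hCS m').le ⟨h2, h3⟩
    exact hne (hz.symm.trans ((congrArg (val t) (ho.injective e.symm)).trans hz'))
  have hcov : ∀ x, ∃ m, x ∈ C m := fun x => by
    by_contra hx
    refine (Set.eq_empty_iff_forall_notMem.1 (h V.left V.hom (⋃ m, C m)ᶜ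
      (isClopen_iUnion_of_finite hC).compl (Set.eq_empty_of_forall_notMem ?_)) x) (fun hm => hx (Set.mem_iUnion.1 hm))
    rintro y ⟨hy, hy'⟩
    obtain ⟨z, rfl⟩ := hr.ge hy'
    exact hy (Set.mem_iUnion.2 ⟨val t z, ((hCS (val t z)).ge ⟨z, rfl, rfl⟩).1⟩)
  choose f hf using hcov
  have huniq : ∀ x m, x ∈ C m → f x = m := fun x m hx => by_contra fun hne =>
    ((hdis _ _ hne).le ⟨hf x, hx⟩).elim
  obtain ⟨s, hs⟩ := exists_of_isLocallyConstant (M := M) (V := V) (f := f)
    ((IsLocallyConstant.iff_exists_open _).2 fun x =>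
      ⟨C (f x), (hC _).2, hf x, fun y hy => huniq y _ hy⟩)
  refine ⟨s, val_ext fun z => ?_⟩
  rw [val_map, hs]
  exact huniq _ _ ((hCS (val t z)).ge ⟨z, rfl, rfl⟩).1

theorem clopenExtends_of_surjective (m : M) (hm : m ≠ 0)
    (h : ∀ V : X.Etale, Function.Surjective ((cst (X := X) M).obj.map ((compBcAdj j).counit.app V).op)) :
    ClopenExtends j := by
  intro X' g _ S hS hS' hSU
  classical
  let V : X.Etale := Scheme.Etale.mk g
  let c := ((compBcAdj j).counit.app V).left
  have hr : Set.range c = g ⁻¹' Set.range j := range_counit_left j V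
  obtain ⟨t, ht⟩ := exists_of_isLocallyConstant (M := M) (V := (EtShriek.compEtale j).obj ((EtCoh.bc j).obj V))
    (f := fun z => if c z ∈ S then m else 0) ((IsLocallyConstant.iff_exists_open _).2 fun z => by
      by_cases hz : c z ∈ S
      · exact ⟨c ⁻¹' S, hS.preimage c.continuous, hz, fun y hy => (if_pos hy).trans (if_pos hz).symm⟩
      · exact ⟨c ⁻¹' (g ⁻¹' Set.range j \ S), hS'.preimage c.continuous, ⟨hr.le ⟨z, rfl⟩, hz⟩,
          fun y hy => (if_neg hy.2).trans (if_neg hz).symm⟩)
  obtain ⟨s, rfl⟩ := h V t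
  refine ⟨{x | val s x = m}, (isLocallyConstant_val s).isClopen_fiber m, ?_⟩
  ext y
  constructor
  · rintro ⟨h1, h2⟩
    obtain ⟨z, rfl⟩ := hr.ge h2
    by_contra hz
    refine hm ?_
    have h3 : val _ z = _ := ht z
    exact h1.symm.trans ((val_map _ s z).symm.trans (h3.trans (if_neg hz)))
  · intro hy
    obtain ⟨z, rfl⟩ := hr.ge (hSU hy)
    have h3 : val _ z = _ := ht z
    exact ⟨(val_map _ s z).symm.trans (h3.trans (if_pos hy)), hSU hy⟩

theorem bijective_restr_iff_isIso (F : EtCoh.Ab X) :
    IsIso (EtDual.unitApp j F) ↔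
      ∀ V : X.Etale, Function.Bijective (F.obj.map ((compBcAdj j).counit.app V).op) := by
  let m := (EtCoh.push j).map ((pullRestrIso j).hom.app F)
  have e : EtDual.unitApp j F ≫ m = (restrPushAdj j).unit.app F :=
    Adjunction.unit_leftAdjointUniq_hom_app _ _ F
  have h1 : IsIso (EtDual.unitApp j F) ↔ IsIso ((restrPushAdj j).unit.app F) := by
    rw [← e]
    exact (isIso_comp_right_iff _ m).symm
  have h2 : IsIso ((restrPushAdj j).unit.app F) ↔ IsIso ((restrPushAdj j).unit.app F).hom :=
    (isIso_iff_of_reflects_iso _ (sheafToPresheaf X.smallEtaleTopology AddCommGrpCat.{u + 1})).symm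
  rw [h1, h2, NatTrans.isIso_iff_isIso_app]
  exact ⟨fun h V => (ConcreteCategory.isIso_iff_bijective _).1 (h (op V)),
    fun h V => (ConcreteCategory.isIso_iff_bijective _).2 (h V.unop)⟩

theorem depthGE_one_iff (F : EtCoh.Ab X) : EtDepth.DepthGE j F 1 ↔
    ∀ V : X.Etale, Function.Injective (F.obj.map ((compBcAdj j).counit.app V).op) := by
  rw [← mono_unitApp_iff, ← isZero_locCoh_zero_iff]
  exact ⟨fun h => h 0 Nat.one_pos, fun h p hp => by obtain rfl : p = 0 := Nat.lt_one_iff.1 hp; exact h⟩

theorem depthGE_two_iff (F : EtCoh.Ab X) : EtDepth.DepthGE j F 2 ↔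
    ∀ V : X.Etale, Function.Bijective (F.obj.map ((compBcAdj j).counit.app V).op) := by
  rw [← bijective_restr_iff_isIso]
  obtain ⟨e⟩ := (EtDual93.exists_locCoh_iso j F).1
  constructor
  · intro h
    have := (isZero_locCoh_zero_iff j F).1 (h 0 (by omega))
    have : Epi (EtDual.unitApp j F) :=
      Abelian.epi_of_cokernel_π_eq_zero _ (((h 1 (by omega)).of_iso e).eq_of_tgt _ _)
    exact isIso_of_mono_of_epi _
  · intro h p hp
    interval_cases p
    · exact (isZero_locCoh_zero_iff j F).2 inferInstance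
    · exact (isZero_cokernel_of_epi _).of_iso e.symm

theorem depthGE_one_iff_noClopenOff [Nontrivial M] :
    EtDepth.DepthGE j (cst (X := X) M) 1 ↔ NoClopenOff j := by
  rw [depthGE_one_iff]
  obtain ⟨m, hm⟩ := exists_ne (0 : M)
  exact ⟨noClopenOff_of_injective j M m hm, injective_restr j M⟩

theorem depthGE_two_iff_clopenExtends [Nontrivial M] [Finite M] :
    EtDepth.DepthGE j (cst (X := X) M) 2 ↔ NoClopenOff j ∧ ClopenExtends j := by
  rw [depthGE_two_iff]
  obtain ⟨m, hm⟩ := exists_ne (0 : M)
  exact ⟨fun h => ⟨noClopenOff_of_injective j M m hm fun V => (h V).1,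
      clopenExtends_of_surjective j M m hm fun V => (h V).2⟩,
    fun h V => ⟨injective_restr j M h.1 V, surjective_restr j M h.1 h.2 V⟩⟩

end Groth.Agent.Depth22
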