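import Groth.Agent.Depth22.ClopenDepth
import Groth.Agent.FEt83.FullFaithful

/-!
Clopen subsets and full faithfulness of restriction of finite etale covers.
-/

set_option autoImplicit false
set_option backward.isDefEq.respectTransparency.types false
universe u

open CategoryTheory CategoryTheory.Limits AlgebraicGeometry Opposite

namespace Groth.Agent.Depth22

variable {X U : Scheme.{u}} (j : U ⟶ X) [IsOpenImmersion j]

omit [IsOpenImmersion j] in
theorem range_snd {X' : Scheme.{u}} (g : X' ⟶ X) :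
    Set.range (pullback.snd j g) = g ⁻¹' Set.range j :=
  Scheme.Pullback.range_snd (f := j) (g := g)

theorem meetsClopens (h : NoClopenOff j) {X' : Scheme.{u}} (g : X' ⟶ X) [Etale g] :
    FEt83.MeetsClopens (pullback.snd j g) := by
  intro Y C hC hne
  have : Etale Y.hom := Y.prop.2
  by_contra hno
  push Not at hno
  refine hne.ne_empty (h Y.left (Y.hom ≫ g) C hC (Set.eq_empty_of_forall_notMem ?_))
  rintro y ⟨hy, hy'⟩
  obtain ⟨x, hx⟩ := (range_snd j g).ge (show Y.hom y ∈ g ⁻¹' Set.range j from hy')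
  obtain ⟨z, hz⟩ := FEt83.exists_point Y (f := pullback.snd j g) hx.symm
  exact hno z (hz ▸ hy)

theorem liftsClopens (h : ClopenExtends j) {X' : Scheme.{u}} (g : X' ⟶ X) [Etale g] :
    FEt83.LiftsClopens (pullback.snd j g) := by
  intro Y C₀ hC₀
  have : Etale Y.hom := Y.prop.2
  let c := pullback.fst Y.hom (pullback.snd j g)
  have ho : Topology.IsOpenEmbedding c := c.isOpenEmbedding
  have hr : Set.range c = (Y.hom ≫ g) ⁻¹' Set.range j :=
    (Scheme.Pullback.range_fst (f := Y.hom) (g := pullback.snd j g)).trans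
      ((congrArg (fun S => Y.hom ⁻¹' S) (range_snd j g)).trans rfl)
  obtain ⟨C, hC, hCS⟩ := h Y.left (Y.hom ≫ g) (c '' C₀) (ho.isOpenMap _ hC₀.2) (by
    rw [← hr, ← Set.image_univ, ← Set.image_sdiff ho.injective, ← Set.compl_eq_univ_sdiff]
    exact ho.isOpenMap _ hC₀.1.isOpen_compl) (hr ▸ Set.image_subset_range _ _)
  refine ⟨C, hC, ?_⟩
  change c ⁻¹' C = C₀
  rw [← Set.preimage_inter_range, hr, hCS]
  exact Set.preimage_image_eq _ ho.injective

/-- The identity cover. -/
noncomputable def idCover (X : Scheme.{u}) : FEt.Cat X :=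
  MorphismProperty.Over.mk ⊤ (𝟙 X) ⟨inferInstance, inferInstance⟩

/-- The trivial double cover. -/
noncomputable def twoCover (X : Scheme.{u}) : FEt.Cat X :=
  FEt83.coprodObj (idCover X) (idCover X)

noncomputable def sheetL (X : Scheme.{u}) : idCover X ⟶ twoCover X :=
  MorphismProperty.Over.homMk coprod.inl (coprod.inl_desc _ _)

noncomputable def sheetR (X : Scheme.{u}) : idCover X ⟶ twoCover X :=
  MorphismProperty.Over.homMk coprod.inr (coprod.inr_desc _ _)

theorem noClopenOff_of_faithful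
    (h : ∀ (X' : Scheme.{u}) (g : X' ⟶ X) [Etale g], (FEt.restrict (pullback.snd j g)).Faithful) :
    NoClopenOff j := by
  intro X' g _ C hC hCU
  let O : X'.Opens := ⟨C, hC.2⟩
  refine Set.eq_empty_of_forall_notMem fun x hx => ?_
  have := h O (O.ι ≫ g)
  have hemp : IsEmpty ((FEt.restrict (pullback.snd j (O.ι ≫ g))).obj (idCover O)).left := by
    constructor
    intro z
    let p : (pullback j (O.ι ≫ g) : Scheme.{u}) := pullback.snd (idCover O).hom (pullback.snd j (O.ι ≫ g)) z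
    have h1 : pullback.snd j (O.ι ≫ g) p ∈ (O.ι ≫ g) ⁻¹' Set.range j :=
      (range_snd j (O.ι ≫ g)).le ⟨p, rfl⟩
    exact (hCU.le ⟨(pullback.snd j (O.ι ≫ g) p).2, h1⟩).elim
  have e : sheetL (O : Scheme.{u}) = sheetR O :=
    (FEt.restrict (pullback.snd j (O.ι ≫ g))).map_injective
      (MorphismProperty.Over.Hom.ext (isInitialOfIsEmpty.hom_ext _ _))
  exact inl_ne_inr (O : Scheme.{u}) (O : Scheme.{u}) (⟨x, hx⟩ : O) ⟨x, hx⟩ (congrArg (fun k => k.left ⟨x, hx⟩) e)

theorem clopenExtends_of_full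
    (h : ∀ (X' : Scheme.{u}) (g : X' ⟶ X) [Etale g], (FEt.restrict (pullback.snd j g)).Full) :
    ClopenExtends j := by
  intro X' g _ S hS hS' hSU
  have := h X' g
  let f := pullback.snd j g
  let R := FEt.restrict f
  let c : (R.obj (idCover X')).left ⟶ X' := pullback.fst (𝟙 X') f
  have : IsOpenImmersion c := inferInstanceAs (IsOpenImmersion (pullback.fst (𝟙 X') f))
  have hr : Set.range c = g ⁻¹' Set.range j :=
    (Scheme.Pullback.range_fst (f := 𝟙 X') (g := f)).trans ((Set.preimage_id).trans (range_snd j g))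
  let A : (R.obj (idCover X')).left.Opens := ⟨c ⁻¹' S, hS.preimage c.continuous⟩
  let B : (R.obj (idCover X')).left.Opens :=
    ⟨c ⁻¹' (g ⁻¹' Set.range j \ S), hS'.preimage c.continuous⟩
  have hAB : IsCompl A.ι.opensRange B.ι.opensRange := by
    rw [Scheme.Opens.opensRange_ι, Scheme.Opens.opensRange_ι, isCompl_iff, disjoint_iff, codisjoint_iff]
    refine ⟨TopologicalSpace.Opens.ext (Set.eq_empty_of_forall_notMem fun z hz => hz.2.2 hz.1),
      TopologicalSpace.Opens.ext (Set.eq_univ_of_forall fun z => ?_)⟩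
    by_cases hz : c z ∈ S
    exacts [Or.inl hz, Or.inr ⟨hr.le ⟨z, rfl⟩, hz⟩]
  obtain ⟨hcol⟩ := nonempty_isColimit_binaryCofanMk_of_isCompl A.ι B.ι hAB
  let ψ₀ := BinaryCofan.IsColimit.desc hcol (A.ι ≫ (R.map (sheetL X')).left)
    (B.ι ≫ (R.map (sheetR X')).left)
  have hA : A.ι ≫ ψ₀ = A.ι ≫ (R.map (sheetL X')).left := BinaryCofan.IsColimit.inl_desc hcol _ _
  have hB : B.ι ≫ ψ₀ = B.ι ≫ (R.map (sheetR X')).left := BinaryCofan.IsColimit.inr_desc hcol _ _
  let ψ : R.obj (idCover X') ⟶ R.obj (twoCover X') := MorphismProperty.Over.homMk ψ₀ (by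
    refine BinaryCofan.IsColimit.hom_ext hcol ?_ ?_
    · exact ((reassoc_of% hA) _).trans (congrArg (A.ι ≫ ·) (FEt83.w_left (R.map (sheetL X'))))
    · exact ((reassoc_of% hB) _).trans (congrArg (B.ι ≫ ·) (FEt83.w_left (R.map (sheetR X'))))) trivial
  obtain ⟨φ, hφ⟩ := R.map_surjective ψ
  let L : Set X' := φ.left ⁻¹' Set.range (coprod.inl : X' ⟶ X' ⨿ X')
  refine ⟨L, ⟨?_, (coprod.inl : X' ⟶ X' ⨿ X').opensRange.2.preimage φ.left.continuous⟩, ?_⟩
  · have h0 : IsClosed (Set.range (coprod.inl : X' ⟶ X' ⨿ X')) := by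
      rw [← isOpen_compl_iff, (isCompl_range_inl_inr X' X').compl_eq]
      exact (coprod.inr : X' ⟶ X' ⨿ X').opensRange.2
    exact h0.preimage φ.left.continuous
  have hc : ψ₀ ≫ pullback.fst (twoCover X').hom f = c ≫ φ.left := by
    rw [show ψ₀ = (R.map φ).left from (congrArg (fun k => k.left) hφ).symm]
    exact pullback.lift_fst _ _ _
  have hmap : ∀ k : idCover X' ⟶ twoCover X', (R.map k).left ≫ pullback.fst (twoCover X').hom f = c ≫ k.left :=
    fun k => pullback.lift_fst _ _ _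
  have h1 : A.ι ≫ c ≫ φ.left = A.ι ≫ c ≫ (coprod.inl : X' ⟶ X' ⨿ X') := by
    exact ((congrArg (A.ι ≫ ·) hc).symm.trans ((reassoc_of% hA) _)).trans
      (congrArg (A.ι ≫ ·) (hmap (sheetL X')))
  have h2 : B.ι ≫ c ≫ φ.left = B.ι ≫ c ≫ (coprod.inr : X' ⟶ X' ⨿ X') := by
    exact ((congrArg (B.ι ≫ ·) hc).symm.trans ((reassoc_of% hB) _)).trans
      (congrArg (B.ι ≫ ·) (hmap (sheetR X')))
  ext y
  constructor
  · rintro ⟨⟨w, hw⟩, hy⟩
    obtain ⟨z, rfl⟩ := hr.ge hy
    by_contra hz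
    have := congrArg (fun k => k ⟨z, hy, hz⟩) h2
    exact inl_ne_inr _ _ w (c z) (hw.trans this)
  · intro hy
    obtain ⟨z, rfl⟩ := hr.ge (hSU hy)
    have := congrArg (fun k => k ⟨z, hy⟩) h1
    exact ⟨⟨c z, this.symm⟩, hSU hy⟩

theorem noClopenOff_iff : NoClopenOff j ↔
    ∀ (X' : Scheme.{u}) (g : X' ⟶ X) [Etale g], (FEt.restrict (pullback.snd j g)).Faithful :=
  ⟨fun h _ g _ => FEt83.faithful_of_meets (meetsClopens j h g), noClopenOff_of_faithful j⟩

theorem clopenExtends_iff : NoClopenOff j ∧ ClopenExtends j ↔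
    ∀ (X' : Scheme.{u}) (g : X' ⟶ X) [Etale g],
      (FEt.restrict (pullback.snd j g)).Full ∧ (FEt.restrict (pullback.snd j g)).Faithful :=
  ⟨fun h _ g _ => ⟨FEt83.full_of_lifts (meetsClopens j h.1 g) (liftsClopens j h.2 g),
      FEt83.faithful_of_meets (meetsClopens j h.1 g)⟩,
    fun h => ⟨noClopenOff_of_faithful j fun X' g _ => (h X' g).2,
      clopenExtends_of_full j fun X' g _ => (h X' g).1⟩⟩

end Groth.Agent.Depth22
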