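import Groth.Agent.Depth22.FibreClopen
import Groth.Agent.E4O.BaseChangeDim
import Groth.Agent.E4O.ChartDim
import Groth.Agent.E4O.OpenDim
import Groth.Agent.Cyc90.TensorGen
import Groth.Agent.LC15.CutoffFlat
import Groth.Agent.EGA4Alg4.CMMod

/-!
Codimensions and dimensions of fibres along flat base change.
-/

set_option autoImplicit false
set_option backward.isDefEq.respectTransparency.types false
universe u

open CategoryTheory CategoryTheory.Limits AlgebraicGeometry IsLocalRing Groth.Agent.LC17 Groth.Agent.EGA4H10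

namespace Groth.Agent.Depth22.DeltaCodim

section ring

variable {B : Type u} [CommRing B] [IsNoetherianRing B]

omit [IsNoetherianRing B] in
theorem index_le_htq {p : Ideal B} [p.IsPrime] (t : LTSeries (PrimeSpectrum B)) (hp : p ≤ t.head.asIdeal) :
    ∀ (i : ℕ) (hi : i ≤ t.length), (i : ℕ∞) ≤ htq p (t ⟨i, by omega⟩).asIdeal := by
  intro i
  induction i with
  | zero => intro _; simp
  | succ i ih =>
    intro hi
    push_cast
    exact le_trans (add_le_add (ih (by omega)) le_rfl)
      (htq_add_one_le (hp.trans (show t.head.asIdeal ≤ (t ⟨i, by omega⟩).asIdeal from t.head_le _))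
        (t.step ⟨i, by omega⟩))

/-- In a catenary ring every saturated chain has maximal length. -/
theorem htq_eq_length (hc : CAlg.IsCatenary B) {p q : PrimeSpectrum B} (hpq : p ≤ q)
    (t : LTSeries (PrimeSpectrum B)) (ht : Saturated t) (hth : t.head = p) (htl : t.last = q) :
    htq p.asIdeal q.asIdeal = t.length := by
  refine le_antisymm ?_ ?_
  · rw [← LC16.RelCodim.height_ici p q hpq]
    refine Order.height_le fun l hl => ?_
    let l0 : LTSeries (PrimeSpectrum B) := l.map Subtype.val (fun _ _ h => h)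
    have hl0 : l0.last = q := congrArg Subtype.val hl
    obtain ⟨a, ha, hah, hal⟩ := exists_saturated p l0.head l.head.2
    obtain ⟨s, hs, hsh, hsl, hlen⟩ := exists_refine l0
    have h1 : a.last = s.head := hal.trans hsh.symm
    have key := hc.2 (RelSeries.smash a s h1) t
      (by rw [RelSeries.head_smash, hah, hth]) (by rw [RelSeries.last_smash, hsl, hl0, htl])
      (saturated_smash ha hs h1) ht
    rw [RelSeries.smash_length] at key
    exact_mod_cast (show l.length ≤ t.length by
      have : l0.length = l.length := rfl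
      omega)
  · have h := index_le_htq t (p := p.asIdeal) (le_of_eq (congrArg PrimeSpectrum.asIdeal hth.symm)) t.length le_rfl
    rwa [show t ⟨t.length, by omega⟩ = q from htl] at h

theorem htq_eq_add (hc : CAlg.IsCatenary B) {p s q : PrimeSpectrum B} (hps : p ≤ s) (hsq : s ≤ q) :
    htq p.asIdeal q.asIdeal = htq p.asIdeal s.asIdeal + htq s.asIdeal q.asIdeal := by
  obtain ⟨a, ha, hah, hal⟩ := exists_saturated p s hps
  obtain ⟨b, hb, hbh, hbl⟩ := exists_saturated s q hsq
  rw [htq_eq_length hc hps a ha hah hal, htq_eq_length hc hsq b hb hbh hbl,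
    htq_eq_length hc (hps.trans hsq) (RelSeries.smash a b (hal.trans hbh.symm)) (saturated_smash ha hb _)
      (by rw [RelSeries.head_smash, hah]) (by rw [RelSeries.last_smash, hbl]),
    RelSeries.smash_length]
  push_cast
  rfl

variable {A : Type u} [CommRing A] [IsNoetherianRing A] [Algebra A B] [Module.Flat A B]

theorem depth_atPrime_le (q : Ideal B) [q.IsPrime] :
    LocCoh.depth (Localization.AtPrime (q.comap (algebraMap A B))) (Localization.AtPrime (q.comap (algebraMap A B))) ≤
      LocCoh.depth (Localization.AtPrime q) (Localization.AtPrime q) := by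
  have h := LC15.CutoffFlat.depth_loc (A := A) (B := B) A B (TensorProduct.AlgebraTensorModule.rid A B B) q
  rw [EGA4Alg4.depth_eq_of_equiv (CAlg1.locSelfEquiv q),
    EGA4Alg4.depth_eq_of_equiv (CAlg1.locSelfEquiv (q.comap (algebraMap A B)))] at h
  rw [h]
  exact le_self_add

/-- Components through a point of a flat algebra over a Cohen-Macaulay ring are not too small. -/
theorem height_le_htq (hcm : LocCoh.IsCohenMacaulayRing A) {P q : PrimeSpectrum B}
    (hP : P.asIdeal ∈ minimalPrimes B) (hPq : P ≤ q) :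
    (q.asIdeal.comap (algebraMap A B)).height ≤ htq P.asIdeal q.asIdeal := by
  let R := Localization.AtPrime q.asIdeal
  let p := q.asIdeal.comap (algebraMap A B)
  have := hcm.isCohenMacaulayLocalRing_localization p
  have hdepth := (hcm.isCohenMacaulayLocalRing_localization p).supportDim_eq_depth
  rw [Module.supportDim_self_eq_ringKrullDim, IsLocalization.AtPrime.ringKrullDim_eq_height p,
    WithBot.coe_inj] at hdepth
  rw [hdepth]
  refine (depth_atPrime_le (A := A) q.asIdeal).trans ?_
  let e := IsLocalization.AtPrime.primeSpectrumOrderIso R q.asIdeal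
  let P' := e.symm ⟨P, hPq⟩
  have hP' : PrimeSpectrum.comap (algebraMap B R) P' = P :=
    congrArg Subtype.val (e.apply_symm_apply ⟨P, hPq⟩)
  have hmin : P'.asIdeal ∈ minimalPrimes R := by
    refine PrimeSpectrum.isMin_iff.1 fun w hw => e.le_iff_le.1 ?_
    rw [e.apply_symm_apply]
    have hw' : (e w).1 ≤ P := Subtype.coe_le_coe.2 ((e.monotone hw).trans_eq (e.apply_symm_apply _))
    exact Subtype.coe_le_coe.1 (((PrimeSpectrum.isMin_iff (x := P)).2 hP) hw')
  have hass : P'.asIdeal ∈ associatedPrimes R R :=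
    Module.associatedPrimes.minimalPrimes_annihilator_subset_associatedPrimes R R (by
      have : Module.annihilator R R = ⊥ := by
        rw [eq_bot_iff]
        intro r hr
        simpa using Module.mem_annihilator.mp hr 1
      rwa [this])
  have h1 := EGA4Alg4.depth_le_ringKrullDim_quotient (A := R) (M := R) hass
  rw [E4O.ringKrullDim_quotient_localization q R P', hP', ← E4O.height_map_quotient hPq,
    WithBot.coe_le_coe] at h1
  exact h1

/-- Codimensions do not decrease in flat catenary algebras over Cohen-Macaulay rings. -/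
theorem htq_le_htq_minimal (hcm : LocCoh.IsCohenMacaulayRing A) (hc : CAlg.IsCatenary B)
    {P q : PrimeSpectrum B} (hPq : P ≤ q)
    (hh : P.asIdeal.height = (P.asIdeal.comap (algebraMap A B)).height) :
    htq (P.asIdeal.comap (algebraMap A B)) (q.asIdeal.comap (algebraMap A B)) ≤
      htq P.asIdeal q.asIdeal := by
  let s : PrimeSpectrum A := PrimeSpectrum.comap (algebraMap A B) P
  let t : PrimeSpectrum A := PrimeSpectrum.comap (algebraMap A B) q
  have hst : s ≤ t := Ideal.comap_mono hPq
  obtain ⟨P0, hP0, hP0le⟩ := Ideal.exists_minimalPrimes_le (I := (⊥ : Ideal B)) (J := P.asIdeal) bot_le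
  let P0' : PrimeSpectrum B := ⟨P0, hP0.1.1⟩
  have h1 := height_le_htq (A := A) hcm (P := P0') (q := q) hP0 (le_trans hP0le hPq)
  rw [htq_eq_add hc (show P0' ≤ P from hP0le) hPq] at h1
  have h2 : htq P0'.asIdeal P.asIdeal ≤ P.asIdeal.height := by
    unfold htq
    rw [E4O.height_map_quotient (show P0' ≤ P from hP0le)]
    exact E4O.relHeight_le_height _ _
  have h3 := E4O.relHeight_add_le_height hst
  rw [← E4O.height_map_quotient hst] at h3
  have h4 : s.asIdeal.height + htq s.asIdeal t.asIdeal ≤ s.asIdeal.height + htq P.asIdeal q.asIdeal :=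
    h3.trans (h1.trans (add_le_add (h2.trans hh.le) le_rfl))
  exact (ENat.add_le_add_iff_left (Ideal.height_ne_top s.2.ne_top)).1 h4

end ring

section fibre

variable {A A' : Type u} [CommRing A] [CommRing A'] [IsNoetherianRing A] [IsNoetherianRing A'] [Algebra A A']
  {X : Scheme.{u}} (f : X ⟶ Spec (CommRingCat.of A)) [LocallyOfFiniteType f]

local notation "φ" => Spec.map (CommRingCat.ofHom (algebraMap A A'))

/-- Generizations lift inside the fibres of the first projection. -/
theorem exists_lift (w : ↥(pullback f φ)) (P : PrimeSpectrum A')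
    (hP : P.asIdeal ≤ (pullback.snd f φ w).asIdeal)
    (hPc : P.asIdeal.comap (algebraMap A A') = (f (pullback.fst f φ w)).asIdeal) :
    ∃ w', w' ⤳ w ∧ pullback.fst f φ w' = pullback.fst f φ w ∧ pullback.snd f φ w' = P := by
  obtain ⟨m, hflat, -, -, hm⟩ := E4O.exists_fibre_map_flat (IsPullback.of_hasPullback f φ).flip
    (pullback.fst f φ w)
  obtain ⟨z, hz⟩ := E4O.exists_fiberι_eq (pullback.fst f φ) (x := w) rfl
  let P' : ↥(Spec (CommRingCat.of A')) := P
  obtain ⟨t, ht⟩ := E4O.exists_fiberι_eq φ (x := P') (y := f (pullback.fst f φ w)) (PrimeSpectrum.ext hPc)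
  have hsp : t ⤳ m z := by
    refine (E4O.specializes_fiberι_iff φ _ _ _).1 ?_
    rw [ht, hm, hz]
    exact (PrimeSpectrum.le_iff_specializes P _).1 hP
  obtain ⟨z', hz', hz't⟩ := Flat.generalizingMap m hsp
  refine ⟨(pullback.fst f φ).fiberι _ z', ?_, E4O.apply_fiberι _ _ _, ?_⟩
  · have := hz'.map ((pullback.fst f φ).fiberι _).continuous
    rwa [hz] at this
  · rw [← hm, hz't, ht]

/-- The height in the fibre of the first projection is at least the relative height in the base. -/
theorem le_height_fibre (x' : ↥(pullback f φ)) (P : PrimeSpectrum A')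
    (hPc : P.asIdeal.comap (algebraMap A A') = (f (pullback.fst f φ x')).asIdeal) :
    ∀ (n : ℕ) (z : PrimeSpectrum.zeroLocus ((maximalIdeal (X.presheaf.stalk (pullback.fst f φ x'))).map
        ((pullback.fst f φ).stalkMap x').hom : Set ((pullback f φ).presheaf.stalk x'))),
      P.asIdeal ≤ (pullback.snd f φ ((pullback f φ).fromSpecStalk x' z.1)).asIdeal →
      (n : ℕ∞) ≤ htq P.asIdeal (pullback.snd f φ ((pullback f φ).fromSpecStalk x' z.1)).asIdeal →
      (n : ℕ∞) ≤ Order.height z := by
  intro n
  induction n with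
  | zero => intro _ _ _; simp
  | succ n ih =>
    intro z hz hn
    obtain ⟨t, ht, hPt, htlt, htn⟩ := exists_prime_below hz hn
    have hzx : pullback.fst f φ ((pullback f φ).fromSpecStalk x' z.1) = pullback.fst f φ x' :=
      (FibreClopen.mem_fibre_iff _ x' z.1).2 z.2
    have htc : t.comap (algebraMap A A') =
        (f (pullback.fst f φ ((pullback f φ).fromSpecStalk x' z.1))).asIdeal := by
      rw [hzx]
      refine le_antisymm ?_ (hPc.ge.trans (Ideal.comap_mono hPt))
      have h1 : (f (pullback.fst f φ ((pullback f φ).fromSpecStalk x' z.1))).asIdeal =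
          (pullback.snd f φ ((pullback f φ).fromSpecStalk x' z.1)).asIdeal.comap (algebraMap A A') :=
        congrArg PrimeSpectrum.asIdeal (congrArg (fun k : pullback f φ ⟶ _ => k _)
          (pullback.condition (f := f) (g := φ)))
      rw [hzx] at h1
      exact (Ideal.comap_mono htlt.le).trans h1.ge
    obtain ⟨w', hw', hw'x, hw't⟩ := exists_lift f _ ⟨t, ht⟩ htlt.le htc
    obtain ⟨Q, rfl⟩ := FibreClopen.eq_fromSpecStalk (hw'.trans (FibreClopen.specializes_fromSpecStalk x' z.1))
    let z' : PrimeSpectrum.zeroLocus ((maximalIdeal (X.presheaf.stalk (pullback.fst f φ x'))).map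
        ((pullback.fst f φ).stalkMap x').hom : Set ((pullback f φ).presheaf.stalk x')) :=
      ⟨Q, (FibreClopen.mem_fibre_iff _ x' Q).1 (hw'x.trans hzx)⟩
    have hlt : z' < z := by
      refine lt_of_le_of_ne (FibreClopen.le_of_specializes hw') fun e => htlt.ne ?_
      have := congrArg (fun r : PrimeSpectrum.zeroLocus _ =>
        (pullback.snd f φ ((pullback f φ).fromSpecStalk x' r.1)).asIdeal) e
      exact (congrArg PrimeSpectrum.asIdeal hw't).symm.trans this
    push_cast
    refine le_trans (add_le_add ?_ le_rfl) (Order.height_add_one_le hlt)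
    refine ih z' ?_ ?_ <;> rw [show pullback.snd f φ ((pullback f φ).fromSpecStalk x' z'.1) = ⟨t, ht⟩ from hw't]
    exacts [hPt, htn]

/-- The dimension of the fibre of the first projection. -/
theorem add_fdeg_le (x' : ↥(pullback f φ)) (P : PrimeSpectrum A')
    (hP : P.asIdeal ≤ (pullback.snd f φ x').asIdeal)
    (hPc : P.asIdeal.comap (algebraMap A A') = (f (pullback.fst f φ x')).asIdeal) (e : ℕ)
    (he : ringKrullDim (CInt.fiberStalk (pullback.fst f φ) x') = (e : WithBot ℕ∞)) :
    htq P.asIdeal (pullback.snd f φ x').asIdeal + (E4O.fdeg f (pullback.fst f φ x') : ℕ∞) ≤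
      (e : ℕ∞) + (E4O.fdeg (pullback.snd f φ) x' : ℕ∞) := by
  classical
  let h := pullback.fst f φ
  let g := pullback.snd f φ
  have hsq := IsPullback.of_hasPullback f φ
  have : LocallyOfFiniteType g := MorphismProperty.of_isPullback hsq inferInstance
  let r := E4O.fdeg f (h x')
  let Pd : ℕ → Prop := fun k => ∃ w, w ⤳ x' ∧ h w = h x' ∧ g w = g x' ∧ E4O.fdeg g w = k
  have hbd : ∀ k, Pd k → k ≤ r := by
    rintro k ⟨w, -, hw, -, rfl⟩
    exact (E4O.fdeg_le_of_isPullback hsq w).trans_eq (congrArg _ hw)
  have hP0 : Pd (E4O.fdeg g x') := ⟨x', specializes_rfl, rfl, rfl, rfl⟩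
  obtain ⟨w, hw, hwh, hwg, hwd⟩ := Nat.findGreatest_spec (P := Pd) (hbd _ hP0) hP0
  have hr : E4O.fdeg g w = r := by
    refine (Cyc90.fdeg_snd_eq w fun v hv1 hv2 hv => ?_).trans (congrArg _ hwh)
    by_contra hne
    have h1 := E4O.fdeg_lt (f := g) hv hv2 hne
    have hv' : Pd (E4O.fdeg g v) := ⟨v, hv.trans hw, hv1.trans hwh, hv2.trans hwg, rfl⟩
    have h2 := Nat.le_findGreatest (hbd _ hv') hv'
    rw [← hwd] at h2
    omega
  obtain ⟨C, ⟨q, hq⟩, -⟩ := E4O.exists_chart g x'
  obtain ⟨m, rfl⟩ : w ∈ Set.range C.pt := hw.mem_open C.isOpen_range ⟨q, hq⟩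
  subst hq
  have hmq : m ≤ q := (C.specializes_iff _ _).1 hw
  have hf : PrimeSpectrum.comap (algebraMap C.A C.B) m = PrimeSpectrum.comap (algebraMap C.A C.B) q :=
    C.isOpenEmbedding_ptY.injective (by rw [← C.apply, ← C.apply]; exact hwg)
  have hfd := C.fdeg_le_relHeight_add m q hmq hf
  rw [hr] at hfd
  let O := (pullback f φ).presheaf.stalk (C.pt q)
  let mO := (maximalIdeal (X.presheaf.stalk (h (C.pt q)))).map (h.stalkMap (C.pt q)).hom
  let Z := PrimeSpectrum.zeroLocus (mO : Set O)
  have hlocal : IsLocalHom (h.stalkMap (C.pt q)).hom := h.toLRSHom.prop _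
  let top : Z := ⟨closedPoint O, map_maximalIdeal_le _⟩
  have htop : (Order.height top : WithBot ℕ∞) ≤ e := by
    rw [← he, ← ringKrullDim_eq_of_ringEquiv (CAlg9.CIT.fiberStalkEquiv h (C.pt q)), ringKrullDim_quotient]
    exact Order.height_le_krullDim top
  have hchain : ∀ n : ℕ, (n : ℕ∞) ≤ E4O.relHeight m q →
      htq P.asIdeal (g (C.pt q)).asIdeal + n ≤ Order.height top := by
    intro n hn
    rw [E4O.relHeight_eq hmq] at hn
    obtain ⟨l, hl, hlen⟩ := Order.exists_series_of_le_height _ hn
    have hle : ∀ i, C.pt (l i).1 ⤳ C.pt q := fun i =>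
      (C.specializes_iff _ _).2 ((Subtype.coe_le_coe.2 ((l.monotone (Fin.le_last i)).trans_eq hl)))
    choose Q hQ using fun i => FibreClopen.eq_fromSpecStalk (hle i)
    have hge : ∀ i, C.pt m ⤳ C.pt (l i).1 := fun i => (C.specializes_iff _ _).2 (l i).2
    have hmem : ∀ i, Q i ∈ Z := fun i => (FibreClopen.mem_fibre_iff h _ (Q i)).1 (by
      rw [hQ i]
      exact (((hle i).map h.continuous).antisymm ((specializes_of_eq hwh.symm).trans ((hge i).map h.continuous))).eq)
    have hsame : ∀ i, g (C.pt (l i).1) = g (C.pt q) := fun i =>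
      (((hle i).map g.continuous).antisymm ((specializes_of_eq hwg.symm).trans ((hge i).map g.continuous))).eq
    let L : LTSeries Z := ⟨l.length, fun i => ⟨Q i, hmem i⟩, fun i => by
      refine lt_of_le_of_ne (show (⟨Q i.castSucc, hmem _⟩ : Z) ≤ ⟨Q i.succ, hmem _⟩ from
        FibreClopen.le_of_specializes ?_) fun e => ?_
      · rw [hQ, hQ]; exact (C.specializes_iff _ _).2 (l.step i).le
      · have e1 := congrArg (fun r : Z => (pullback f φ).fromSpecStalk (C.pt q) r.1) e
        simp only [hQ] at e1
        exact (l.step i).ne (Subtype.ext (C.isOpenEmbedding_pt.injective e1))⟩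
    have hL : L.last = top := by
      refine Subtype.ext (((pullback f φ).fromSpecStalk (C.pt q)).isEmbedding.injective ?_)
      show (pullback f φ).fromSpecStalk (C.pt q) (Q (Fin.last _)) = _
      rw [hQ, show l (Fin.last _) = _ from hl]
      exact Scheme.fromSpecStalk_closedPoint.symm
    have hsnd : g ((pullback f φ).fromSpecStalk (C.pt q) L.head.1) = g (C.pt q) := by
      show g ((pullback f φ).fromSpecStalk (C.pt q) (Q 0)) = _
      rw [hQ, hsame]
    obtain ⟨k, hk⟩ := exists_htq_eq hP
    have h0 : (k : ℕ∞) ≤ Order.height L.head := by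
      refine le_height_fibre f (C.pt q) P hPc k L.head ?_ ?_
      · exact hP.trans (congrArg PrimeSpectrum.asIdeal hsnd).ge
      · exact hk.ge.trans_eq (congrArg (fun r : PrimeSpectrum A' => htq P.asIdeal r.asIdeal) hsnd).symm
    have key : ∀ (i : ℕ) (hi : i ≤ L.length), Order.height L.head + i ≤ Order.height (L ⟨i, by omega⟩) := by
      intro i
      induction i with
      | zero => intro _; simp [RelSeries.head]
      | succ i ih =>
        intro hi
        push_cast
        rw [← add_assoc]
        exact le_trans (add_le_add (ih (by omega)) le_rfl) (Order.height_add_one_le (L.step ⟨i, by omega⟩))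
    rw [hk]
    refine le_trans (add_le_add h0 ?_) ((key L.length le_rfl).trans_eq (congrArg Order.height hL))
    exact_mod_cast hlen.ge
  replace htop : Order.height top ≤ (e : ℕ∞) := WithBot.coe_le_coe.1 htop
  obtain ⟨n, hn⟩ : ∃ n : ℕ, E4O.relHeight m q = n := by
    by_contra hno
    have hT : E4O.relHeight m q = ⊤ := by
      by_contra hne
      exact hno ((ENat.ne_top_iff_exists.1 hne).imp fun _ h => h.symm)
    have := (hchain (e + 1) (hT ▸ le_top)).trans htop
    exact absurd (le_trans le_add_self this) (by norm_cast; omega)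
  rw [hn] at hfd
  calc htq P.asIdeal (g (C.pt q)).asIdeal + (r : ℕ∞)
      ≤ htq P.asIdeal (g (C.pt q)).asIdeal + ((n : ℕ∞) + (E4O.fdeg g (C.pt q) : ℕ∞)) := add_le_add le_rfl hfd
    _ = htq P.asIdeal (g (C.pt q)).asIdeal + n + (E4O.fdeg g (C.pt q) : ℕ∞) := (add_assoc _ _ _).symm
    _ ≤ (e : ℕ∞) + (E4O.fdeg g (C.pt q) : ℕ∞) := add_le_add ((hchain n hn.ge).trans htop) le_rfl

end fibre

end Groth.Agent.Depth22.DeltaCodim
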