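import Groth.Agent.Depth22.Supp
import Groth.Agent.EtCore45.MVSect
import Groth.Agent.LocConst45.AbMain

/-!
Depth along a closed subset is local for the etale topology and stable under extensions.
-/

set_option autoImplicit false
set_option backward.isDefEq.respectTransparency.types false
universe u

open CategoryTheory CategoryTheory.Limits AlgebraicGeometry Opposite
open Groth.Agent.EtCore45 Groth.Agent.EtCore45.MV

namespace Groth.Agent.Depth22

variable {X U : Scheme.{u}} (j : U ⟶ X) [IsOpenImmersion j]

omit [IsOpenImmersion j] in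
theorem depthGE_of_iso {F G : EtCoh.Ab X} (e : F ≅ G) {n : ℕ} (h : EtDepth.DepthGE j F n) :
    EtDepth.DepthGE j G n := fun p hp => (h p hp).of_iso ((EtDual.locCoh j p).mapIso e).symm

omit [IsOpenImmersion j] in
theorem depthGE_extension {S : ShortComplex (EtCoh.Ab X)} (hS : S.ShortExact) {n : ℕ}
    (h₁ : EtDepth.DepthGE j S.X₁ n) (h₃ : EtDepth.DepthGE j S.X₃ n) : EtDepth.DepthGE j S.X₂ n := by
  obtain ⟨Δ⟩ := RD97.nonempty_derivedLES (EtDual.secSupp j)
  exact fun p hp => (Δ.exact₂ S hS p).isZero_X₂ ((h₁ p hp).eq_of_src _ _) ((h₃ p hp).eq_of_tgt _ _)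

omit [IsOpenImmersion j] in
theorem depthGE_isZero {F : EtCoh.Ab X} (h : IsZero F) (n : ℕ) : EtDepth.DepthGE j F n :=
  fun p _ =>
    haveI : (EtDual.locCoh j p).Additive := inferInstanceAs ((EtDual.secSupp j).rightDerived p).Additive
    (EtDual.locCoh j p).map_isZero h

variable {X' U' : Scheme.{u}} (g : X' ⟶ X) [Etale g] (j' : U' ⟶ X') [IsOpenImmersion j']

theorem isOI_counit {X U : Scheme.{u}} (j : U ⟶ X) [IsOpenImmersion j] (V : X.Etale) :
    IsOpenImmersion ((compBcAdj j).counit.app V).left := by
  change IsOpenImmersion (pullback.fst V.hom j)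
  infer_instance

theorem mono_unitApp_pull (hr : Set.range j' = g ⁻¹' Set.range j) {F : EtCoh.Ab X}
    (h : Mono (EtDual.unitApp j F)) : Mono (EtDual.unitApp j' ((EtCoh.pull g).obj F)) := by
  rw [mono_unitApp_iff] at h ⊢
  intro W
  let W' := (EtShriek.compEtale g).obj W
  have hl : Set.range ((compBcAdj j).counit.app W').left ⊆ Set.range ((compBcAdj j').counit.app W).left := by
    refine (Scheme.Pullback.range_fst (f := W'.hom) (g := j)).le.trans ?_
    refine le_trans ?_ (Scheme.Pullback.range_fst (f := W.hom) (g := j')).ge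
    rw [hr]
    exact le_refl _
  let l := @IsOpenImmersion.lift _ _ _ _ _ (isOI_counit j' W) hl
  let φ : (EtShriek.compEtale j).obj ((EtCoh.bc j).obj W') ⟶
      (EtShriek.compEtale g).obj ((EtShriek.compEtale j').obj ((EtCoh.bc j').obj W)) :=
    MorphismProperty.Over.homMk l (by
      have h1 := MorphismProperty.Over.w ((EtShriek.compEtale g).map ((compBcAdj j').counit.app W))
      have h2 := MorphismProperty.Over.w ((compBcAdj j).counit.app W')
      refine ((congrArg (l ≫ ·) h1).symm.trans (Category.assoc _ _ _).symm).trans ?_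
      exact (congrArg (· ≫ W'.hom) (@IsOpenImmersion.lift_fac _ _ _ _ _ (isOI_counit j' W) hl)).trans h2) trivial
  have hφ : φ ≫ (EtShriek.compEtale g).map ((compBcAdj j').counit.app W) = (compBcAdj j).counit.app W' :=
    MorphismProperty.Over.Hom.ext (@IsOpenImmersion.lift_fac _ _ _ _ _ (isOI_counit j' W) hl)
  intro a b hab
  refine (pullSect_bijective g F W).1 (h W' ?_)
  have h1 := congrArg (pullSect g F _) hab
  rw [pullSect_map, pullSect_map] at h1
  rw [← hφ, op_comp, Functor.map_comp]
  exact congrArg (F.obj.map φ.op) h1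

theorem depthGE_pull (hr : Set.range j' = g ⁻¹' Set.range j) (n : ℕ) :
    ∀ {F : EtCoh.Ab X}, EtDepth.DepthGE j F n → EtDepth.DepthGE j' ((EtCoh.pull g).obj F) n := by
  induction n with
  | zero => exact fun _ => depthGE_zero j' _
  | succ n ih =>
    intro F h
    have hm := mono_of_depthGE j h
    obtain ⟨S, hS, rfl, hI, h2, -⟩ := exists_shortExact j F hm
    have hS' := hS.map_of_exact (EtCoh.pull g)
    have : Injective (S.map (EtCoh.pull g)).X₂ := injective_pull g S.X₂
    exact (depthGE_succ_iff j' hS' (mono_unitApp_pull j g j' hr h2)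
      (mono_unitApp_pull j g j' hr hm) n).2 (ih ((depthGE_succ_iff j hS h2 hm n).1 h))

/-- Depth is local on etale covers. -/
theorem depthGE_of_cover (n : ℕ) : ∀ {F : EtCoh.Ab X},
    (∀ x : X, ∃ (V : X.Etale) (v : V.left), V.hom v = x ∧
      EtDepth.DepthGE (pullback.snd j V.hom) ((EtCoh.pull V.hom).obj F) n) → EtDepth.DepthGE j F n := by
  induction n with
  | zero => exact fun _ => depthGE_zero j _
  | succ n ih =>
    intro F h
    have hm : Mono (EtDual.unitApp j F) := by
      rw [mono_unitApp_iff]
      intro W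
      refine (injective_iff_map_eq_zero _).2 fun s hs => ?_
      choose V v hv hd using fun w => h (W.hom w)
      let P : W.left → X.Etale := fun w =>
        haveI : Etale (V w).hom := (V w).prop
        (EtShriek.compEtale (V w).hom).obj ((EtCoh.bc (V w).hom).obj W)
      let π : ∀ w, P w ⟶ W := fun w =>
        haveI : Etale (V w).hom := (V w).prop
        (compBcAdj (V w).hom).counit.app W
      have hS : Sieve.ofArrows _ π ∈ X.smallEtaleTopology W := Unr55.EtSh.mem_topology fun w => by
        obtain ⟨z, hz, -⟩ := Scheme.Pullback.exists_preimage_pullback (f := W.hom) (g := (V w).hom) w (v w)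
          (hv w).symm
        exact ⟨_, π w, z, Sieve.ofArrows_mk _ _ w, hz⟩
      refine (Unr55.EtSh.isSheafFor_forget F hS).isSeparatedFor.ext fun Z f hf => ?_
      obtain ⟨w, a, rfl⟩ := (Sieve.mem_ofArrows_iff _ _ _).1 hf
      change F.obj.map (a ≫ π w).op s = F.obj.map (a ≫ π w).op 0
      rw [LocConst45.map_comp', map_zero]
      refine (congrArg _ ?_).trans (map_zero _)
      have : Etale (V w).hom := (V w).prop
      let W'' := (EtCoh.bc (V w).hom).obj W
      have hm' := (mono_unitApp_iff (pullback.snd j (V w).hom) _).1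
        (mono_of_depthGE _ (hd w)) W''
      obtain ⟨t, ht⟩ := (pullSect_bijective (V w).hom F W'').2 (F.obj.map (π w).op s)
      rw [← ht, show t = 0 from ?_, map_zero]
      refine hm' ?_
      rw [map_zero]
      refine (pullSect_bijective (V w).hom F _).1 ?_
      refine (pullSect_map _ _ _).trans ((congrArg _ ht).trans ?_)
      refine (LocConst45.map_comp' _ _ _ _).symm.trans (Eq.trans ?_ (map_zero _).symm)
      let T := (EtShriek.compEtale (V w).hom).obj
        ((EtShriek.compEtale (pullback.snd j (V w).hom)).obj ((EtCoh.bc (pullback.snd j (V w).hom)).obj W''))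
      let k : T ⟶ W := (EtShriek.compEtale (V w).hom).map
        ((compBcAdj (pullback.snd j (V w).hom)).counit.app W'') ≫ π w
      have hk : Set.range k.left ⊆ Set.range ((compBcAdj j).counit.app W).left := by
        refine le_trans ?_ (Scheme.Pullback.range_fst (f := W.hom) (g := j)).ge
        rintro _ ⟨z, rfl⟩
        refine ⟨pullback.fst j (V w).hom (pullback.snd W''.hom (pullback.snd j (V w).hom) z), ?_⟩
        have h1 : T.hom z = W.hom (k.left z) :=
          (congrArg (fun r : T.left ⟶ X => r z) (MorphismProperty.Over.w k)).symm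
        refine Eq.trans ?_ h1
        exact congrArg (fun r => r (pullback.snd W''.hom (pullback.snd j (V w).hom) z)) (pullback.condition (f := j) (g := (V w).hom))
      have hoi := isOI_counit j W
      let φ : T ⟶ (EtShriek.compEtale j).obj ((EtCoh.bc j).obj W) :=
        MorphismProperty.Over.homMk (@IsOpenImmersion.lift _ _ _ _ _ hoi hk) (by
          refine ((congrArg (@IsOpenImmersion.lift _ _ _ _ _ hoi hk ≫ ·)
            (MorphismProperty.Over.w ((compBcAdj j).counit.app W))).symm.trans (Category.assoc _ _ _).symm).trans ?_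
          exact (congrArg (· ≫ W.hom) (@IsOpenImmersion.lift_fac _ _ _ _ _ hoi hk)).trans (MorphismProperty.Over.w k)) trivial
      have hφ : φ ≫ (compBcAdj j).counit.app W = k :=
        MorphismProperty.Over.Hom.ext (@IsOpenImmersion.lift_fac _ _ _ _ _ hoi hk)
      change F.obj.map k.op s = 0
      rw [← hφ, LocConst45.map_comp']
      exact (congrArg (F.obj.map φ.op) hs).trans (map_zero _)
    obtain ⟨S, hS, rfl, hI, h2, -⟩ := exists_shortExact j F hm
    refine (depthGE_succ_iff j hS h2 hm n).2 (ih fun x => ?_)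
    obtain ⟨V, v, hv, hd⟩ := h x
    have : Etale V.hom := V.prop
    have hr := Scheme.Pullback.range_snd (f := j) (g := V.hom)
    have hS' := hS.map_of_exact (EtCoh.pull V.hom)
    have : Injective (S.map (EtCoh.pull V.hom)).X₂ := injective_pull V.hom S.X₂
    exact ⟨V, v, hv, (depthGE_succ_iff (pullback.snd j V.hom) hS' (mono_unitApp_pull j V.hom _ hr h2)
      (mono_unitApp_pull j V.hom _ hr hm) n).1 hd⟩

/-- A trivialisation over an etale scheme makes the inverse image constant. -/
theorem exists_cst_iso {F : EtCoh.Ab X} {V : X.Etale} {M : Type (u + 1)} [AddCommGroup M]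
    {σ : M →+ EtCoh.sect F V} (h : LocConst45.IsTriv F V σ) :
    Nonempty ((constantSheaf V.left.smallEtaleTopology AddCommGrpCat.{u + 1}).obj (AddCommGrpCat.of M) ≅
      (EtCoh.pull V.hom).obj F) := by
  have : Etale V.hom := V.prop
  let g := V.hom
  let A := (EtCoh.pull g).obj F
  let T := V.left
  let e : (EtShriek.compEtale g).obj (EtCoh.top T) ≅ V :=
    MorphismProperty.Over.isoMk (Iso.refl _) (by change 𝟙 _ ≫ V.hom = 𝟙 _ ≫ V.hom; rfl)
  let σ' : M → EtCoh.sect A (EtCoh.top T) := fun m =>
    ((pullSect_bijective g F (EtCoh.top T)).2 (F.obj.map e.hom.op (σ m))).choose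
  have hσ' : ∀ m, pullSect g F (EtCoh.top T) (σ' m) = F.obj.map e.hom.op (σ m) := fun m =>
    ((pullSect_bijective g F (EtCoh.top T)).2 (F.obj.map e.hom.op (σ m))).choose_spec
  let σ'' : M →+ EtCoh.sect A (EtCoh.top T) := AddMonoidHom.mk' σ' fun m m' =>
    (pullSect_bijective g F (EtCoh.top T)).1 (by rw [map_add, hσ', hσ', hσ', map_add, map_add])
  let top := EtCore.topIsTerminal T
  let φ : (Functor.const T.Etaleᵒᵖ).obj (AddCommGrpCat.of M) ⟶ A.obj :=
    { app := fun W => AddCommGrpCat.ofHom ((A.obj.map (top.from W.unop).op).hom.comp σ'')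
      naturality := fun W W' k => ConcreteCategory.hom_ext _ _ fun m => by
        change A.obj.map (top.from W'.unop).op (σ'' m) = A.obj.map k.unop.op (A.obj.map (top.from W.unop).op (σ'' m))
        rw [← LocConst45.map_comp', top.hom_ext (k.unop ≫ top.from W.unop) (top.from W'.unop)] }
  have key : ∀ (W : T.Etale) (m : M), pullSect g F W (φ.app (op W) m) =
      F.obj.map ((EtShriek.compEtale g).map (top.from W) ≫ e.hom).op (σ m) := fun W m => by
    rw [LocConst45.map_comp', ← hσ']
    exact pullSect_map g (top.from W) (σ' m)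
  have : Presheaf.IsLocallyInjective T.smallEtaleTopology φ := ⟨by
    intro W m n hmn
    refine Unr55.EtSh.mem_topology fun x => ⟨W.unop, 𝟙 _, x, ?_, rfl⟩
    change (m : M) = n
    refine sub_eq_zero.1 (h.inj _ ((EtShriek.compEtale g).map (top.from W.unop) ≫ e.hom) _ ⟨x⟩ ?_)
    rw [map_sub, map_sub, sub_eq_zero, ← key, ← key]
    exact congrArg (pullSect g F _) hmn⟩
  have : Presheaf.IsLocallySurjective T.smallEtaleTopology φ := ⟨by
    intro W s
    refine Unr55.EtSh.mem_topology fun x => ?_
    obtain ⟨Z, a, z, m, hz, hm⟩ := h.surj ((EtShriek.compEtale g).obj W)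
      ((EtShriek.compEtale g).map (top.from W) ≫ e.hom) (pullSect g F W s) x
    let a₀ : Z.left ⟶ W.left := a.left
    have : Etale a₀ := EtCore45.etale_left a
    have : Etale W.hom := W.prop
    let Z' : T.Etale := Scheme.Etale.mk (a₀ ≫ W.hom)
    let a' : Z' ⟶ W := MorphismProperty.Over.homMk a₀ rfl trivial
    let i : (EtShriek.compEtale g).obj Z' ⟶ Z := MorphismProperty.Over.homMk (𝟙 _) (by
      change 𝟙 _ ≫ Z.hom = (a₀ ≫ W.hom) ≫ g
      rw [Category.id_comp, Category.assoc]
      exact (MorphismProperty.Over.w a).symm) trivial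
    have hi : (EtShriek.compEtale g).map a' = i ≫ a :=
      MorphismProperty.Over.Hom.ext (Category.id_comp _).symm
    refine ⟨Z', a', z, ⟨m, (pullSect_bijective g F Z').1 ?_⟩, hz⟩
    rw [key, pullSect_map, hi, LocConst45.map_comp' F i a, hm, ← LocConst45.map_comp', ← Category.assoc,
      ← hi, ← Category.assoc, ← Functor.map_comp, top.hom_ext (a' ≫ top.from W) (top.from Z')]⟩
  exact ⟨(@asIso _ _ _ _ ((presheafToSheaf T.smallEtaleTopology AddCommGrpCat.{u + 1}).map φ)
      ((T.smallEtaleTopology.W_iff _).1 (T.smallEtaleTopology.W_of_isLocallyBijective φ))) ≪≫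
    (sheafificationIso A).symm⟩

end Groth.Agent.Depth22
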