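import Groth.Agent.EtSupp91.GammaTop
import Groth.Agent.Unr55.Et.Open
import Mathlib.AlgebraicGeometry.Morphisms.FormallyUnramified

/-!
Etale excision for sections with support.
-/

set_option autoImplicit false
set_option backward.isDefEq.respectTransparency.types false
universe u

open CategoryTheory CategoryTheory.Limits AlgebraicGeometry Opposite
open Groth.Agent.Unr55.EtSh Groth.Agent.EtSupp91

namespace Groth.Agent.Depth22

variable {X X' : Scheme.{u}} (f : X' ⟶ X)

/-- Two morphisms from a field spectrum through a point with trivial residue extension agree. -/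
theorem eq_of_comp_eq_of_surjective {K : Type u} [Field K] (a b : Spec (CommRingCat.of K) ⟶ X')
    (hab : a default = b default) (hs : Function.Surjective (f.residueFieldMap (a default)))
    (he : a ≫ f = b ≫ f) : a = b := by
  obtain ⟨⟨z, α⟩, rfl⟩ := (Scheme.SpecToEquivOfField K X').symm.surjective a
  obtain ⟨⟨z', β⟩, rfl⟩ := (Scheme.SpecToEquivOfField K X').symm.surjective b
  change (Spec.map α ≫ X'.fromSpecResidueField z) default =
    (Spec.map β ≫ X'.fromSpecResidueField z') default at hab
  change Function.Surjective (f.residueFieldMap ((Spec.map α ≫ X'.fromSpecResidueField z) default)) at hs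
  have hz : (Spec.map α ≫ X'.fromSpecResidueField z) default = z := X'.fromSpecResidueField_apply z _
  have hz' : (Spec.map β ≫ X'.fromSpecResidueField z') default = z' := X'.fromSpecResidueField_apply z' _
  obtain rfl : z = z' := hz.symm.trans (hab.trans hz')
  rw [hz] at hs
  change (Spec.map α ≫ X'.fromSpecResidueField z) ≫ f = (Spec.map β ≫ X'.fromSpecResidueField z) ≫ f at he
  rw [Category.assoc, Category.assoc, ← f.SpecMap_residueFieldMap_fromSpecResidueField, ← Category.assoc,
    ← Category.assoc, cancel_mono, ← Spec.map_comp, ← Spec.map_comp] at he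
  have : Epi (f.residueFieldMap z) := ConcreteCategory.epi_of_surjective _ hs
  change Spec.map α ≫ X'.fromSpecResidueField z = Spec.map β ≫ X'.fromSpecResidueField z
  rw [(cancel_epi (f.residueFieldMap z)).1 (Spec.map_injective he)]

/-- Two maps into an unramified scheme that agree at a point agree near it. -/
theorem exists_open_eq [Etale f] {W : Scheme.{u}} (a b : W ⟶ X') (he : a ≫ f = b ≫ f) (w : W)
    (hw : W.fromSpecResidueField w ≫ a = W.fromSpecResidueField w ≫ b) :
    ∃ O : W.Opens, w ∈ O ∧ O.ι ≫ a = O.ι ≫ b := by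
  let h : W ⟶ pullback f f := pullback.lift a b he
  have hΔ : IsOpenImmersion (pullback.diagonal f) := inferInstance
  let O : W.Opens := h ⁻¹ᵁ (pullback.diagonal f).opensRange
  have h1 : W.fromSpecResidueField w ≫ h = (W.fromSpecResidueField w ≫ a) ≫ pullback.diagonal f := by
    apply pullback.hom_ext
    · exact ((Category.assoc _ _ _).trans (congrArg (_ ≫ ·) (pullback.lift_fst _ _ _))).trans
        ((Category.assoc _ _ _).trans ((congrArg (_ ≫ ·) (pullback.diagonal_fst f)).trans (Category.comp_id _))).symm
    · exact (((Category.assoc _ _ _).trans (congrArg (_ ≫ ·) (pullback.lift_snd _ _ _))).trans hw.symm).trans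
        ((Category.assoc _ _ _).trans ((congrArg (_ ≫ ·) (pullback.diagonal_snd f)).trans (Category.comp_id _))).symm
  have h2 : Set.range (O.ι ≫ h) ⊆ Set.range (pullback.diagonal f) := by
    rintro _ ⟨x, rfl⟩
    exact x.2
  refine ⟨O, ?_, ?_⟩
  · refine ⟨(W.fromSpecResidueField w ≫ a) default, ?_⟩
    refine (congrArg (fun r => r default) h1.symm).trans ?_
    exact congrArg h (W.fromSpecResidueField_apply w default)
  · let l := IsOpenImmersion.lift (pullback.diagonal f) (O.ι ≫ h) h2
    have hl : l ≫ pullback.diagonal f = O.ι ≫ h := IsOpenImmersion.lift_fac _ _ _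
    have ha : O.ι ≫ a = l := by
      exact ((congrArg (O.ι ≫ ·) (pullback.lift_fst a b he)).symm.trans (Category.assoc _ _ _).symm).trans
        ((congrArg (· ≫ pullback.fst f f) hl).symm.trans
          ((Category.assoc _ _ _).trans ((congrArg (l ≫ ·) (pullback.diagonal_fst f)).trans (Category.comp_id l))))
    have hb : O.ι ≫ b = l := by
      exact ((congrArg (O.ι ≫ ·) (pullback.lift_snd a b he)).symm.trans (Category.assoc _ _ _).symm).trans
        ((congrArg (· ≫ pullback.snd f f) hl).symm.trans
          ((Category.assoc _ _ _).trans ((congrArg (l ≫ ·) (pullback.diagonal_snd f)).trans (Category.comp_id l))))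
    exact ha.trans hb.symm

variable {U U' : Scheme.{u}} (j : U ⟶ X) [IsOpenImmersion j] (j' : U' ⟶ X') [IsOpenImmersion j'] [Etale f]
  (hU' : Set.range j'.base = f.base ⁻¹' Set.range j.base)

theorem openObj_left (g : X' ⟶ X) [Etale g] : (openObj g).hom = g := Category.id_comp g

/-- The smaller open inside the etale neighbourhood. -/
noncomputable abbrev openObj₂ : X.Etale := (EtShriek.compEtale f).obj (openObj j')

/-- Its inclusion. -/
noncomputable abbrev openArr₂ : openObj₂ f j' ⟶ openObj f := (EtShriek.compEtale f).map (openArr j')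

include hU' in
/-- The smaller open maps into the open. -/
theorem exists_toOpen : Nonempty (openObj₂ f j' ⟶ openObj j) := by
  let h₂ : U' ⟶ X := (openObj₂ f j').hom
  have hr : Set.range h₂ ⊆ Set.range j := by
    rintro _ ⟨z, rfl⟩
    have h1 : j' z ∈ f.base ⁻¹' Set.range j.base := hU' ▸ ⟨z, rfl⟩
    exact h1
  let c₀ : U' ⟶ U := IsOpenImmersion.lift j h₂ hr
  have hc₀ : c₀ ≫ j = h₂ := IsOpenImmersion.lift_fac _ _ _
  exact ⟨MorphismProperty.Over.homMk c₀ ((congrArg (c₀ ≫ ·) (Category.id_comp j)).trans hc₀) trivial⟩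

include hU' in
/-- A map to the etale neighbourhood landing over the open factors through the smaller open. -/
theorem exists_factor {W : X.Etale} (b : W ⟶ openObj f) (hb : ∀ w, W.hom w ∈ Set.range j.base) :
    ∃ c : W ⟶ openObj₂ f j', c ≫ openArr₂ f j' = b := by
  have hl : (openArr₂ f j').left = j' := by
    have h1 := MorphismProperty.Over.w (openArr j')
    exact ((Category.comp_id _).symm.trans h1).trans (Category.id_comp _)
  let bl : W.left ⟶ X' := b.left
  have hr : Set.range bl ⊆ Set.range j' := by
    rintro _ ⟨w, rfl⟩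
    refine (Set.ext_iff.1 hU' (bl w)).2 ?_
    change f (b.left w) ∈ Set.range j.base
    have h1 : f (b.left w) = W.hom w := congrArg (fun r : W.left ⟶ X => r w)
      ((congrArg (b.left ≫ ·) (openObj_left f)).symm.trans (MorphismProperty.Over.w b))
    rw [h1]
    exact hb w
  let c₀ : W.left ⟶ U' := IsOpenImmersion.lift j' bl hr
  have hc₀ : c₀ ≫ j' = bl := IsOpenImmersion.lift_fac _ _ _
  let c : W ⟶ openObj₂ f j' := MorphismProperty.Over.homMk c₀ (by
    change c₀ ≫ (𝟙 _ ≫ j') ≫ f = W.hom
    rw [Category.id_comp, ← Category.assoc, hc₀]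
    exact (congrArg (bl ≫ ·) (openObj_left f)).symm.trans (MorphismProperty.Over.w b)) trivial
  refine ⟨c, MorphismProperty.Over.Hom.ext ?_⟩
  exact (congrArg (c₀ ≫ ·) hl).trans hc₀

variable (hZ : Set.BijOn f.base (Set.range j'.base)ᶜ (Set.range j.base)ᶜ)
  (hκ : ∀ x' : ↥X', x' ∉ Set.range j'.base → Function.Surjective (f.residueFieldMap x'))
  (F : EtCoh.Ab X)

include hU' hZ hκ in
/-- A section with support off the smaller open has equal restrictions along all maps. -/
theorem map_eq_map (t : EtCoh.sect F (openObj f)) (ht : F.obj.map (openArr₂ f j').op t = 0) {W : X.Etale}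
    (a b : W ⟶ openObj f) : F.obj.map a.op t = F.obj.map b.op t := by
  refine sub_eq_zero.1 (sect_eq_zero_of_local F _ fun w => ?_)
  have he : a.left ≫ f = b.left ≫ f :=
    ((congrArg (a.left ≫ ·) (openObj_left f)).symm.trans (MorphismProperty.Over.w a)).trans
      ((congrArg (b.left ≫ ·) (openObj_left f)).symm.trans (MorphismProperty.Over.w b)).symm
  suffices ∃ O : W.left.Opens, w ∈ O ∧
      F.obj.map (openSubι W O).op (F.obj.map a.op t) = F.obj.map (openSubι W O).op (F.obj.map b.op t) by
    obtain ⟨O, hw, hO⟩ := this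
    exact ⟨_, openSubι W O, ⟨w, hw⟩, rfl, (map_sub _ _ _).trans (sub_eq_zero.2 hO)⟩
  have ha : f (a.left w) = W.hom w := congrArg (fun r : W.left ⟶ X => r w)
    ((congrArg (a.left ≫ ·) (openObj_left f)).symm.trans (MorphismProperty.Over.w a))
  have hb : f (b.left w) = W.hom w := congrArg (fun r : W.left ⟶ X => r w)
    ((congrArg (b.left ≫ ·) (openObj_left f)).symm.trans (MorphismProperty.Over.w b))
  by_cases hw : W.hom w ∈ Set.range j.base
  · let O : W.left.Opens := ⟨W.hom ⁻¹' Set.range j.base,
      j.isOpenEmbedding.isOpen_range.preimage W.hom.continuous⟩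
    have hz : ∀ c : W ⟶ openObj f, F.obj.map (openSubι W O).op (F.obj.map c.op t) = 0 := fun c => by
      obtain ⟨d, hd⟩ := exists_factor f j j' hU' (openSubι W O ≫ c) fun z => z.2
      exact (EtCore45.MV.map_map F c _ t).trans (map_map_eq_zero F (openArr₂ f j') d _ hd t ht)
    exact ⟨O, hw, (hz a).trans (hz b).symm⟩
  · have hm : ∀ c : X', f c = W.hom w → c ∉ Set.range j'.base := fun c hc hcm => by
      rw [hU'] at hcm
      exact hw (hc ▸ hcm)
    have hab : a.left w = b.left w := hZ.injOn (hm _ ha) (hm _ hb) (ha.trans hb.symm)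
    have hd : ∀ r : W.left ⟶ X', (W.left.fromSpecResidueField w ≫ r) default = r w := fun r =>
      congrArg r (W.left.fromSpecResidueField_apply w default)
    have hk := eq_of_comp_eq_of_surjective f (W.left.fromSpecResidueField w ≫ a.left)
      (W.left.fromSpecResidueField w ≫ b.left) ((hd a.left).trans (hab.trans (hd b.left).symm))
      ((hd a.left).symm ▸ hκ _ (hm _ ha))
      ((Category.assoc _ _ _).trans ((congrArg (W.left.fromSpecResidueField w ≫ ·) he).trans
        (Category.assoc _ _ _).symm))
    obtain ⟨O, hO, hOe⟩ := exists_open_eq f a.left b.left he w hk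
    refine ⟨O, hO, ?_⟩
    rw [EtCore45.MV.map_map, EtCore45.MV.map_map,
      show openSubι W O ≫ a = openSubι W O ≫ b from MorphismProperty.Over.Hom.ext hOe]

include hZ in
/-- The open and the etale neighbourhood cover. -/
theorem cover_mem : Sieve.ofArrows _ (fun i : Bool =>
    (EtCore.topIsTerminal X).from (cond i (openObj f) (openObj j))) ∈ X.smallEtaleTopology (EtCoh.top X) := by
  refine Unr55.EtSh.mem_topology fun x => ?_
  by_cases hx : x ∈ Set.range j.base
  · obtain ⟨z, hz⟩ := hx
    refine ⟨_, _, (show (openObj j).left from z), Sieve.ofArrows_mk _ _ false, ?_⟩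
    have h1 := MorphismProperty.Over.w ((EtCore.topIsTerminal X).from (openObj j))
    exact (congrArg (fun r : (openObj j).left ⟶ X => r z)
      (((Category.comp_id _).symm.trans h1).trans (openObj_left j))).trans hz
  · obtain ⟨z, -, hz⟩ := hZ.surjOn hx
    refine ⟨_, _, (show (openObj f).left from z), Sieve.ofArrows_mk _ _ true, ?_⟩
    have h1 := MorphismProperty.Over.w ((EtCore.topIsTerminal X).from (openObj f))
    exact (congrArg (fun r : (openObj f).left ⟶ X => r z)
      (((Category.comp_id _).symm.trans h1).trans (openObj_left f))).trans hz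

include hU' hZ hκ in
/-- Sections with support are restricted bijectively. -/
theorem bijective_restrict_supp :
    (∀ s : EtCoh.sect F (EtCoh.top X), F.obj.map (openArr j).op s = 0 → F.obj.map (openArr f).op s = 0 → s = 0) ∧
    ∀ t : EtCoh.sect F (openObj f), F.obj.map (openArr₂ f j').op t = 0 →
      ∃ s : EtCoh.sect F (EtCoh.top X), F.obj.map (openArr j).op s = 0 ∧ F.obj.map (openArr f).op s = t := by
  have hS := cover_mem f j j' hZ
  constructor
  · intro s h0 h1
    refine (isSheafFor_forget F hS).isSeparatedFor.ext fun V g hg => ?_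
    obtain ⟨i, a, rfl⟩ := (Sieve.mem_ofArrows_iff _ _ _).1 hg
    change F.obj.map (a ≫ _).op s = F.obj.map (a ≫ _).op 0
    rw [map_zero]
    cases i
    · exact map_map_eq_zero F (openArr j) a _ rfl s h0
    · exact map_map_eq_zero F (openArr f) a _ rfl s h1
  · intro t ht
    let x : ∀ i : Bool, EtCoh.sect F (cond i (openObj f) (openObj j)) := fun i =>
      Bool.rec (motive := fun i => EtCoh.sect F (cond i (openObj f) (openObj j))) 0 t i
    have hF : Presieve.IsSheafFor (F.obj ⋙ forget AddCommGrpCat.{u + 1}) (Presieve.ofArrows _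
        (fun i : Bool => (EtCore.topIsTerminal X).from (cond i (openObj f) (openObj j)))) :=
      (Presieve.isSheafFor_iff_generate _).2 (isSheafFor_forget F hS)
    have hz : ∀ {W : X.Etale} (a : W ⟶ openObj f) (b : W ⟶ openObj j), F.obj.map a.op t = 0 := fun {W} a b => by
      obtain ⟨d, hd⟩ := exists_factor f j j' hU' a fun w => ⟨b.left w, congrArg (fun r : W.left ⟶ X => r w)
        ((congrArg (b.left ≫ ·) (openObj_left j)).symm.trans (MorphismProperty.Over.w b))⟩
      exact map_map_eq_zero F _ d _ hd t ht
    obtain ⟨s, hs, -⟩ := (Presieve.isSheafFor_arrows_iff _ _).1 hF x (by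
      intro i i' Z gi gi' _
      cases i <;> cases i'
      · change F.obj.map gi.op 0 = F.obj.map gi'.op 0
        rw [map_zero, map_zero]
      · change F.obj.map gi.op 0 = F.obj.map gi'.op t
        rw [map_zero, hz gi' gi]
      · change F.obj.map gi.op t = F.obj.map gi'.op 0
        rw [map_zero, hz gi gi']
      · exact map_eq_map f j j' hU' hZ hκ F t ht gi gi')
    exact ⟨s, hs false, hs true⟩

include hU' hZ hκ in
/-- Etale excision. -/
theorem nonempty_HY_iso_of_excision (r : ℕ) :
    Nonempty ((EtDual.HY j r).obj F ≅ (EtDual.HY j' r).obj ((EtCoh.pull f).obj F)) := by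
  obtain ⟨ej⟩ := nonempty_gammaSupp_iso j
  obtain ⟨ej'⟩ := nonempty_gammaSupp_iso j'
  obtain ⟨toU⟩ := exists_toOpen f j j' hU'
  let R := EtShriek.restrAlong f
  let G := R ⋙ gammaTop j'
  have hG : G.Additive := by
    have : R.Additive := { map_add := rfl }
    infer_instance
  let b : gammaTop j ⟶ G :=
    { app := fun A => AddCommGrpCat.ofHom (((A.obj.map (openArr f).op).hom.comp
        (AddMonoidHom.ker (A.obj.map (openArr j).op).hom).subtype).codRestrict
          (AddMonoidHom.ker ((R.obj A).obj.map (openArr j').op).hom) fun s =>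
            (EtCore45.MV.map_map A (openArr f) (openArr₂ f j') s.1).trans
              (map_map_eq_zero A (openArr j) toU _ ((EtCore.topIsTerminal X).hom_ext _ _) s.1 s.2))
      naturality := fun A B g => ConcreteCategory.hom_ext _ _ fun s => Subtype.ext
        (NatTrans.naturality_apply g.hom (openArr f).op s.1).symm }
  have hb : ∀ A, IsIso (b.app A) := fun A => by
    obtain ⟨h1, h2⟩ := bijective_restrict_supp f j j' hU' hZ hκ A
    refine (ConcreteCategory.isIso_iff_bijective _).2 ⟨(injective_iff_map_eq_zero _).2 fun s hs =>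
      Subtype.ext (h1 s.1 s.2 (congrArg Subtype.val hs)), fun t => ?_⟩
    obtain ⟨s, hs, hst⟩ := h2 t.1 t.2
    exact ⟨⟨s, hs⟩, Subtype.ext hst⟩
  have : IsIso b := NatIso.isIso_of_isIso_app b
  have := Unr55.EtSh.preservesFiniteLimits_pull f
  have hinj : ∀ I : EtCoh.Ab X, Injective I → Injective ((EtCoh.pull f).obj I) :=
    fun I _ => EtCore45.injective_pull f I
  let γ : EtCoh.pull f ⋙ EtDual.gammaSupp j' ≅ EtDual.gammaSupp j :=
    Functor.isoWhiskerRight (EtCore45.pullRestrIso f) _ ≪≫ Functor.isoWhiskerLeft R ej' ≪≫ (asIso b).symm ≪≫ ej.symm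
  exact ⟨(derCongr γ r).symm.app F ≪≫
    (LocCohZ46.rightDerivedPreExactIso (EtCoh.pull f) hinj (EtDual.gammaSupp j') r).app F⟩

end Groth.Agent.Depth22
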