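import Groth.Agent.FEt83.AffineEquiv
import Groth.Agent.FEt83.AffineBaseChange
import Mathlib.RingTheory.Etale.Field

/-!
Base change of finite etale algebras along a field extension is an equivalence if finite separable
extensions stay fields and all of those upstairs come from below.
-/

set_option autoImplicit false
universe u

open CategoryTheory Limits AlgebraicGeometry
open scoped TensorProduct

namespace Groth.Agent.Depth22.FETBaseChange

variable (K F : Type u) [Field K] [Field F] [Algebra K F]

variable (hF : ∀ (L : Type u) [Field L] [Algebra K L] [FiniteDimensional K L] [Algebra.IsSeparable K L],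
  IsField (F ⊗[K] L))

include hF

/-- Separable elements of a base changed field are already below. -/
theorem mem_range_field (L : Type u) [Field L] [Algebra K L] [FiniteDimensional K L]
    [Algebra.IsSeparable K L] (y : F ⊗[K] L) {f : Polynomial K} (hf : f.Separable)
    (hy : Polynomial.aeval y f = 0) :
    ∃ l : L, (1 : F) ⊗ₜ[K] l = y := by
  let _ := (hF L).toField
  let ι : L →ₐ[K] F ⊗[K] L := Algebra.TensorProduct.includeRight
  let M := F ⊗[K] L
  let _ : Algebra L M := ι.toRingHom.toAlgebra
  have : IsScalarTower K L M := IsScalarTower.of_algebraMap_eq fun x => (ι.commutes x).symm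
  let S := separableClosure K M
  have hyS : y ∈ S := mem_separableClosure_iff.2 (hf.of_dvd (minpoly.dvd K y hy))
  have hιS : ∀ l, ι l ∈ S := fun l => mem_separableClosure_iff.2
    ((Algebra.IsSeparable.isSeparable K l).map ι ι.toRingHom.injective)
  have hint : IsIntegral L y := IsIntegral.tower_top (mem_separableClosure_iff.1 hyS).isIntegral
  let L' := IntermediateField.adjoin L ({y} : Set M)
  have : FiniteDimensional L L' := IntermediateField.adjoin.finiteDimensional hint
  have : FiniteDimensional K L' := Module.Finite.trans L L'
  have hle : L'.restrictScalars K ≤ S := by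
    intro x hx
    refine IntermediateField.adjoin_induction L (p := fun a _ => a ∈ S) ?_ hιS
      (fun _ _ _ _ h1 h2 => add_mem h1 h2) (fun _ _ h => inv_mem h) (fun _ _ _ _ h1 h2 => mul_mem h1 h2) hx
    rintro _ rfl
    exact hyS
  have : Algebra.IsSeparable K L' :=
    (le_separableClosure_iff K M (L'.restrictScalars K)).1 hle
  let _ := (hF L').toField
  let ψ : F ⊗[K] L' →ₐ[F] M :=
    Algebra.TensorProduct.lift (Algebra.ofId F M) ((L'.val).restrictScalars K) (fun _ _ => Commute.all _ _)
  have hle : Module.finrank K L' ≤ Module.finrank K L := by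
    rw [← Module.finrank_baseChange (R := F) (S := K) (M' := L'),
      ← Module.finrank_baseChange (R := F) (S := K) (M' := L)]
    exact LinearMap.finrank_le_finrank_of_injective (f := ψ.toLinearMap) ψ.toRingHom.injective
  have h1 : Module.finrank L L' = 1 := by
    have := Module.finrank_mul_finrank K L L'
    have hpos : 0 < Module.finrank K L := Module.finrank_pos
    have hpos' : 0 < Module.finrank L L' := Module.finrank_pos
    nlinarith
  have hyb : y ∈ (⊥ : IntermediateField L M) := by
    rw [← IntermediateField.finrank_eq_one_iff.1 h1]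
    exact IntermediateField.mem_adjoin_simple_self L y
  obtain ⟨l, hl⟩ := IntermediateField.mem_bot.1 hyb
  exact ⟨l, hl⟩

theorem faithful : (CommAlgCat.FiniteEtale.baseChange.{u, u} (R := K) F).Faithful where
  map_injective {C D φ ψ} h := by
    ext x
    have h' : (1 : F) ⊗ₜ[K] φ.hom.hom x = (1 : F) ⊗ₜ[K] ψ.hom.hom x :=
      congr($h ((1 : F) ⊗ₜ[K] x))
    exact Algebra.TensorProduct.includeRight_injective (algebraMap K F).injective h'

theorem full : (CommAlgCat.FiniteEtale.baseChange.{u, u} (R := K) F).Full where
  map_surjective {C D} k := by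
    classical
    let k' : F ⊗[K] C.obj →ₐ[F] F ⊗[K] D.obj := k.hom.hom
    obtain ⟨I, _, Li, _, _, e, hsep⟩ := (Algebra.FormallyEtale.iff_exists_algEquiv_prod K D.obj).1 inferInstance
    let Fin' : Fintype I := Fintype.ofFinite I
    let eF : F ⊗[K] D.obj ≃ₐ[F] Π i, F ⊗[K] Li i :=
      (Algebra.TensorProduct.congr AlgEquiv.refl e).trans (Algebra.TensorProduct.piRight K F F Li)
    have key : ∀ c : C.obj, ∃ d : D.obj, (1 : F) ⊗ₜ[K] d = k' ((1 : F) ⊗ₜ[K] c) := by
      intro c
      have hi : ∀ i, ∃ l : Li i, (1 : F) ⊗ₜ[K] l = eF (k' ((1 : F) ⊗ₜ[K] c)) i := fun i => by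
        have : FiniteDimensional K (Li i) := by
          have : Module.Finite K (Π i, Li i) := Module.Finite.equiv e.toLinearEquiv
          exact Module.Finite.of_surjective (LinearMap.proj i) (LinearMap.proj_surjective i)
        have := hsep i
        let χ : C.obj →ₐ[K] F ⊗[K] Li i :=
          (((Pi.evalAlgHom F (fun i => F ⊗[K] Li i) i).comp (eF.toAlgHom.comp k')).restrictScalars K).comp
            Algebra.TensorProduct.includeRight
        let _ := (hF (Li i)).toField
        have hr : IsField (C.obj ⧸ RingHom.ker χ.toRingHom) := by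
          have hp : (RingHom.ker χ.toRingHom).IsPrime := RingHom.ker_isPrime _
          have : IsArtinianRing C.obj := inferInstance
          exact (Ideal.Quotient.maximal_ideal_iff_isField_quotient _).1 (IsArtinianRing.isMaximal_of_isPrime _)
        let _ := hr.toField
        let π := Ideal.Quotient.mkₐ K (RingHom.ker χ.toRingHom)
        have : Algebra.FormallyUnramified K (C.obj ⧸ RingHom.ker χ.toRingHom) :=
          Algebra.FormallyUnramified.of_surjective π Ideal.Quotient.mk_surjective
        have : Algebra.IsSeparable K (C.obj ⧸ RingHom.ker χ.toRingHom) :=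
          Algebra.FormallyUnramified.isSeparable K _
        have hs : (minpoly K (π c)).Separable := Algebra.IsSeparable.isSeparable K (π c)
        refine mem_range_field K F hF (Li i) (χ c) hs ?_
        let χ' : (C.obj ⧸ RingHom.ker χ.toRingHom) →ₐ[K] F ⊗[K] Li i :=
          Ideal.Quotient.liftₐ _ χ (fun a ha => ha)
        rw [show χ c = χ' (π c) from rfl, Polynomial.aeval_algHom_apply, minpoly.aeval, map_zero]
      choose l hl using hi
      refine ⟨e.symm l, eF.injective (funext fun i => ?_)⟩
      rw [← hl]
      simp [eF]
    choose φ hφ using key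
    have hinj : Function.Injective (fun d : D.obj => (1 : F) ⊗ₜ[K] d) :=
      Algebra.TensorProduct.includeRight_injective (algebraMap K F).injective
    let φ' : C.obj →ₐ[K] D.obj :=
      { toFun := φ
        map_one' := hinj (by simp only [hφ]; rw [← Algebra.TensorProduct.one_def, map_one]; rfl)
        map_mul' := fun a b => hinj (by
          have h2 : ∀ (T : Type u) [CommRing T] [Algebra K T] (u v : T),
              (1 : F) ⊗ₜ[K] (u * v) = ((1 : F) ⊗ₜ[K] u) * ((1 : F) ⊗ₜ[K] v) := fun T _ _ u v => by
            rw [Algebra.TensorProduct.tmul_mul_tmul, mul_one]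
          simp only [hφ, h2, map_mul])
        map_zero' := hinj (by simp only [hφ, TensorProduct.tmul_zero, map_zero])
        map_add' := fun a b => hinj (by simp only [hφ, TensorProduct.tmul_add, map_add])
        commutes' := fun r => hinj (by
          simp only [hφ]
          have h1 : ∀ (T : Type u) [CommRing T] [Algebra K T],
              (1 : F) ⊗ₜ[K] algebraMap K T r = algebraMap F (F ⊗[K] T) (algebraMap K F r) := fun T _ _ => by
            rw [Algebra.TensorProduct.algebraMap_apply, Algebra.algebraMap_self_apply,
              Algebra.algebraMap_eq_smul_one, Algebra.algebraMap_eq_smul_one, TensorProduct.smul_tmul]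
          rw [h1 C.obj, h1 D.obj]
          exact k'.commutes _) }
    refine ⟨ObjectProperty.homMk (CommAlgCat.ofHom φ'), ?_⟩
    ext x
    show Algebra.TensorProduct.map (AlgHom.id F F) φ' x = k' x
    refine DFunLike.congr_fun (show Algebra.TensorProduct.map (AlgHom.id F F) φ' = k' from ?_) x
    ext c
    exact hφ c

omit hF in
theorem essSurj (hd : ∀ (M : Type u) [Field M] [Algebra F M] [FiniteDimensional F M] [Algebra.IsSeparable F M],
    ∃ (L : Type u) (_ : Field L) (_ : Algebra K L), FiniteDimensional K L ∧ Algebra.IsSeparable K L ∧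
      Nonempty ((F ⊗[K] L) ≃ₐ[F] M)) :
    (CommAlgCat.FiniteEtale.baseChange.{u, u} (R := K) F).EssSurj where
  mem_essImage C := by
    classical
    obtain ⟨I, _, Mi, _, _, e, hsep⟩ := (Algebra.FormallyEtale.iff_exists_algEquiv_prod F C.obj).1 inferInstance
    let Fin' : Fintype I := Fintype.ofFinite I
    have : Module.Finite F (Π i, Mi i) := Module.Finite.equiv e.toLinearEquiv
    have hfin : ∀ i, FiniteDimensional F (Mi i) := fun i =>
      Module.Finite.of_surjective (LinearMap.proj i) (LinearMap.proj_surjective i)
    choose Li _ _ hLf hLs hLe using fun i => hd (Mi i)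
    let D := Π i, Li i
    have : Module.Finite K D := Module.Finite.pi
    have : Algebra.FormallyEtale K D :=
      (Algebra.FormallyEtale.iff_exists_algEquiv_prod K D).2
        ⟨I, inferInstance, Li, inferInstance, inferInstance, AlgEquiv.refl, hLs⟩
    have : Algebra.FinitePresentation K D := Algebra.FinitePresentation.of_finiteType.1 inferInstance
    have : Algebra.Etale K D := ⟨inferInstance, inferInstance⟩
    exact ⟨CommAlgCat.FiniteEtale.of K D, ⟨CommAlgCat.FiniteEtale.isoMk
      (((Algebra.TensorProduct.piRight K F F Li).trans (AlgEquiv.piCongrRight fun i => (hLe i).some)).trans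
        e.symm)⟩⟩

theorem isEquivalence_restrict (hd : ∀ (M : Type u) [Field M] [Algebra F M] [FiniteDimensional F M]
    [Algebra.IsSeparable F M],
    ∃ (L : Type u) (_ : Field L) (_ : Algebra K L), FiniteDimensional K L ∧ Algebra.IsSeparable K L ∧
      Nonempty ((F ⊗[K] L) ≃ₐ[F] M)) :
    (FEt.restrict (Spec.map (CommRingCat.ofHom (algebraMap K F)))).IsEquivalence := by
  have := faithful K F hF
  have := full K F hF
  have := essSurj K F hd
  have : (CommAlgCat.FiniteEtale.baseChange.{u, u} (R := K) F).IsEquivalence := {}
  have := Functor.isEquivalence_of_iso (FEt83.specFunctorRestrictIso K F).symm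
  exact Functor.isEquivalence_of_comp_left (FEt83.specFunctor K) _

end Groth.Agent.Depth22.FETBaseChange
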