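import Groth.Agent.Depth22.ClopenDepth
import Groth.Agent.CAlg9.CIT.FibreStalks
import Groth.Agent.CAlg9.CIT.FibreCodim
import Groth.Agent.Unr55.EtaleComponents
import Groth.Agent.Unr55.EtStalk
import Groth.Agent.CAlg1.FlatFibre
import Groth.Agent.S0335
import Groth.Prelude.Def_CAlg2

/-!
Clopen subsets along a closed subset which is nowhere dense in the fibres of a flat morphism with
reduced fibres.
-/

set_option autoImplicit false
set_option backward.isDefEq.respectTransparency.types false
universe u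

open CategoryTheory CategoryTheory.Limits AlgebraicGeometry IsLocalRing TopologicalSpace

namespace Groth.Agent.Depth22.FibreClopen

/-- A reduced Noetherian local ring which is not a field has positive depth. -/
theorem one_le_depth_of_isReduced {R : Type u} [CommRing R] [IsLocalRing R] [IsNoetherianRing R]
    [_root_.IsReduced R] (h : maximalIdeal R ≠ ⊥) : (1 : ℕ∞) ≤ LocCoh.depth R R := by
  rw [Order.one_le_iff_pos, pos_iff_ne_zero, Ne, EGA4Alg4.depth_eq_zero_iff]
  intro hass
  obtain ⟨hp, x, hx⟩ := isAssociatedPrime_iff.mp hass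
  have hx' : ∀ a : R, a ∈ maximalIdeal R ↔ a * x = 0 := fun a => by
    rw [hx, Submodule.mem_colon_singleton, Submodule.mem_bot, smul_eq_mul]
  by_cases hu : x ∈ maximalIdeal R
  · have h0 : x = 0 := eq_zero_of_pow_eq_zero (n := 2) (by rw [pow_two]; exact (hx' x).1 hu)
    exact (maximalIdeal R).one_notMem ((hx' 1).2 (by rw [h0, mul_zero]))
  · exact h ((Submodule.eq_bot_iff _).2 fun a ha =>
      (notMem_maximalIdeal.1 hu).mul_left_eq_zero.1 ((hx' a).1 ha))

variable {X S : Scheme.{u}}

/-- The primes of a stalk containing the extended maximal ideal are those of points of the fibre. -/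
theorem mem_fibre_iff (h : X ⟶ S) (y : X) (Q : PrimeSpectrum (X.presheaf.stalk y)) :
    h (X.fromSpecStalk y Q) = h y ↔
      (maximalIdeal (S.presheaf.stalk (h y))).map (h.stalkMap y).hom ≤ Q.asIdeal := by
  have hc : S.fromSpecStalk (h y) (PrimeSpectrum.comap (h.stalkMap y).hom Q) = h (X.fromSpecStalk y Q) :=
    congrArg (fun k => k Q) (Scheme.SpecMap_stalkMap_fromSpecStalk (f := h) (x := y))
  rw [Ideal.map_le_iff_le_comap, ← hc]
  constructor
  · intro e
    have := (S.fromSpecStalk (h y)).isEmbedding.injective (e.trans Scheme.fromSpecStalk_closedPoint.symm)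
    exact (congrArg PrimeSpectrum.asIdeal this).ge
  · intro hle
    have : PrimeSpectrum.comap (h.stalkMap y).hom Q = closedPoint (S.presheaf.stalk (h y)) :=
      PrimeSpectrum.ext ((maximalIdeal.isMaximal _).eq_of_le (PrimeSpectrum.comap _ Q).2.ne_top hle).symm
    rw [this]
    exact Scheme.fromSpecStalk_closedPoint

theorem eq_fromSpecStalk {y z : X} (hz : z ⤳ y) : ∃ Q, X.fromSpecStalk y Q = z := by
  have : z ∈ Set.range (X.fromSpecStalk y) := by rw [X.range_fromSpecStalk]; exact hz
  exact this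

theorem specializes_fromSpecStalk (y : X) (Q : PrimeSpectrum (X.presheaf.stalk y)) :
    X.fromSpecStalk y Q ⤳ y := by
  have : X.fromSpecStalk y Q ∈ Set.range (X.fromSpecStalk y) := ⟨Q, rfl⟩
  rw [X.range_fromSpecStalk] at this
  exact this

theorem le_of_specializes {y : X} {P Q : PrimeSpectrum (X.presheaf.stalk y)}
    (h : X.fromSpecStalk y P ⤳ X.fromSpecStalk y Q) : P.asIdeal ≤ Q.asIdeal :=
  (PrimeSpectrum.le_iff_specializes P Q).2 ((X.fromSpecStalk y).isEmbedding.isInducing.specializes_iff.1 h)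

/-- A point of positive dimension in its fibre has a strict generization in the fibre. -/
theorem exists_lt_of_dim (h : X ⟶ S) (y : X) (hd : (1 : WithBot ℕ∞) ≤ ringKrullDim (CInt.fiberStalk h y)) :
    ∃ z, z ⤳ y ∧ z ≠ y ∧ h z = h y := by
  let m := (maximalIdeal (S.presheaf.stalk (h y))).map (h.stalkMap y).hom
  have hd' : (1 : WithBot ℕ∞) ≤ ringKrullDim (X.presheaf.stalk y ⧸ m) :=
    (ringKrullDim_eq_of_ringEquiv (CAlg9.CIT.fiberStalkEquiv h y)).symm ▸ hd
  have : IsLocalHom (h.stalkMap y).hom := h.toLRSHom.prop y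
  by_contra hno
  have hone : ∀ Q : PrimeSpectrum (X.presheaf.stalk y), m ≤ Q.asIdeal →
      Q = closedPoint (X.presheaf.stalk y) := fun Q hQ => by
    refine (X.fromSpecStalk y).isEmbedding.injective (Eq.trans ?_ Scheme.fromSpecStalk_closedPoint.symm)
    by_contra hne
    exact hno ⟨_, specializes_fromSpecStalk y Q, hne, (mem_fibre_iff h y Q).2 hQ⟩
  have : Ring.KrullDimLE 0 (X.presheaf.stalk y ⧸ m) := by
    refine Ring.krullDimLE_zero_iff.2 fun p hp => ?_
    have e : p.comap (Ideal.Quotient.mk m) = maximalIdeal _ := congrArg PrimeSpectrum.asIdeal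
      (hone ⟨p.comap (Ideal.Quotient.mk m), Ideal.comap_isPrime _ _⟩
        (fun a ha => by simp [Ideal.Quotient.eq_zero_iff_mem.2 ha]))
    have hmax : (p.comap (Ideal.Quotient.mk m)).IsMaximal := by rw [e]; infer_instance
    exact Ideal.map_comap_of_surjective _ Ideal.Quotient.mk_surjective p ▸
      Ideal.IsMaximal.map_of_surjective_of_ker_le Ideal.Quotient.mk_surjective
        (by rw [Ideal.mk_ker]; exact fun a ha => by simp [Ideal.Quotient.eq_zero_iff_mem.2 ha])
  exact absurd (hd'.trans (Ring.krullDimLE_iff.1 this)) (by norm_num)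

variable {U : Scheme.{u}} (h : X ⟶ S) (V : Set X)
  (hV : ∀ y, y ∉ V → (1 : WithBot ℕ∞) ≤ ringKrullDim (CInt.fiberStalk h y))

include hV

/-- Minimal points of the fibres lie in `V`. -/
theorem mem_of_minimal {y : X} (P : PrimeSpectrum (X.presheaf.stalk y))
    (hP : (maximalIdeal (S.presheaf.stalk (h y))).map (h.stalkMap y).hom ≤ P.asIdeal)
    (hmin : ∀ Q : PrimeSpectrum (X.presheaf.stalk y),
      (maximalIdeal (S.presheaf.stalk (h y))).map (h.stalkMap y).hom ≤ Q.asIdeal →
      Q.asIdeal ≤ P.asIdeal → Q = P) : X.fromSpecStalk y P ∈ V := by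
  by_contra hη
  obtain ⟨z, hz, hne, he⟩ := exists_lt_of_dim h _ (hV _ hη)
  obtain ⟨Q, rfl⟩ := eq_fromSpecStalk (hz.trans (specializes_fromSpecStalk y P))
  exact hne (congrArg _ (hmin Q ((mem_fibre_iff h y Q).1 (he.trans ((mem_fibre_iff h y P).2 hP)))
    (le_of_specializes hz)))

theorem dense : Dense V := by
  intro y
  let m := (maximalIdeal (S.presheaf.stalk (h y))).map (h.stalkMap y).hom
  have : IsLocalHom (h.stalkMap y).hom := h.toLRSHom.prop y
  obtain ⟨P, hP, -⟩ := Ideal.exists_minimalPrimes_le (I := m) (J := maximalIdeal (X.presheaf.stalk y))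
    (map_maximalIdeal_le _)
  exact (specializes_fromSpecStalk y ⟨P, hP.1.1⟩).mem_closed isClosed_closure
    (subset_closure (mem_of_minimal h V hV ⟨P, hP.1.1⟩ hP.1.2
      fun Q h1 h2 => PrimeSpectrum.ext (le_antisymm h2 (hP.2 ⟨Q.2, h1⟩ h2))))

omit hV

/-- A point adherent to an open subset of a locally Noetherian scheme is a specialization of a point of it. -/
theorem exists_specializes_mem [IsLocallyNoetherian X] {T : Set X} (hT : IsOpen T) {y : X}
    (hy : y ∈ closure T) : ∃ z ∈ T, z ⤳ y := by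
  obtain ⟨W, hW, hyW, -⟩ := exists_isAffineOpen_mem_and_subset (U := ⊤) (x := y) trivial
  have : IsNoetherianRing Γ(X, W) := IsLocallyNoetherian.component_noetherian ⟨W, hW⟩
  have hN : NoetherianSpace (W : Scheme.{u}) := noetherianSpace_of_isAffineOpen W hW
  let T' : Set (W : Scheme.{u}) := W.ι ⁻¹' T
  obtain ⟨y', hyy⟩ : y ∈ Set.range W.ι := by rw [Scheme.Opens.range_ι]; exact hyW
  subst hyy
  have hy' : y' ∈ closure T' := by
    have := (W.ι.isOpenEmbedding.isOpenMap.preimage_closure_eq_closure_preimage W.ι.continuous T).le hy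
    exact this
  have hfin := NoetherianSpace.finite_irreducibleComponents (α := (W : Scheme.{u}))
  have hsub : T' ⊆ ⋃ Z ∈ {Z ∈ irreducibleComponents (W : Scheme.{u}) | (Z ∩ T').Nonempty}, Z := fun x hx =>
    Set.mem_biUnion ⟨irreducibleComponent_mem_irreducibleComponents x, x, mem_irreducibleComponent, hx⟩
      mem_irreducibleComponent
  obtain ⟨Z, ⟨hZ, hne⟩, hyZ⟩ := Set.mem_iUnion₂.1 (closure_minimal hsub
    ((hfin.subset fun Z hZ => hZ.1).isClosed_biUnion fun Z hZ => isClosed_of_mem_irreducibleComponents Z hZ.1) hy')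
  obtain ⟨ξ, hξ⟩ := QuasiSober.sober hZ.1 (isClosed_of_mem_irreducibleComponents Z hZ)
  obtain ⟨x, hxZ, hxT⟩ := hne
  exact ⟨W.ι ξ, ((hξ.specializes hxZ).map W.ι.continuous).mem_open hT hxT,
    (hξ.specializes hyZ).map W.ι.continuous⟩

/-- Points of a nowhere dense subset are not maximal points. -/
theorem exists_strict_generization [IsLocallyNoetherian S] {T : Set S} (hT : IsNowhereDense T)
    {s : S} (hs : s ∈ T) :
    ∃ z, z ⤳ s ∧ z ≠ s := by
  by_contra! hno
  obtain ⟨W, hW, hsW, -⟩ := exists_isAffineOpen_mem_and_subset (U := ⊤) (x := s) trivial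
  have : IsNoetherianRing Γ(S, W) := IsLocallyNoetherian.component_noetherian ⟨W, hW⟩
  have hN : NoetherianSpace (W : Scheme.{u}) := noetherianSpace_of_isAffineOpen W hW
  obtain ⟨x, hxs⟩ : s ∈ Set.range W.ι := by rw [Scheme.Opens.range_ι]; exact hsW
  subst hxs
  obtain ⟨o, ho, hne, hoZ⟩ := NoetherianSpace.exists_isOpen_nonempty_subset_irreducibleComponent
    (irreducibleComponent x) (irreducibleComponent_mem_irreducibleComponents x)
  obtain ⟨ξ, hξ⟩ := QuasiSober.sober (isIrreducible_irreducibleComponent (x := x))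
    isClosed_irreducibleComponent
  obtain rfl : ξ = x :=
    W.ι.isOpenEmbedding.injective (hno _ ((hξ.specializes mem_irreducibleComponent).map W.ι.continuous))
  have h1 : W.ι '' o ⊆ closure T := by
    rintro _ ⟨z, hz, rfl⟩
    exact ((hξ.specializes (hoZ hz)).map W.ι.continuous).mem_closed
      isClosed_closure (subset_closure hs)
  have h2 := interior_maximal h1 (W.ι.isOpenEmbedding.isOpenMap o ho)
  rw [hT] at h2
  exact (hne.image _).ne_empty (Set.subset_empty_iff.1 h2)

/-- The common generic point of the fibre when its local ring is a domain. -/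
theorem separated_of_isDomain [IsLocallyNoetherian X] [IsLocallyNoetherian S] [Flat h]
    (hV : ∀ y, y ∉ V → (1 : WithBot ℕ∞) ≤ ringKrullDim (CInt.fiberStalk h y))
    {T T' : Set X} (hT : IsOpen T) (hT' : IsOpen T') (hVT : V ⊆ T ∪ T') (hdis : Disjoint T T') {y : X}
    [IsDomain (CInt.fiberStalk h y)] : ¬(y ∈ closure T ∧ y ∈ closure T') := by
  rintro ⟨hy, hy'⟩
  let O := X.presheaf.stalk y
  let A := S.presheaf.stalk (h y)
  let : Algebra A O := (h.stalkMap y).hom.toAlgebra
  have : Module.Flat A O := Flat.stalkMap h y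
  have : IsLocalHom (algebraMap A O) := h.toLRSHom.prop y
  let m := (maximalIdeal A).map (algebraMap A O)
  have hd : IsDomain (O ⧸ m) := (CAlg9.CIT.fiberStalkEquiv h y).toMulEquiv.isDomain
  have hm : m.IsPrime := (Ideal.Quotient.isDomain_iff_prime m).1 hd
  let P : PrimeSpectrum O := ⟨m, hm⟩
  have hη : X.fromSpecStalk y P ∈ V :=
    mem_of_minimal h V hV P le_rfl fun Q h1 h2 => PrimeSpectrum.ext (le_antisymm h2 h1)
  have hmem : ∀ {T : Set X}, IsOpen T → y ∈ closure T → X.fromSpecStalk y P ∈ closure T := by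
    intro T hT hy
    obtain ⟨z, hzT, hz⟩ := exists_specializes_mem hT hy
    obtain ⟨Q, rfl⟩ := eq_fromSpecStalk hz
    obtain ⟨q, hq, hqQ⟩ := Ideal.exists_minimalPrimes_le (I := (⊥ : Ideal O)) (J := Q.asIdeal) bot_le
    have hqm : q ≤ m := by
      intro a ha
      by_contra ham
      have hreg : IsSMulRegular (O ⧸ m • (⊤ : Submodule O O)) a := by
        rw [smul_eq_mul, Ideal.mul_top]
        intro b c hbc
        obtain ⟨b, rfl⟩ := Ideal.Quotient.mk_surjective b
        obtain ⟨c, rfl⟩ := Ideal.Quotient.mk_surjective c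
        refine Ideal.Quotient.eq.2 ((hm.mem_or_mem (x := a) ?_).resolve_left ham)
        rw [mul_sub]
        exact Ideal.Quotient.eq.1 hbc
      have hr := (CAlg1.fibre_regular_lift (R := A) (N := O) (M := A) hreg).2
      have hr' : IsSMulRegular O a :=
        (LinearEquiv.isSMulRegular_congr (TensorProduct.AlgebraTensorModule.rid A O O) a).1 hr
      obtain ⟨b, hb, hab⟩ := Ideal.exists_mul_mem_of_mem_minimalPrimes hq ha
      exact hb (hr' (show a • b = a • (0 : O) by simpa using hab))
    let q' : PrimeSpectrum O := ⟨q, hq.1.1⟩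
    have hqz : X.fromSpecStalk y q' ∈ T :=
      (((PrimeSpectrum.le_iff_specializes q' Q).1 hqQ).map (X.fromSpecStalk y).continuous).mem_open hT hzT
    exact (((PrimeSpectrum.le_iff_specializes q' P).1 hqm).map
      (X.fromSpecStalk y).continuous).mem_closed isClosed_closure (subset_closure hqz)
  rcases hVT hη with hh | hh
  · exact (hdis.closure_right hT).le_bot ⟨hh, hmem hT' hy'⟩
  · exact (hdis.closure_left hT').le_bot ⟨hmem hT hy, hh⟩

/-- Separation along points over non maximal points of the base. -/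
theorem separated_of_depth [IsLocallyNoetherian X] [IsLocallyNoetherian S] [Flat h]
    (hV : ∀ y, y ∉ V → (1 : WithBot ℕ∞) ≤ ringKrullDim (CInt.fiberStalk h y))
    (hred : ∀ y, y ∉ V → _root_.IsReduced (CInt.fiberStalk h y))
    (hbase : ∀ y, y ∉ V → ∃ z, z ⤳ h y ∧ z ≠ h y)
    {T T' : Set X} (hT : IsOpen T) (hT' : IsOpen T') (hTV : T ⊆ V) (hTV' : T' ⊆ V) (hVT : V ⊆ T ∪ T')
    (hdis : Disjoint T T') : closure T ∩ closure T' = ∅ := by
  by_contra hB
  obtain ⟨y₀, hy₀⟩ := Set.nonempty_iff_ne_empty.2 hB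
  have hBc : IsClosed (closure T ∩ closure T') := isClosed_closure.inter isClosed_closure
  obtain ⟨I, hI⟩ := (PrimeSpectrum.isClosed_iff_zeroLocus_ideal _).1
    (hBc.preimage (X.fromSpecStalk y₀).continuous)
  obtain ⟨P, hP, -⟩ := Ideal.exists_minimalPrimes_le (I := I) (J := maximalIdeal (X.presheaf.stalk y₀))
    (by
      have : closedPoint (X.presheaf.stalk y₀) ∈ PrimeSpectrum.zeroLocus (I : Set (X.presheaf.stalk y₀)) := by
        refine hI.le ?_
        show X.fromSpecStalk y₀ (closedPoint (X.presheaf.stalk y₀)) ∈ closure T ∩ closure T'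
        rw [Scheme.fromSpecStalk_closedPoint]; exact hy₀
      exact this)
  obtain ⟨y, hy, hmax⟩ : ∃ y ∈ closure T ∩ closure T', ∀ z, z ⤳ y → z ∈ closure T ∩ closure T' → z = y := by
    refine ⟨X.fromSpecStalk y₀ ⟨P, hP.1.1⟩, hI.ge hP.1.2, fun z hz hzB => ?_⟩
    obtain ⟨Q, rfl⟩ := eq_fromSpecStalk (hz.trans (specializes_fromSpecStalk y₀ _))
    have h1 : I ≤ Q.asIdeal := hI.le hzB
    have h2 : Q.asIdeal ≤ P := le_of_specializes hz
    exact congrArg _ (PrimeSpectrum.ext (le_antisymm h2 (hP.2 ⟨Q.2, h1⟩ h2)))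
  have hyV : y ∉ V := fun hyV => by
    rcases hVT hyV with hh | hh
    · exact (hdis.closure_right hT).le_bot ⟨hh, hy.2⟩
    · exact (hdis.closure_left hT').le_bot ⟨hy.1, hh⟩
  let O := X.presheaf.stalk y
  let A := S.presheaf.stalk (h y)
  let : Algebra A O := (h.stalkMap y).hom.toAlgebra
  have : Module.Flat A O := Flat.stalkMap h y
  have : IsLocalHom (algebraMap A O) := h.toLRSHom.prop y
  let I := nilradical A
  let J := I.map (algebraMap A O)
  have hIm : I ≤ maximalIdeal A := nilradical_le_prime _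
  have hJnil : J ≤ nilradical O := Ideal.map_le_iff_le_comap.2 fun a ha => IsNilpotent.map ha _
  have hJm : J ≤ maximalIdeal O := hJnil.trans (nilradical_le_prime _)
  have : Nontrivial (A ⧸ I) := Ideal.Quotient.nontrivial_iff.2 (ne_top_of_le_ne_top (maximalIdeal.isMaximal _).ne_top hIm)
  have : Nontrivial (O ⧸ J) := Ideal.Quotient.nontrivial_iff.2 (ne_top_of_le_ne_top (maximalIdeal.isMaximal _).ne_top hJm)
  have : IsLocalRing (A ⧸ I) := IsLocalRing.of_surjective' _ Ideal.Quotient.mk_surjective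
  have : IsLocalRing (O ⧸ J) := IsLocalRing.of_surjective' _ Ideal.Quotient.mk_surjective
  have : Module.Flat (A ⧸ I) (O ⧸ J) := RingHom.flat_algebraMap_iff.1 (CAlg9.Node.flat_quotientMap' I)
  have hmap : (maximalIdeal (A ⧸ I)).map (algebraMap (A ⧸ I) (O ⧸ J)) =
      ((maximalIdeal A).map (algebraMap A O)).map (Ideal.Quotient.mk J) := by
    rw [← IsLocalRing.map_maximalIdeal_of_surjective _ (Ideal.Quotient.mk_surjective (I := I)),
      Ideal.map_map, Ideal.map_map]
    rfl
  have : IsLocalHom (algebraMap (A ⧸ I) (O ⧸ J)) := by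
    refine ((local_hom_TFAE _).out 0 2).2 ?_
    rw [hmap, ← IsLocalRing.map_maximalIdeal_of_surjective _ (Ideal.Quotient.mk_surjective (I := J))]
    exact Ideal.map_mono (map_maximalIdeal_le (algebraMap A O))
  have : _root_.IsReduced (A ⧸ I) :=
    (Ideal.isRadical_iff_quotient_reduced I).1 (Ideal.radical_isRadical _)
  have hA : (1 : ℕ∞) ≤ LocCoh.depth (A ⧸ I) (A ⧸ I) := by
    refine one_le_depth_of_isReduced fun hbot => ?_
    obtain ⟨z, hz, hzne⟩ := hbase y hyV
    obtain ⟨Q, rfl⟩ := eq_fromSpecStalk hz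
    refine hzne ?_
    have hQ : Q = closedPoint A := by
      refine PrimeSpectrum.ext (le_antisymm (le_maximalIdeal Q.2.ne_top) ?_)
      refine le_trans (fun a ha => ?_) (nilradical_le_prime Q.asIdeal)
      have : Ideal.Quotient.mk I a ∈ maximalIdeal (A ⧸ I) := by
        rw [← IsLocalRing.map_maximalIdeal_of_surjective _ (Ideal.Quotient.mk_surjective (I := I))]
        exact Ideal.mem_map_of_mem _ ha
      rw [hbot, Submodule.mem_bot] at this
      exact Ideal.Quotient.eq_zero_iff_mem.1 this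
    rw [hQ]
    exact Scheme.fromSpecStalk_closedPoint
  let m := (maximalIdeal (A ⧸ I)).map (algebraMap (A ⧸ I) (O ⧸ J))
  let e : ((O ⧸ J) ⧸ m) ≃+* CInt.fiberStalk h y :=
    ((Ideal.quotEquivOfEq hmap).trans
      (DoubleQuot.quotQuotEquivQuotOfLE (Ideal.map_mono hIm))).trans (CAlg9.CIT.fiberStalkEquiv h y)
  have := e.toEquiv.nontrivial
  have : IsLocalRing ((O ⧸ J) ⧸ m) := IsLocalRing.of_surjective' _ Ideal.Quotient.mk_surjective
  have := hred y hyV
  have : _root_.IsReduced ((O ⧸ J) ⧸ m) := isReduced_of_injective e e.injective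
  have hF : (1 : ℕ∞) ≤ LocCoh.depth (O ⧸ J) ((O ⧸ J) ⧸ m) := by
    rw [CAlg1.depth_quotient_self]
    refine one_le_depth_of_isReduced fun hbot => ?_
    have hd := (hV y hyV).trans (ringKrullDim_eq_of_ringEquiv e).ge
    rw [ringKrullDim_eq_zero_of_isField (IsLocalRing.isField_iff_maximalIdeal_eq.2 hbot)] at hd
    norm_num at hd
  have hdepth : (2 : ℕ∞) ≤ LocCoh.depth (O ⧸ J) (O ⧸ J) := by
    rw [CAlg1.depth_of_flat_local (A ⧸ I) (O ⧸ J)]
    exact le_trans (by norm_num) (add_le_add hA hF)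
  have hconn := (S0335.result (O ⧸ J) hdepth).isPreconnected
  let φ : PrimeSpectrum (O ⧸ J) → X := fun q => X.fromSpecStalk y (PrimeSpectrum.comap (Ideal.Quotient.mk J) q)
  have hφ : Continuous φ := (X.fromSpecStalk y).continuous.comp (PrimeSpectrum.continuous_comap _)
  have hne : ∀ q : PrimeSpectrum (O ⧸ J), q.asIdeal ≠ maximalIdeal (O ⧸ J) → φ q ≠ y := by
    intro q hq hqy
    refine hq ?_
    have h1 := congrArg PrimeSpectrum.asIdeal
      ((X.fromSpecStalk y).isEmbedding.injective (hqy.trans Scheme.fromSpecStalk_closedPoint.symm))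
    rw [← Ideal.map_comap_of_surjective _ Ideal.Quotient.mk_surjective q.asIdeal,
      ← IsLocalRing.map_maximalIdeal_of_surjective _ (Ideal.Quotient.mk_surjective (I := J))]
    exact congrArg _ h1
  have hcov : ∀ q, φ q ∈ closure T ∪ closure T' := fun q => by
    rw [← closure_union]
    exact closure_mono hVT (dense h V hV (φ q))
  have hex : ∀ {T : Set X}, IsOpen T → T ⊆ V → y ∈ closure T →
      ({q : PrimeSpectrum (O ⧸ J) | q.asIdeal ≠ maximalIdeal (O ⧸ J)} ∩ φ ⁻¹' closure T).Nonempty := by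
    intro T hT hTV hy
    obtain ⟨z, hzT, hz⟩ := exists_specializes_mem hT hy
    obtain ⟨Q, rfl⟩ := eq_fromSpecStalk hz
    have hQ : Q ∈ Set.range (PrimeSpectrum.comap (Ideal.Quotient.mk J)) := by
      rw [range_comap_of_surjective _ _ Ideal.Quotient.mk_surjective, Ideal.mk_ker]
      exact hJnil.trans (nilradical_le_prime Q.asIdeal)
    obtain ⟨q, rfl⟩ := hQ
    refine ⟨q, fun hq => hyV (hTV ?_), subset_closure hzT⟩
    have : q = closedPoint (O ⧸ J) := PrimeSpectrum.ext hq
    subst this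
    have : IsLocalHom (Ideal.Quotient.mk J) := IsLocalHom.of_surjective _ Ideal.Quotient.mk_surjective
    rwa [show PrimeSpectrum.comap (Ideal.Quotient.mk J) (closedPoint (O ⧸ J)) = closedPoint O from
      comap_closedPoint _, Scheme.fromSpecStalk_closedPoint] at hzT
  obtain ⟨q, hq, h1, h2⟩ := isPreconnected_closed_iff.1 hconn _ _ (isClosed_closure.preimage hφ)
    (isClosed_closure.preimage hφ) (fun q _ => hcov q) (hex hT hTV hy.1) (hex hT' hTV' hy.2)
  exact hne q hq (hmax _ (specializes_fromSpecStalk y _) ⟨h1, h2⟩)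

end Groth.Agent.Depth22.FibreClopen
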