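import Groth.Agent.Hens22.GlueHens
import Groth.Agent.Hens22.EtaleLift
import Groth.Agent.Henz21.Henselian
import Mathlib.AlgebraicGeometry.AffineScheme

/-!
# Colimits of étale neighbourhoods of the distinguished opens of a closed subscheme
-/

set_option autoImplicit false
set_option backward.isDefEq.respectTransparency.types false
universe u

open CategoryTheory AlgebraicGeometry Opposite HensSch

namespace Groth.Agent.Depth22.HensAway

open Henz21

variable {A : Type u} [CommRing A] (I : Ideal A) (f : A)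

/-- `K` is the localisation of `A ⧸ I` at `f`. -/
structure IsQAway (K : Type u) [CommRing K] [Algebra A K] : Prop where
  map_eq_zero : ∀ a ∈ I, algebraMap A K a = 0
  isUnit : IsUnit (algebraMap A K f)
  surj : ∀ k : K, ∃ (a : A) (n : ℕ), k * algebraMap A K f ^ n = algebraMap A K a
  exists_hom : ∀ (R : Type u) [CommRing R] [Algebra A R], (∀ a ∈ I, algebraMap A R a = 0) →
    IsUnit (algebraMap A R f) → Nonempty (K →ₐ[A] R)

variable {I f} {K : Type u} [CommRing K] [Algebra A K]

theorem IsQAway.hom_ext (hK : IsQAway I f K) {R : Type u} [CommRing R] [Algebra A R] (φ ψ : K →ₐ[A] R) :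
    φ = ψ := by
  refine AlgHom.ext fun k => ?_
  obtain ⟨a, n, h⟩ := hK.surj k
  have h1 := congrArg φ h
  have h2 := congrArg ψ h
  rw [map_mul, map_pow, AlgHom.commutes, AlgHom.commutes] at h1 h2
  have hu : IsUnit (algebraMap A R f ^ n) := by
    have := (hK.isUnit.map φ).pow n
    rwa [AlgHom.commutes] at this
  exact hu.mul_left_inj.1 (h1.trans h2.symm)

theorem IsQAway.proj_surjective (hK : IsQAway I f K) : Function.Surjective (H.proj A K) := fun k => by
  obtain ⟨a, n, h⟩ := hK.surj k
  have hu : IsUnit (algebraMap A (H A K) f) := H.isUnit_of_isUnit_proj (by rw [AlgHom.commutes]; exact hK.isUnit)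
  refine ⟨algebraMap A (H A K) a * ((hu.pow n).unit⁻¹ : (H A K)ˣ), ?_⟩
  refine (hK.isUnit.pow n).mul_left_inj.1 ?_
  rw [h, map_mul, AlgHom.commutes, mul_assoc]
  have h1 := congrArg (H.proj A K) (hu.pow n).val_inv_mul
  rw [map_mul, map_pow, map_one, AlgHom.commutes] at h1
  rw [h1, mul_one]

/-- The colimit of étale neighbourhoods is the henselization away from `f`. -/
theorem IsQAway.isHensAway (hK : IsQAway I f K) : IsHensAway A I f (H A K) (algebraMap A (H A K)) := by
  have hsurj := hK.proj_surjective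
  have hker : I.map (algebraMap A (H A K)) ≤ RingHom.ker (H.proj A K) := by
    refine Ideal.map_le_iff_le_comap.2 fun a ha => ?_
    show H.proj A K (algebraMap A _ a) = 0
    rw [AlgHom.commutes]
    exact hK.map_eq_zero a ha
  have hu : IsUnit (algebraMap A (H A K) f) := H.isUnit_of_isUnit_proj (by rw [AlgHom.commutes]; exact hK.isUnit)
  have hH : HenselianRing (H A K) (RingHom.ker (H.proj A K)) := H.henselianRing_ker hsurj
  -- maps out of the colimit into henselian pairs
  have hlift : ∀ (C : Type u) [CommRing C] [Algebra A C] (J : Ideal C), HenselianRing C J →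
      I.map (algebraMap A C) ≤ J → IsUnit (algebraMap A C f) →
      ∃ (g : H A K →ₐ[A] C) (q : K →ₐ[A] C ⧸ J), (Ideal.Quotient.mkₐ A J).comp g = q.comp (H.proj A K) ∧
        ∀ g' : H A K →ₐ[A] C, (Ideal.Quotient.mkₐ A J).comp g' = q.comp (H.proj A K) → g' = g := by
    intro C _ _ J hC hJ hf
    obtain ⟨q⟩ := hK.exists_hom (C ⧸ J) (fun a ha => Ideal.Quotient.eq_zero_iff_mem.2
      (hJ (Ideal.mem_map_of_mem _ ha))) (hf.map (Ideal.Quotient.mk J))
    choose φ hφ hφu using fun i : Pt A K => Hens22.existsUnique_lift J i.S (q.comp i.pt)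
    have hcompat : ∀ (i j : Pt A K) (g : i ⟶ j), (φ j).comp g.φ = φ i := fun i j g =>
      hφu i _ (show (Ideal.Quotient.mkₐ A J).comp ((φ j).comp g.φ) = q.comp i.pt by
        rw [← AlgHom.comp_assoc, hφ j, AlgHom.comp_assoc, g.comp])
    refine ⟨H.lift φ hcompat, q, H.algHom_ext fun i s => ?_, fun g' hg' => H.algHom_ext fun i s => ?_⟩
    · show Ideal.Quotient.mk J (H.lift φ hcompat (H.incl i s)) = q (H.proj A K (H.incl i s))
      rw [H.lift_incl, H.proj_incl]
      exact DFunLike.congr_fun (hφ i) s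
    · rw [H.lift_incl]
      refine DFunLike.congr_fun (hφu i (g'.comp (H.incl i)) ?_) s
      refine AlgHom.ext fun t => (DFunLike.congr_fun hg' (H.incl i t)).trans ?_
      exact congrArg q (H.proj_incl i t)
  have heq : I.map (algebraMap A (H A K)) = RingHom.ker (H.proj A K) := by
    refine le_antisymm hker ?_
    let L := Localization.Away f
    obtain ⟨B, _, _, hB⟩ := Hens22.exists_isPairHenselization (A := L) (I.map (algebraMap A L))
    let : Algebra A B := ((algebraMap L B).comp (algebraMap A L)).toAlgebra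
    have : IsScalarTower A L B := IsScalarTower.of_algebraMap_eq' rfl
    have hB' := Hens22.Glue.isHensAway_of_pairHens (A := A) (I := I) (f := f) hB.1
    obtain ⟨g, q, hg, -⟩ := hlift B (I.map (algebraMap A B)) hB'.2.1 le_rfl hB'.1
    obtain ⟨ψ, hψ, -⟩ := hB'.2.2 (H A K) (RingHom.ker (H.proj A K)) (algebraMap A (H A K)) hH hker hu
    let ψ' : B →ₐ[A] H A K := { ψ with commutes' := fun a => RingHom.congr_fun hψ a }
    have hid : ψ'.comp g = AlgHom.id A (H A K) := by
      obtain ⟨g₀, q₀, -, hu₀⟩ := hlift (H A K) (RingHom.ker (H.proj A K)) hH hker hu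
      have hq : ∀ g' : H A K →ₐ[A] H A K, (∀ x, H.proj A K (g' x) = H.proj A K x) →
          (Ideal.Quotient.mkₐ A (RingHom.ker (H.proj A K))).comp g' = q₀.comp (H.proj A K) := fun g' hg' => by
        obtain ⟨r, hr⟩ : ∃ r : K →ₐ[A] H A K ⧸ RingHom.ker (H.proj A K),
            r.comp (H.proj A K) = Ideal.Quotient.mkₐ A (RingHom.ker (H.proj A K)) := by
          refine ⟨(Ideal.quotientKerAlgEquivOfSurjective (f := H.proj A K) hsurj).symm.toAlgHom, AlgHom.ext fun x => ?_⟩
          let E := Ideal.quotientKerAlgEquivOfSurjective (f := H.proj A K) hsurj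
          exact E.symm_apply_apply (Ideal.Quotient.mk _ x)
        rw [hK.hom_ext q₀ r, hr]
        exact AlgHom.ext fun x => Ideal.Quotient.eq.2 (by rw [RingHom.mem_ker, map_sub]; exact sub_eq_zero.2 (hg' x))
      refine (hu₀ _ (hq _ fun x => ?_)).trans (hu₀ _ (hq _ fun x => rfl)).symm
      have hJ : I.map (algebraMap A B) ≤ RingHom.ker ((H.proj A K).comp ψ') := by
        refine Ideal.map_le_iff_le_comap.2 fun a ha => ?_
        show (H.proj A K).comp ψ' (algebraMap A B a) = 0
        rw [AlgHom.commutes]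
        exact hK.map_eq_zero a ha
      let bar : B ⧸ I.map (algebraMap A B) →ₐ[A] K := Ideal.Quotient.liftₐ _ ((H.proj A K).comp ψ') fun b hb => hJ hb
      have h1 : bar.comp q = AlgHom.id A K := hK.hom_ext _ _
      show bar ((Ideal.Quotient.mkₐ A _) (g x)) = _
      rw [show (Ideal.Quotient.mkₐ A _) (g x) = q (H.proj A K x) from DFunLike.congr_fun hg x]
      exact DFunLike.congr_fun h1 _
    intro x hx
    have h1 : g x ∈ I.map (algebraMap A B) := Ideal.Quotient.eq_zero_iff_mem.1
      ((DFunLike.congr_fun hg x).trans ((congrArg q (RingHom.mem_ker.1 hx)).trans (map_zero q)))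
    have h2 := Ideal.mem_map_of_mem ψ'.toRingHom h1
    rw [Ideal.map_map, show ψ'.toRingHom.comp (algebraMap A B) = algebraMap A (H A K) from ψ'.comp_algebraMap] at h2
    rw [show x = ψ' (g x) from (DFunLike.congr_fun hid x).symm]
    exact h2
  refine ⟨hu, heq ▸ hH, fun C _ J φ hC hJ hf => ?_⟩
  let _ : Algebra A C := φ.toAlgebra
  obtain ⟨g, q, hg, hgu⟩ := hlift C J hC hJ hf
  refine ⟨g.toRingHom, g.comp_algebraMap, fun g' hg' => ?_⟩
  let g'' : H A K →ₐ[A] C := { g' with commutes' := fun a => RingHom.congr_fun hg' a }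
  have hle : RingHom.ker (H.proj A K) ≤ RingHom.ker ((Ideal.Quotient.mkₐ A J).comp g'') := by
    rw [← heq]
    refine Ideal.map_le_iff_le_comap.2 fun a ha => ?_
    show Ideal.Quotient.mk J (g'' (algebraMap A _ a)) = 0
    rw [AlgHom.commutes]
    exact Ideal.Quotient.eq_zero_iff_mem.2 (hJ (Ideal.mem_map_of_mem _ ha))
  obtain ⟨r, hr⟩ : ∃ r : K →ₐ[A] C ⧸ J, r.comp (H.proj A K) = (Ideal.Quotient.mkₐ A J).comp g'' := by
    refine ⟨(Ideal.Quotient.liftₐ _ _ hle).comp (Ideal.quotientKerAlgEquivOfSurjective (f := H.proj A K) hsurj).symm.toAlgHom,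
      AlgHom.ext fun x => ?_⟩
    show Ideal.Quotient.liftₐ _ _ hle ((Ideal.quotientKerAlgEquivOfSurjective (f := H.proj A K) hsurj).symm (H.proj A K x)) = _
    rw [show (Ideal.quotientKerAlgEquivOfSurjective (f := H.proj A K) hsurj).symm (H.proj A K x) =
      Ideal.Quotient.mk _ x from
      (Ideal.quotientKerAlgEquivOfSurjective (f := H.proj A K) hsurj).symm_apply_apply (Ideal.Quotient.mk _ x)]
    rfl
  exact congrArg AlgHom.toRingHom (hgu g'' (hr.symm.trans (congrArg (fun r => r.comp (H.proj A K))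
    (hK.hom_ext r q))))

theorem of_isLocalization [Algebra (A ⧸ I) K] [IsLocalization.Away (Ideal.Quotient.mk I f) K]
    (hB : ∀ a : A, algebraMap A K a = algebraMap (A ⧸ I) K (Ideal.Quotient.mk I a)) : IsQAway I f K := by
  refine ⟨fun a ha => ?_, ?_, fun k => ?_, fun R _ _ hR hf => ?_⟩
  · rw [hB a, Ideal.Quotient.eq_zero_iff_mem.2 ha, map_zero]
  · rw [hB f]
    exact IsLocalization.Away.algebraMap_isUnit _
  · obtain ⟨n, a, h⟩ := IsLocalization.Away.surj (Ideal.Quotient.mk I f) k
    obtain ⟨a, rfl⟩ := Ideal.Quotient.mk_surjective a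
    exact ⟨a, n, by rw [hB f, hB a]; exact h⟩
  · let qb : A ⧸ I →+* R := Ideal.Quotient.lift I (algebraMap A R) hR
    have hu : IsUnit (qb (Ideal.Quotient.mk I f)) := by rw [Ideal.Quotient.lift_mk]; exact hf
    let l : K →+* R := IsLocalization.Away.lift (Ideal.Quotient.mk I f) hu
    have hl : ∀ a, l (algebraMap A K a) = algebraMap A R a := fun a => by
      rw [hB a, IsLocalization.Away.lift_eq, Ideal.Quotient.lift_mk]
    exact ⟨{ l with commutes' := hl }⟩

/-- Distinguished opens of the closed subscheme give such localisations. -/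
theorem isQAway_basicOpen (V : (Spec (CommRingCat.of (A ⧸ I))).Opens)
    (hV : V = PrimeSpectrum.basicOpen (Ideal.Quotient.mk I f)) [Algebra A Γ(Spec (CommRingCat.of (A ⧸ I)), V)]
    (halg : ∀ a : A, algebraMap A Γ(Spec (CommRingCat.of (A ⧸ I)), V) a =
      (Spec (CommRingCat.of (A ⧸ I))).presheaf.map (homOfLE le_top).op
        ((Scheme.ΓSpecIso (CommRingCat.of (A ⧸ I))).inv (Ideal.Quotient.mk I a))) :
    IsQAway I f Γ(Spec (CommRingCat.of (A ⧸ I)), V) := by
  subst hV
  letI : Algebra (A ⧸ I) Γ(Spec (CommRingCat.of (A ⧸ I)), PrimeSpectrum.basicOpen (Ideal.Quotient.mk I f)) :=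
    StructureSheaf.openAlgebra (A ⧸ I) (op (PrimeSpectrum.basicOpen (Ideal.Quotient.mk I f)))
  have : IsLocalization.Away (Ideal.Quotient.mk I f)
      Γ(Spec (CommRingCat.of (A ⧸ I)), PrimeSpectrum.basicOpen (Ideal.Quotient.mk I f)) :=
    StructureSheaf.IsLocalization.to_basicOpen (A ⧸ I) (Ideal.Quotient.mk I f)
  exact of_isLocalization fun a => (halg a).trans rfl

end Groth.Agent.Depth22.HensAway
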