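import Mathlib
import Groth.Agent.S0549
import Groth.Agent.Cohen12.Completion
import Groth.Agent.Henz21.KrasnerDVR
import Groth.Agent.Krasner24.Descent

/-!
The fraction field of a henselian discrete valuation ring and the fraction field of its completion.
-/

set_option autoImplicit false
universe u

open scoped TensorProduct
open Polynomial IsLocalRing

namespace Groth.Agent.Depth22.HensDVR

/-- An irreducible separable polynomial stays irreducible if separable algebraic elements descend. -/
theorem irreducible_map_of_sepClosed {k K : Type*} [Field k] [Field K] [Algebra k K]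
    (hcl : ∀ y : K, IsSeparable k y → y ∈ Set.range (algebraMap k K)) {f : k[X]} (hf : f.Monic)
    (hirr : Irreducible f) (hsep : f.Separable) : Irreducible (f.map (algebraMap k K)) := by
  have hu : ¬ IsUnit (f.map (algebraMap k K)) := fun hu => hirr.not_isUnit
    ((isUnit_map (algebraMap k K)).1 hu)
  obtain ⟨g, hgm, hgi, hgd⟩ := exists_monic_irreducible_factor _ hu
  let Ω := AlgebraicClosure K
  let S := separableClosure k Ω
  have hroot : ∀ r ∈ (g.map (algebraMap K Ω)).roots, r ∈ S.toSubalgebra.toSubring := fun r hr => by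
    have hr' : aeval r f = 0 := by
      have := (mem_roots'.1 hr).2
      rw [IsRoot, eval_map_algebraMap] at this
      rw [← aeval_map_algebraMap K]
      exact aeval_eq_zero_of_dvd_aeval_eq_zero hgd this
    exact mem_separableClosure_iff.2 (hsep.of_dvd (minpoly.dvd k r hr'))
  have hsplit : (g.map (algebraMap K Ω)).Splits := IsAlgClosed.splits _
  have hlift : g ∈ Polynomial.lifts (algebraMap k K) := by
    rw [Polynomial.lifts_iff_coeff_lifts]
    intro i
    refine hcl _ ?_
    have hmem : (g.map (algebraMap K Ω)).coeff i ∈ S := by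
      rw [hsplit.eq_prod_roots_of_monic (hgm.map _)]
      have : ((g.map (algebraMap K Ω)).roots.map (X - C ·)).prod ∈
          Polynomial.lifts (algebraMap S Ω) := by
        refine Subsemiring.multiset_prod_mem _ _ fun p hp => ?_
        obtain ⟨r, hr, rfl⟩ := Multiset.mem_map.1 hp
        exact ⟨X - C ⟨r, hroot r hr⟩, by simp⟩
      obtain ⟨q, hq⟩ := (Polynomial.lifts_iff_coeff_lifts _).1 this i
      exact hq ▸ q.2
    rw [coeff_map] at hmem
    have := mem_separableClosure_iff.1 hmem
    rwa [IsSeparable, minpoly.algebraMap_eq (algebraMap K Ω).injective] at this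
  obtain ⟨g₀, hg₀, -, hg₀m⟩ := Polynomial.lifts_and_degree_eq_and_monic hlift hgm
  have hdvd : g₀ ∣ f := (Polynomial.map_dvd_map' (algebraMap k K)).1 (hg₀ ▸ hgd)
  have hg₀u : ¬ IsUnit g₀ := fun h => hgi.not_isUnit (hg₀ ▸ h.map (Polynomial.mapRingHom _))
  have hass : Associated g₀ f := (hirr.dvd_iff.1 hdvd).resolve_left hg₀u |>.symm
  rw [eq_of_monic_of_associated hf hg₀m hass.symm, hg₀]
  exact hgi

/-- Base change of a finite separable extension is a field if separable elements descend. -/
theorem isField_tensor {k K S : Type*} [Field k] [Field K] [Algebra k K] [Field S] [Algebra k S]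
    [FiniteDimensional k S] [Algebra.IsSeparable k S]
    (hcl : ∀ y : K, IsSeparable k y → y ∈ Set.range (algebraMap k K)) : IsField (K ⊗[k] S) := by
  obtain ⟨α, hα⟩ := Field.exists_primitive_element k S
  have hαi : IsIntegral k α := Algebra.IsIntegral.isIntegral α
  have : Fact (Irreducible ((minpoly k α).map (algebraMap k K))) :=
    ⟨irreducible_map_of_sepClosed hcl (minpoly.monic hαi) (minpoly.irreducible hαi)
      (Algebra.IsSeparable.isSeparable k α)⟩
  let θ : K ⊗[k] S := (1 : K) ⊗ₜ α
  have hθ : aeval θ ((minpoly k α).map (algebraMap k K)) = 0 := by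
    rw [aeval_map_algebraMap]
    change aeval (Algebra.TensorProduct.includeRight (R := k) (A := K) α) _ = 0
    rw [aeval_algHom_apply, minpoly.aeval, map_zero]
  let ev := AdjoinRoot.liftAlgHom ((minpoly k α).map (algebraMap k K)) (Algebra.ofId K (K ⊗[k] S)) θ (by exact hθ)
  have hsurj : Function.Surjective ev := by
    intro z
    induction z using TensorProduct.induction_on with
    | zero => exact ⟨0, map_zero _⟩
    | tmul a c =>
      have hc : c ∈ Algebra.adjoin k ({α} : Set S) := by
        rw [← IntermediateField.adjoin_simple_toSubalgebra_of_isAlgebraic hαi.isAlgebraic, hα,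
          IntermediateField.top_toSubalgebra]
        exact Algebra.mem_top
      obtain ⟨p, rfl⟩ := Algebra.adjoin_mem_exists_aeval k α hc
      refine ⟨algebraMap K _ a * aeval (AdjoinRoot.root _) p, ?_⟩
      rw [map_mul, AlgHom.commutes]
      change _ * (ev.restrictScalars k) (aeval (AdjoinRoot.root _) p) = _
      rw [← aeval_algHom_apply]
      have hroot : (ev.restrictScalars k) (AdjoinRoot.root _) =
          Algebra.TensorProduct.includeRight (R := k) (A := K) α :=
        AdjoinRoot.liftAlgHom_root _ _ _ hθ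
      rw [hroot, aeval_algHom_apply]
      simp
    | add a c ha hc =>
      obtain ⟨a', ha⟩ := ha; obtain ⟨c', hc⟩ := hc
      exact ⟨a' + c', by rw [map_add, ha, hc]⟩
  have : Nontrivial (K ⊗[k] S) :=
    (Algebra.TensorProduct.includeLeft_injective (R := k) (S := k) (A := K) (B := S)
      (algebraMap k S).injective).nontrivial
  exact (RingEquiv.ofBijective ev.toRingHom ⟨RingHom.injective _, hsurj⟩).symm.toMulEquiv.isField
    (Field.toIsField (AdjoinRoot ((minpoly k α).map (algebraMap k K))))

variable (A K : Type u) [CommRing A] [IsDomain A] [IsDiscreteValuationRing A] [HenselianLocalRing A]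
  [Field K] [Algebra A K] [IsFractionRing A K]
  (Kh : Type u) [Field Kh] [Algebra (AdicCompletion (maximalIdeal A) A) Kh]
  [IsFractionRing (AdicCompletion (maximalIdeal A) A) Kh] [Algebra A Kh] [Algebra K Kh]
  [IsScalarTower A (AdicCompletion (maximalIdeal A) A) Kh] [IsScalarTower A K Kh]

/-- An element of the completion which is a simple root of a polynomial over a henselian discrete
valuation ring lies in the ring. -/
theorem mem_range_of_root {g : A[X]} {c : AdicCompletion (maximalIdeal A) A}
    (h0 : aeval c g = 0) (h1 : aeval c g.derivative ≠ 0) :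
    c ∈ Set.range (algebraMap A (AdicCompletion (maximalIdeal A) A)) := by
  let Ah := AdicCompletion (maximalIdeal A) A
  obtain ⟨hdom, hdvr⟩ := (Groth.Agent.S0549.result A).mp ⟨inferInstance, inferInstance⟩
  obtain ⟨π, hπ⟩ := IsDiscreteValuationRing.exists_irreducible A
  have hπm : maximalIdeal A = Ideal.span {π} := (IsDiscreteValuationRing.irreducible_iff_uniformizer π).1 hπ
  let p : Ah := algebraMap A Ah π
  have hpm : maximalIdeal Ah = Ideal.span {p} := by
    rw [AdicCompletion.maximalIdeal_eq_map]
    exact (congrArg (Ideal.map (algebraMap A Ah)) hπm).trans (by rw [Ideal.map_span, Set.image_singleton])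
  have hp : Irreducible p := (IsDiscreteValuationRing.irreducible_iff_uniformizer p).2 hpm
  have hdesc : ∀ (n : ℕ) (x : A), p ^ n ∣ algebraMap A Ah x → π ^ n ∣ x := by
    intro n x ⟨y, hy⟩
    have := congrArg (AdicCompletion.evalₐ (maximalIdeal A) n) hy
    rw [map_mul, ← map_pow, AlgHom.commutes, AlgHom.commutes, Ideal.Quotient.algebraMap_eq,
      show Ideal.Quotient.mk (maximalIdeal A ^ n) (π ^ n) = 0 from Ideal.Quotient.eq_zero_iff_mem.2
        (Ideal.pow_mem_pow (hπm ▸ Ideal.mem_span_singleton_self π) n), zero_mul,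
      Ideal.Quotient.eq_zero_iff_mem, hπm, Ideal.span_singleton_pow, Ideal.mem_span_singleton] at this
    exact this
  obtain ⟨e, u, hu⟩ := IsDiscreteValuationRing.eq_unit_mul_pow_irreducible h1 hp
  obtain ⟨a, ha⟩ := Groth.Agent.Cohen12.exists_sub_mem_pow A (2 * e + 2) c
  rw [hpm, Ideal.span_singleton_pow, Ideal.mem_span_singleton] at ha
  have hga : π ^ (2 * e + 2) ∣ g.eval a := hdesc _ _ (by
    have h := (sub_dvd_eval_sub c (algebraMap A Ah a) (g.map (algebraMap A Ah)))
    rw [eval_map_algebraMap, eval_map_algebraMap, h0, zero_sub, dvd_neg, aeval_algebraMap_apply_eq_algebraMap_eval] at h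
    exact ha.trans h)
  obtain ⟨t, ht⟩ := sub_dvd_eval_sub c (algebraMap A Ah a) (g.derivative.map (algebraMap A Ah))
  rw [eval_map_algebraMap, eval_map_algebraMap, aeval_algebraMap_apply_eq_algebraMap_eval] at ht
  obtain ⟨w, hw⟩ := ha
  have hd : algebraMap A Ah (g.derivative.eval a) = p ^ e * ((u : Ah) - p ^ (e + 2) * (w * t)) := by
    rw [hw, hu] at ht
    linear_combination -ht
  have hunit : IsUnit ((u : Ah) - p ^ (e + 2) * (w * t)) := by
    by_contra hn
    have hm : (u : Ah) - p ^ (e + 2) * (w * t) ∈ maximalIdeal Ah := hn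
    have hm' : p ^ (e + 2) * (w * t) ∈ maximalIdeal Ah :=
      Ideal.mul_mem_right _ _ (Ideal.pow_mem_of_mem _ (hpm ▸ Ideal.mem_span_singleton_self p) _ (by omega))
    exact (add_mem hm hm' : (u : Ah) - _ + _ ∈ maximalIdeal Ah) (by rw [sub_add_cancel]; exact u.isUnit)
  obtain ⟨v, hv⟩ := hdesc e _ ⟨_, hd⟩
  have hvu : IsUnit v := by
    by_contra hn
    obtain ⟨r, hr⟩ : π ∣ v := by
      have : v ∈ maximalIdeal A := hn
      rwa [hπm, Ideal.mem_span_singleton] at this
    refine hp.not_isUnit (isUnit_of_dvd_unit ⟨algebraMap A Ah r, ?_⟩ hunit)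
    refine mul_left_cancel₀ (pow_ne_zero e hp.ne_zero) ?_
    rw [← hd, hv, hr]
    simp [p]
  obtain ⟨z, hz⟩ := hga
  obtain ⟨ξ, hξ0, hξa⟩ := Groth.Agent.Henz21.exists_root_near g π a ↑hvu.unit⁻¹ z e
    (hπm ▸ Ideal.mem_span_singleton_self π) (by rw [hv, mul_assoc, hvu.mul_val_inv, mul_one]) hz
  refine ⟨ξ, ?_⟩
  obtain ⟨k, hk⟩ := Polynomial.binomExpansion (g.map (algebraMap A Ah)) c (algebraMap A Ah ξ - c)
  rw [add_sub_cancel, derivative_map, eval_map_algebraMap, eval_map_algebraMap, eval_map_algebraMap,
    aeval_algebraMap_apply_eq_algebraMap_eval, hξ0, map_zero, h0, zero_add, hu] at hk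
  obtain ⟨s, hs⟩ : p ^ (e + 1) ∣ algebraMap A Ah ξ - c := by
    obtain ⟨r, hr⟩ := hξa
    refine ⟨algebraMap A Ah r - p * (p ^ e * w), ?_⟩
    have := congrArg (algebraMap A Ah) hr
    simp only [map_sub, map_mul, map_pow] at this
    linear_combination this - hw
  by_contra hne
  have hne' : algebraMap A Ah ξ - c ≠ 0 := sub_ne_zero.2 hne
  have h2 : (algebraMap A Ah ξ - c) * (p ^ e * ((u : Ah) + p * (k * s))) = 0 := by
    rw [hs] at hk ⊢
    linear_combination -hk
  have h3 : (u : Ah) + p * (k * s) = 0 :=
    (mul_eq_zero.1 ((mul_eq_zero.1 h2).resolve_left hne')).resolve_left (pow_ne_zero e hp.ne_zero)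
  exact hp.not_isUnit (isUnit_of_dvd_unit ⟨-(k * s), by linear_combination h3⟩ u.isUnit)

include A in
/-- Elements of the completed field separable over the field lie in it. -/
theorem mem_range_of_isSeparable (y : Kh) (hy : IsSeparable K y) : y ∈ Set.range (algebraMap K Kh) := by
  let Ah := AdicCompletion (maximalIdeal A) A
  obtain ⟨hdom, hdvr⟩ := (Groth.Agent.S0549.result A).mp ⟨inferInstance, inferInstance⟩
  obtain ⟨⟨s, hs⟩, hint⟩ := IsIntegral.exists_multiple_integral_of_isLocalization (nonZeroDivisors A)
    (Rₘ := K) y hy.isIntegral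
  have hs0 : algebraMap A K s ≠ 0 :=
    (map_ne_zero_iff _ (IsFractionRing.injective A K)).2 (nonZeroDivisors.ne_zero hs)
  let z : Kh := algebraMap A Kh s * y
  have hz : IsIntegral A z := by
    have : (⟨s, hs⟩ : nonZeroDivisors A) • y = z := Algebra.smul_def s y
    rwa [this] at hint
  obtain ⟨c, hc⟩ := IsIntegrallyClosed.isIntegral_iff.1 (hz.tower_top (A := Ah))
  have hzsep : IsSeparable K z := by
    have h1 : z = algebraMap K Kh (algebraMap A K s) * y := by
      rw [← IsScalarTower.algebraMap_apply]
    rw [h1]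
    exact mem_separableClosure_iff.1 (mul_mem ((separableClosure K Kh).algebraMap_mem _)
      (mem_separableClosure_iff.2 hy))
  have hg : minpoly K z = (minpoly A z).map (algebraMap A K) :=
    minpoly.isIntegrallyClosed_eq_field_fractions' K hz
  have h0 : aeval c (minpoly A z) = 0 := by
    refine IsFractionRing.injective Ah Kh ?_
    rw [← aeval_algebraMap_apply, hc, minpoly.aeval, map_zero]
  have h1 : aeval c (minpoly A z).derivative ≠ 0 := fun e => by
    have := congrArg (algebraMap Ah Kh) e
    rw [← aeval_algebraMap_apply, hc, map_zero, ← aeval_map_algebraMap K, ← derivative_map, ← hg] at this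
    exact Polynomial.Separable.aeval_derivative_ne_zero hzsep (minpoly.aeval K z) this
  obtain ⟨a, ha⟩ := mem_range_of_root A h0 h1
  refine ⟨(algebraMap A K s)⁻¹ * algebraMap A K a, ?_⟩
  have hne : algebraMap A Kh s ≠ 0 := by
    rw [IsScalarTower.algebraMap_apply A K Kh]
    exact (map_ne_zero_iff _ (algebraMap K Kh).injective).2 hs0
  rw [map_mul, map_inv₀, ← IsScalarTower.algebraMap_apply, ← IsScalarTower.algebraMap_apply,
    inv_mul_eq_iff_eq_mul₀ hne, IsScalarTower.algebraMap_apply A Ah Kh a, ha, hc]

include A in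
/-- Base change to the completed field preserves being a field, for finite separable extensions. -/
theorem isField_tensor_completion (L : Type u) [Field L] [Algebra K L] [FiniteDimensional K L]
    [Algebra.IsSeparable K L] : IsField (Kh ⊗[K] L) :=
  isField_tensor (mem_range_of_isSeparable A K Kh)

end Groth.Agent.Depth22.HensDVR
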