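import Groth.Agent.Depth22.Restr
import Groth.Agent.EtLim45.PullSys
import Groth.Agent.GalCoh84.Cohom
import Groth.Agent.EtTor93.Hpull
import Mathlib.CategoryTheory.Filtered.Final
import Mathlib.CategoryTheory.Limits.Shapes.Pullback.Connected

/-!
Restriction maps of etale cohomology along base changes of an open immersion to a limit.
-/

set_option autoImplicit false
set_option backward.isDefEq.respectTransparency.types false
universe u

open CategoryTheory CategoryTheory.Limits CategoryTheory.Abelian AlgebraicGeometry Opposite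
open Groth.Agent.Unr55.EtSh Groth.Agent.EtCore45.MV Groth.Agent.EtLim45

namespace Groth.Agent.Depth22

section Via

variable {W U V : Scheme.{u}}

theorem HpullVia_apply (a : W ⟶ U) (b : U ⟶ V) {h : W ⟶ V} (w : a ≫ b = h) [PreservesFiniteLimits (EtCoh.pull a)]
    (G : EtCoh.Ab V) (p : ℕ) (x : EtCoh.H U ((EtCoh.pull b).obj G) p) :
    EtCore.HpullVia a b h w G p x =
      (EtCore.Hpull a _ p x).comp (Ext.mk₀ ((comp2 a b w).hom.app G)) (add_zero p) := by
  unfold EtCore.HpullVia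
  exact HF_map_apply _ _ _

theorem oneSect_const_comp (a : W ⟶ U) (b : U ⟶ V) {h : W ⟶ V} (w : a ≫ b = h) :
    (EtCore.pullConst a ℤ).inv ≫ (EtCoh.pull a).map (EtCore.pullConst b ℤ).inv ≫
      (comp2 a b w).hom.app (EtCoh.const V ℤ) = (EtCore.pullConst h ℤ).inv := by
  apply (oneSect_bijective _).1
  change oneSect _ = oneSect _
  have e1 : oneSect (EtCore.pullConst b ℤ).inv =
      ((EtCoh.pull b).obj (EtCoh.const V ℤ)).obj.map (EtCore.bcTopIso b).inv.op
        (unitSect b (EtCoh.const V ℤ) (EtCoh.top V) (oneSect (𝟙 (EtCoh.const V ℤ)))) := by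
    rw [← oneSect_pull b (𝟙 (EtCoh.const V ℤ)), CategoryTheory.Functor.map_id, Category.comp_id]
  have e2 : oneSect (EtCore.pullConst h ℤ).inv =
      ((EtCoh.pull h).obj (EtCoh.const V ℤ)).obj.map (EtCore.bcTopIso h).inv.op
        (unitSect h (EtCoh.const V ℤ) (EtCoh.top V) (oneSect (𝟙 (EtCoh.const V ℤ)))) := by
    rw [← oneSect_pull h (𝟙 (EtCoh.const V ℤ)), CategoryTheory.Functor.map_id, Category.comp_id]
  rw [← Category.assoc, oneSect_comp, oneSect_pull, e1, unitSect_map, app_map, app_map, e2]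
  refine (congrArg _ (congrArg _ (comp2_unit a b w _ _ _))).trans ?_
  rw [map_map, map_map]
  exact congrArg (fun q => ((EtCoh.pull h).obj (EtCoh.const V ℤ)).obj.map q (unitSect h _ _ _))
    (congrArg Quiver.Hom.op ((IsTerminal.isTerminalOfObj (Scheme.Etale.forget W) ((EtCoh.bc h).obj (EtCoh.top V))
      (Over.mkIdTerminal.ofIso ((Scheme.Etale.forget W).mapIso (EtCore.bcTopIso h).symm))).hom_ext _ _))

/-- Pullbacks on cohomology compose. -/
theorem HpullVia_Hpull (a : W ⟶ U) (b : U ⟶ V) {h : W ⟶ V} (w : a ≫ b = h)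
    [PreservesFiniteLimits (EtCoh.pull a)] [PreservesFiniteLimits (EtCoh.pull b)]
    [PreservesFiniteLimits (EtCoh.pull h)] : ∀ (p : ℕ) (G : EtCoh.Ab V) (x : EtCoh.H V G p),
    EtCore.HpullVia a b h w G p (EtCore.Hpull b G p x) = EtCore.Hpull h G p x
  | 0, G, x => by
    obtain ⟨ψ, rfl⟩ := (Ext.mk₀_bijective _ _).2 x
    rw [HpullVia_apply, GalCoh84.Hpull_mk₀, GalCoh84.Hpull_mk₀, GalCoh84.Hpull_mk₀]
    refine (Ext.mk₀_comp_mk₀ _ _).trans (congrArg Ext.mk₀ ?_)
    rw [← oneSect_const_comp a b w]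
    simp only [Functor.map_comp, Category.assoc]
    exact congrArg (fun z => (EtCore.pullConst a ℤ).inv ≫ (EtCoh.pull a).map (EtCore.pullConst b ℤ).inv ≫ z)
      ((comp2 a b w).hom.naturality ψ)
  | p + 1, G, x => by
    let S : ShortComplex (EtCoh.Ab V) :=
      ShortComplex.mk (Injective.ι G) (cokernel.π (Injective.ι G)) (cokernel.condition _)
    have hS : S.ShortExact :=
      { exact := ShortComplex.exact_of_g_is_cokernel _ (cokernelIsCokernel (Injective.ι G))
        mono_f := inferInstanceAs (Mono (Injective.ι G))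
        epi_g := inferInstanceAs (Epi (cokernel.π (Injective.ι G))) }
    have : Injective S.X₂ := inferInstanceAs (Injective (Injective.under G))
    have := Ext.subsingleton_of_injective.{u + 1} (EtCoh.const V ℤ) S.X₂ p
    obtain ⟨y, rfl⟩ := Ext.covariant_sequence_exact₁ _ hS x
      (Subsingleton.elim (α := Ext (EtCoh.const V ℤ) S.X₂ (p + 1)) _ _) rfl
    let T := S.map (EtCoh.pull b)
    have hT : T.ShortExact := hS.map_of_exact (EtCoh.pull b)
    let φ : T.map (EtCoh.pull a) ⟶ S.map (EtCoh.pull h) :=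
      { τ₁ := (comp2 a b w).hom.app S.X₁
        τ₂ := (comp2 a b w).hom.app S.X₂
        τ₃ := (comp2 a b w).hom.app S.X₃
        comm₁₂ := ((comp2 a b w).hom.naturality S.f).symm
        comm₂₃ := ((comp2 a b w).hom.naturality S.g).symm }
    refine (congrArg (EtCore.HpullVia a b h w G (p + 1)) (GalCoh84.Hpull_extClass b hS rfl y)).trans ?_
    refine ((HpullVia_apply a b w _ _ _).trans ?_).trans (GalCoh84.Hpull_extClass h hS rfl y).symm
    refine (congrArg (fun z => Ext.comp z (Ext.mk₀ φ.τ₁) (add_zero (p + 1)))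
      (GalCoh84.Hpull_extClass a hT rfl (EtCore.Hpull b S.X₃ p y))).trans ?_
    refine (Ext.comp_assoc_of_third_deg_zero _ _ _ _).trans ?_
    refine (congrArg (fun z => Ext.comp _ z rfl) (ShortComplex.ShortExact.extClass_naturality
      (hT.map_of_exact (EtCoh.pull a)) (hS.map_of_exact (EtCoh.pull h)) φ)).trans ?_
    refine (Ext.comp_assoc_of_second_deg_zero _ _ _ _).symm.trans ?_
    exact congrArg (fun z => Ext.comp z (hS.map_of_exact (EtCoh.pull h)).extClass rfl)
      (HpullVia_Hpull a b w p S.X₃ y)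

/-- Relative pullbacks compose. -/
theorem HpullVia_HpullVia {Z : Scheme.{u}} (a : W ⟶ U) (b : U ⟶ V) (t : V ⟶ Z) {ab : W ⟶ V} {bt : U ⟶ Z}
    {h : W ⟶ Z} (w₁ : a ≫ b = ab) (w₂ : b ≫ t = bt) (w₃ : ab ≫ t = h) (w₄ : a ≫ bt = h)
    [PreservesFiniteLimits (EtCoh.pull a)] [PreservesFiniteLimits (EtCoh.pull b)]
    [PreservesFiniteLimits (EtCoh.pull ab)] (G : EtCoh.Ab Z) (p : ℕ)
    (x : EtCoh.H V ((EtCoh.pull t).obj G) p) :
    EtCore.HpullVia a bt h w₄ G p (EtCore.HpullVia b t bt w₂ G p x) = EtCore.HpullVia ab t h w₃ G p x := by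
  rw [HpullVia_apply, HpullVia_apply, HpullVia_apply, ← HpullVia_Hpull a b w₁ p _ x, HpullVia_apply,
    GalCoh84.Hpull_naturality, Ext.comp_assoc_of_second_deg_zero, Ext.comp_assoc_of_second_deg_zero,
    Ext.mk₀_comp_mk₀, Ext.mk₀_comp_mk₀, comp2_assoc a b t w₁ w₂ w₃ w₄]

/-- Bijective below `n - 1` and injective in degree `n - 1`. -/
def BI (n : ℕ) {A B : ℕ → Type (u + 1)} (f : ∀ p, A p → B p) : Prop :=
  (∀ p, p + 1 < n → Function.Bijective (f p)) ∧ ∀ p, p + 1 = n → Function.Injective (f p)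

theorem bijective_comp_iso {X : Scheme.{u}} {F G : EtCoh.Ab X} (α : F ⟶ G) [IsIso α] (p : ℕ) :
    Function.Bijective fun y : EtCoh.H X F p => y.comp (Ext.mk₀ α) (add_zero p) := by
  refine ⟨fun x y h => comp_iso_injective α h, fun y => ⟨y.comp (Ext.mk₀ (inv α)) (add_zero p), ?_⟩⟩
  dsimp only
  rw [Ext.comp_assoc_of_second_deg_zero, Ext.mk₀_comp_mk₀, IsIso.inv_hom_id, Ext.comp_mk₀_id]

theorem BI_HpullVia_iff (a : W ⟶ U) (b : U ⟶ V) {h : W ⟶ V} (w : a ≫ b = h)
    [PreservesFiniteLimits (EtCoh.pull a)] (G : EtCoh.Ab V) (n : ℕ) :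
    BI n (fun p => ⇑(EtCore.HpullVia a b h w G p)) ↔
      BI n fun p => ⇑(EtCore.Hpull a ((EtCoh.pull b).obj G) p) := by
  have key : ∀ p, Function.Bijective fun y : EtCoh.H W ((EtCoh.pull a).obj ((EtCoh.pull b).obj G)) p =>
      y.comp (Ext.mk₀ ((comp2 a b w).hom.app G)) (add_zero p) := fun p => bijective_comp_iso _ p
  refine and_congr (forall₂_congr fun p _ => ?_) (forall₂_congr fun p _ => ?_)
  · exact Function.Bijective.of_comp_iff' (key p) _
  · exact ⟨fun H => Function.Injective.of_comp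
      (f := fun y : EtCoh.H W ((EtCoh.pull a).obj ((EtCoh.pull b).obj G)) p =>
        y.comp (Ext.mk₀ ((comp2 a b w).hom.app G)) (add_zero p)) H, fun H => (key p).1.comp H⟩

end Via

/-- A scheme over `Z` presented as a limit of quasi-compact quasi-separated schemes over `Z`. -/
structure Pres {T Z : Scheme.{u}} (σ : T ⟶ Z) where
  ι : Type u
  [pre : Preorder ι]
  [dir : IsDirected ι (· ≤ ·)]
  [ne : Nonempty ι]
  Xs : ιᵒᵖ ⥤ Scheme.{u}
  aff : ∀ (a b : ιᵒᵖ) (h : a ⟶ b), IsAffineHom (Xs.map h)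
  qc : ∀ a, CompactSpace ↥(Xs.obj a)
  qs : ∀ a, QuasiSeparatedSpace ↥(Xs.obj a)
  t : ∀ j : ι, Xs.obj (op j) ⟶ Z
  wt : ∀ i j (h : i ≤ j), Xs.map (homOfLE h).op ≫ t i = t j
  π : (Functor.const ιᵒᵖ).obj T ⟶ Xs
  wp : ∀ j, π.app (op j) ≫ t j = σ
  lim : IsLimit (Cone.mk T π)

attribute [instance] Pres.pre Pres.dir Pres.ne

namespace Pres

variable {T Z : Scheme.{u}} {σ : T ⟶ Z} (P : Pres σ)

/-- The cone of a presentation. -/
abbrev cone : Cone P.Xs := Cone.mk T P.π

/-- Composition with a map out of the base. -/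
def comp {Z' : Scheme.{u}} (a : Z ⟶ Z') : Pres (σ ≫ a) where
  ι := P.ι
  Xs := P.Xs
  aff := P.aff
  qc := P.qc
  qs := P.qs
  t j := P.t j ≫ a
  wt i j h := (Category.assoc _ _ _).symm.trans (congrArg (· ≫ a) (P.wt i j h))
  π := P.π
  wp j := (Category.assoc _ _ _).symm.trans (congrArg (· ≫ a) (P.wp j))
  lim := P.lim

/-- Transport along an isomorphism of the source. -/
noncomputable def ofIso {T' : Scheme.{u}} (e : T' ≅ T) (σ' : T' ⟶ Z) (w : e.hom ≫ σ = σ') : Pres σ' where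
  ι := P.ι
  Xs := P.Xs
  aff := P.aff
  qc := P.qc
  qs := P.qs
  t := P.t
  wt := P.wt
  π := (Functor.const P.ιᵒᵖ).map e.hom ≫ P.π
  wp j := (Category.assoc _ _ _).trans ((congrArg (e.hom ≫ ·) (P.wp j)).trans w)
  lim := IsLimit.ofIsoLimit P.lim (Cone.ext e.symm fun j => by
    change P.π.app j = e.inv ≫ e.hom ≫ P.π.app j
    exact (e.inv_hom_id_assoc _).symm)

theorem homOfLE_op (a b : P.ιᵒᵖ) (h : a ⟶ b) : (homOfLE (leOfHom h.unop)).op = h :=
  Quiver.Hom.unop_inj (Subsingleton.elim _ _)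

variable {Z' T' : Scheme.{u}} {q : Z' ⟶ Z} {a : T' ⟶ Z'} {b : T' ⟶ T}

/-- The base changed system. -/
noncomputable def bcSys (q : Z' ⟶ Z) : P.ιᵒᵖ ⥤ Scheme.{u} where
  obj k := pullback q (P.t k.unop)
  map {k l} h := pullback.lift (pullback.fst q (P.t k.unop)) (pullback.snd q (P.t k.unop) ≫ P.Xs.map h) (by
    rw [pullback.condition, Category.assoc]
    exact congrArg (_ ≫ ·) (((congrArg (P.Xs.map · ≫ P.t l.unop) (P.homOfLE_op k l h)).symm.trans
      (P.wt l.unop k.unop (leOfHom h.unop))).symm))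
  map_id k := pullback.hom_ext ((pullback.lift_fst _ _ _).trans (Category.id_comp _).symm)
    ((pullback.lift_snd _ _ _).trans (by rw [P.Xs.map_id, Category.id_comp]; exact Category.comp_id _))
  map_comp {k l m} f g := pullback.hom_ext (by
      rw [pullback.lift_fst, Category.assoc, pullback.lift_fst, pullback.lift_fst])
    (by rw [pullback.lift_snd, Category.assoc, pullback.lift_snd, pullback.lift_snd_assoc, P.Xs.map_comp,
      Category.assoc])

/-- The projection of the base changed system. -/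
noncomputable def bcSnd (q : Z' ⟶ Z) : P.bcSys q ⟶ P.Xs where
  app k := pullback.snd q (P.t k.unop)
  naturality _ _ _ := pullback.lift_snd _ _ _

theorem bc_cond (sq : IsPullback a b q σ) (k : P.ι) : a ≫ q = (b ≫ P.π.app (op k)) ≫ P.t k :=
  sq.w.trans ((congrArg (b ≫ ·) (P.wp k).symm).trans (Category.assoc _ _ _).symm)

/-- The base change of a presentation along a quasi-compact quasi-separated morphism. -/
noncomputable def bc [QuasiCompact q] [QuasiSeparated q] (sq : IsPullback a b q σ) : Pres a where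
  ι := P.ι
  Xs := P.bcSys q
  aff k l h := by
    have := P.aff k l h
    have h1 : IsPullback (pullback.lift (pullback.fst q (P.t k.unop)) (pullback.snd q (P.t k.unop) ≫ P.Xs.map h)
        (by
          rw [pullback.condition, Category.assoc]
          exact congrArg (_ ≫ ·) (((congrArg (P.Xs.map · ≫ P.t l.unop) (P.homOfLE_op k l h)).symm.trans
            (P.wt l.unop k.unop (leOfHom h.unop))).symm)))
        (pullback.snd q (P.t k.unop)) (pullback.snd q (P.t l.unop)) (P.Xs.map h) := by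
      refine IsPullback.of_right ?_ (pullback.lift_snd _ _ _) (IsPullback.of_hasPullback q (P.t l.unop))
      rw [pullback.lift_fst, ← (congrArg (P.Xs.map · ≫ P.t l.unop) (P.homOfLE_op k l h)),
        P.wt l.unop k.unop (leOfHom h.unop)]
      exact IsPullback.of_hasPullback q (P.t k.unop)
    exact MorphismProperty.of_isPullback (P := @IsAffineHom) h1.flip inferInstance
  qc k := by
    have := P.qc k
    change CompactSpace ↥(pullback q (P.t k.unop))
    have : QuasiCompact (pullback.snd q (P.t k.unop)) := MorphismProperty.pullback_snd _ _ ‹QuasiCompact q›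
    exact QuasiCompact.compactSpace_of_compactSpace (pullback.snd q (P.t k.unop))
  qs k := by
    have := P.qs k
    change QuasiSeparatedSpace ↥(pullback q (P.t k.unop))
    have : QuasiSeparated (pullback.snd q (P.t k.unop)) := MorphismProperty.pullback_snd _ _ ‹QuasiSeparated q›
    exact quasiSeparatedSpace_of_quasiSeparated (pullback.snd q (P.t k.unop))
  t k := pullback.fst q (P.t k)
  wt _ _ _ := pullback.lift_fst _ _ _
  π :=
    { app := fun k => pullback.lift a (b ≫ P.π.app k) (P.bc_cond sq k.unop)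
      naturality := fun k l h => by
        refine (Category.id_comp _).trans (pullback.hom_ext (Eq.symm ?_) (Eq.symm ?_))
        · exact (Category.assoc _ _ _).trans (((congrArg (_ ≫ ·) (pullback.lift_fst _ _ _)).trans
            (pullback.lift_fst _ _ _)).trans (pullback.lift_fst _ _ _).symm)
        · refine (Category.assoc _ _ _).trans (((congrArg (_ ≫ ·) (pullback.lift_snd _ _ _)).trans
            (pullback.lift_snd_assoc _ _ _ _)).trans ?_)
          exact ((Category.assoc _ _ _).trans (congrArg (b ≫ ·) ((Cone.mk T P.π).w h))).trans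
            (pullback.lift_snd _ _ _).symm }
  wp k := pullback.lift_fst _ _ _
  lim := by
    have : IsFiltered P.ι := { nonempty := inferInstance }
    have : CategoryTheory.IsConnected P.ιᵒᵖ := IsCofiltered.isConnected _
    refine isLimitOfIsPullbackOfIsConnected (P.bcSnd q) _ P.cone
      { hom := b, w := fun k => (pullback.lift_snd a (b ≫ P.π.app k) (P.bc_cond sq k.unop)).symm }
      (fun k => ?_) P.lim
    refine IsPullback.of_right (h₁₁ := pullback.lift a (b ≫ P.π.app k) (P.bc_cond sq k.unop)) (v₁₁ := b)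
      (h₂₁ := P.π.app k) (v₁₂ := pullback.snd q (P.t k.unop)) ?_ (pullback.lift_snd _ _ _)
      (IsPullback.of_hasPullback q (P.t k.unop))
    rw [pullback.lift_fst]
    exact (P.wp k.unop).symm ▸ sq

/-- Restriction to the stages above a given one. -/
noncomputable def above (i : P.ι) : Pres (P.π.app (op i)) := by
  have hdir : IsDirected P.ι (· ≤ ·) := P.dir
  let ι' := { k : P.ι // i ≤ k }
  have hmono : Monotone (fun k : ι' => k.1) := fun _ _ h => h
  have : Nonempty ι' := ⟨⟨i, le_rfl⟩⟩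
  have : IsDirected ι' (· ≤ ·) := ⟨fun x y => by
    obtain ⟨z, hx, hy⟩ := directed_of (· ≤ ·) x.1 y.1
    exact ⟨⟨z, x.2.trans hx⟩, hx, hy⟩⟩
  have : hmono.functor.Final := (hmono.final_functor_iff).2 fun k => by
    obtain ⟨z, hk, hi⟩ := directed_of (· ≤ ·) k i
    exact ⟨⟨z, hi⟩, hk⟩
  exact
    { ι := ι'
      Xs := hmono.functor.op ⋙ P.Xs
      aff := fun a b h => P.aff _ _ _
      qc := fun a => P.qc _
      qs := fun a => P.qs _
      t := fun k => P.Xs.map (homOfLE k.2).op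
      wt := fun _ _ _ => (P.Xs.map_comp _ _).symm
      π := Functor.whiskerLeft hmono.functor.op P.π
      wp := fun k => (Cone.mk T P.π).w _
      lim := IsLimit.ofIsoLimit ((Functor.Initial.isLimitWhiskerEquiv hmono.functor.op P.cone).symm P.lim)
        (Cone.ext (Iso.refl _) fun j => (Category.id_comp _).symm) }

end Pres

variable {X U : Scheme.{u}} (j : U ⟶ X) [IsOpenImmersion j] [QuasiCompact j]

omit [IsOpenImmersion j] [QuasiCompact j] in
/-- Bijectivity and injectivity pass to directed colimits of groups. -/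
theorem BI_colim {ι : Type u} [Preorder ι] (n : ℕ) {A B : ℕ → Type (u + 1)} [∀ p, AddCommGroup (A p)]
    [∀ p, AddCommGroup (B p)] {Ak Bk : ℕ → ι → Type (u + 1)} [∀ p k, AddCommGroup (Ak p k)]
    [∀ p k, AddCommGroup (Bk p k)] (f : ∀ p, A p →+ B p) (g : ∀ p k, Ak p k →+ Bk p k)
    (α : ∀ p k, Ak p k →+ A p) (β : ∀ p k, Bk p k →+ B p)
    (tA : ∀ p k l, k ≤ l → (Ak p k →+ Ak p l)) (tB : ∀ p k l, k ≤ l → (Bk p k →+ Bk p l))
    (sq : ∀ p k x, f p (α p k x) = β p k (g p k x))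
    (sqt : ∀ p k l h x, tB p k l h (g p k x) = g p l (tA p k l h x))
    (hA : ∀ p ξ, ∃ k x, α p k x = ξ) (hB : ∀ p ξ, ∃ k x, β p k x = ξ)
    (hB0 : ∀ p k x, β p k x = 0 → ∃ l h, tB p k l h x = 0)
    (hαt : ∀ p k l h x, α p l (tA p k l h x) = α p k x)
    (hg : ∀ k, BI n fun p => ⇑(g p k)) : BI n fun p => ⇑(f p) := by
  have hinjk : ∀ p, p < n → ∀ k, Function.Injective (g p k) := fun p hp k => by
    rcases Nat.lt_or_eq_of_le (Nat.succ_le_of_lt hp) with h | h
    exacts [((hg k).1 p h).1, (hg k).2 p h]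
  have inj : ∀ p, p < n → Function.Injective (f p) := fun p hp => by
    refine (injective_iff_map_eq_zero _).2 fun ξ hξ => ?_
    obtain ⟨k, x, rfl⟩ := hA p ξ
    rw [sq] at hξ
    obtain ⟨l, hl, h0⟩ := hB0 p k _ hξ
    rw [sqt] at h0
    rw [← hαt p k l hl x, (injective_iff_map_eq_zero _).1 (hinjk p hp l) _ h0, map_zero]
  refine ⟨fun p hp => ⟨inj p (by omega), fun y => ?_⟩, fun p hp => inj p (by omega)⟩
  obtain ⟨k, z, rfl⟩ := hB p y
  obtain ⟨x, rfl⟩ := ((hg k).1 p hp).2 z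
  exact ⟨_, sq p k x⟩

omit [IsOpenImmersion j] [QuasiCompact j] in
/-- Bijectivity and injectivity pass to limits of a map of systems. -/
theorem bi_limit_aux {ι : Type u} [Preorder ι] [IsDirected ι (· ≤ ·)] [Nonempty ι]
    (Xs Ys : ιᵒᵖ ⥤ Scheme.{u}) [∀ (a b : ιᵒᵖ) (h : a ⟶ b), IsAffineHom (Xs.map h)]
    [∀ a, CompactSpace ↥(Xs.obj a)] [∀ a, QuasiSeparatedSpace ↥(Xs.obj a)]
    [∀ (a b : ιᵒᵖ) (h : a ⟶ b), IsAffineHom (Ys.map h)]
    [∀ a, CompactSpace ↥(Ys.obj a)] [∀ a, QuasiSeparatedSpace ↥(Ys.obj a)]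
    (c : Cone Xs) (hc : IsLimit c) (d : Cone Ys) (hd : IsLimit d)
    (t : ∀ k, St Xs k ⟶ X) (σ : c.pt ⟶ X) (wp : ∀ k, pr c k ≫ t k = σ)
    (wt : ∀ i k (h : i ≤ k), tr Xs h ≫ t i = t k)
    (J : ∀ k, St Ys k ⟶ St Xs k) (wJ : ∀ i k (h : i ≤ k), tr Ys h ≫ J i = J k ≫ tr Xs h)
    (j' : d.pt ⟶ c.pt) (wj : ∀ k, pr d k ≫ J k = j' ≫ pr c k)
    [PreservesFiniteLimits (EtCoh.pull j')] (F : EtCoh.Ab X) (n : ℕ)
    (hst : ∀ k, ∀ [PreservesFiniteLimits (EtCoh.pull (J k))],
      BI n fun p => ⇑(EtCore.Hpull (J k) ((EtCoh.pull (t k)).obj F) p)) :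
    BI n fun p => ⇑(EtCore.Hpull j' ((EtCoh.pull σ).obj F) p) := by
  have hfl : ∀ {A B : Scheme.{u}} (f : A ⟶ B), PreservesFiniteLimits (EtCoh.pull f) := fun f =>
    preservesFiniteLimits_pull f
  let u : ∀ k, St Ys k ⟶ X := fun k => J k ≫ t k
  have wu : ∀ i k (h : i ≤ k), tr Ys h ≫ u i = u k := fun i k h =>
    (Category.assoc _ _ _).symm.trans ((congrArg (· ≫ t i) (wJ i k h)).trans
      ((Category.assoc _ _ _).trans (congrArg (J k ≫ ·) (wt i k h))))
  have w₃ : ∀ k, (j' ≫ pr c k) ≫ t k = j' ≫ σ := fun k =>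
    (Category.assoc _ _ _).trans (congrArg (j' ≫ ·) (wp k))
  have wpu : ∀ k, pr d k ≫ u k = j' ≫ σ := fun k =>
    (Category.assoc _ _ _).symm.trans ((congrArg (· ≫ t k) (wj k)).trans (w₃ k))
  have w₄ : ∀ i k (h : i ≤ k), (J k ≫ tr Xs h) ≫ t i = u k := fun i k h =>
    (Category.assoc _ _ _).trans (congrArg (J k ≫ ·) (wt i k h))
  suffices BI n fun p => ⇑(EtCore.HpullVia j' σ (j' ≫ σ) rfl F p) from (BI_HpullVia_iff j' σ rfl F n).1 this
  have hst' : ∀ k, BI n fun p => ⇑(EtCore.HpullVia (J k) (t k) (u k) rfl F p) := fun k =>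
    (BI_HpullVia_iff (J k) (t k) rfl F n).2 (hst k)
  have hW := fun p => H_limit_gen Xs t wt F c σ wp hc p
  have hU := fun p => H_limit_gen Ys u wu F d (j' ≫ σ) wpu hd p
  have sqk : ∀ (p : ℕ) (k : ι) (x : EtCoh.H (St Xs k) ((EtCoh.pull (t k)).obj F) p),
      EtCore.HpullVia j' σ (j' ≫ σ) rfl F p (EtCore.HpullVia (pr c k) (t k) σ (wp k) F p x) =
        EtCore.HpullVia (pr d k) (u k) (j' ≫ σ) (wpu k) F p (EtCore.HpullVia (J k) (t k) (u k) rfl F p x) :=
    fun p k x => (HpullVia_HpullVia j' (pr c k) (t k) rfl (wp k) (w₃ k) rfl F p x).trans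
      (HpullVia_HpullVia (pr d k) (J k) (t k) (wj k) rfl (w₃ k) (wpu k) F p x).symm
  have sqt : ∀ (p : ℕ) (k l : ι) (h : k ≤ l) (x : EtCoh.H (St Xs k) ((EtCoh.pull (t k)).obj F) p),
      EtCore.HpullVia (tr Ys h) (u k) (u l) (wu k l h) F p (EtCore.HpullVia (J k) (t k) (u k) rfl F p x) =
        EtCore.HpullVia (J l) (t l) (u l) rfl F p (EtCore.HpullVia (tr Xs h) (t k) (t l) (wt k l h) F p x) :=
    fun p k l h x => (HpullVia_HpullVia (tr Ys h) (J k) (t k) (wJ k l h) rfl (w₄ k l h) (wu k l h) F p x).trans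
      (HpullVia_HpullVia (J l) (tr Xs h) (t k) rfl (wt k l h) (w₄ k l h) rfl F p x).symm
  exact BI_colim n (fun p => EtCore.HpullVia j' σ (j' ≫ σ) rfl F p)
    (fun p k => EtCore.HpullVia (J k) (t k) (u k) rfl F p)
    (fun p k => EtCore.HpullVia (pr c k) (t k) σ (wp k) F p)
    (fun p k => EtCore.HpullVia (pr d k) (u k) (j' ≫ σ) (wpu k) F p)
    (fun p k l h => EtCore.HpullVia (tr Xs h) (t k) (t l) (wt k l h) F p)
    (fun p k l h => EtCore.HpullVia (tr Ys h) (u k) (u l) (wu k l h) F p)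
    sqk sqt (fun p => (hW p).1) (fun p => (hU p).1)
    (fun p k x h0 => by
      obtain ⟨l, hl, h1⟩ := (hU p).2 k x h0
      refine ⟨l, hl, ?_⟩
      rw [HpullVia_apply, h1]
      exact Ext.zero_comp _ _ _ _ _)
    (fun p k l h x => HpullVia_HpullVia (pr c l) (tr Xs h) (t k) (pr_tr c h) (wt k l h) (wp k) (wp l) F p x)
    hst'

/-- Bijectivity and injectivity of restriction maps pass to limits of etale schemes over the base. -/
theorem bi_limit {T : Scheme.{u}} {σ : T ⟶ X} (P : Pres σ) (hte : ∀ k, Etale (P.t k))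
    {U' : Scheme.{u}} {a : U' ⟶ U} {j' : U' ⟶ T} (sq : IsPullback a j' j σ)
    [PreservesFiniteLimits (EtCoh.pull j')] (F : EtCoh.Ab X) (n : ℕ) (hF : EtDepth.DepthGE j F n) :
    BI n fun p => ⇑(EtCore.Hpull j' ((EtCoh.pull σ).obj F) p) :=
  have := P.qc; have := P.qs; have := P.aff
  have : ∀ a, CompactSpace ↥((P.bcSys j).obj a) := (P.bc sq).qc
  have : ∀ a, QuasiSeparatedSpace ↥((P.bcSys j).obj a) := (P.bc sq).qs
  have : ∀ (a b : P.ιᵒᵖ) (h : a ⟶ b), IsAffineHom ((P.bcSys j).map h) := (P.bc sq).aff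
  bi_limit_aux P.Xs (P.bcSys j) P.cone P.lim (P.bc sq).cone (P.bc sq).lim P.t σ P.wp P.wt
    (fun k => pullback.snd j (P.t k)) (fun _ _ _ => pullback.lift_snd _ _ _) j'
    (fun _ => pullback.lift_snd _ _ _) F n fun k _ =>
      have := hte k
      (hpull_iff (pullback.snd j (P.t k)) _ n).2 ((depthGE_iff_extRel j F n).1 hF _ (P.t k))

end Groth.Agent.Depth22
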