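import Groth.Agent.Depth22.QcohAcyclic
import Groth.Agent.Depth22.LimDepth
import Groth.Agent.Hens22.PairHens
import Groth.Agent.Ind91.Lift
import Groth.Agent.Cons51.GabberAffine
import Groth.Agent.Gabber51.Hyp
import Groth.Agent.EtCore45.HpullUH
import Mathlib.CategoryTheory.Presentable.Directed
import Mathlib.Algebra.CharP.Basic

/-!
# Quasi-coherent sheaves in characteristic `p` are acyclic on closed subschemes cut out by henselian ideals
-/

set_option autoImplicit false
set_option backward.isDefEq.respectTransparency.types false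
universe u

open CategoryTheory CategoryTheory.Limits CategoryTheory.Abelian AlgebraicGeometry Opposite

namespace Groth.Agent.Depth22.HensQcoh

section Transport

variable {W U V : Scheme.{u}}

/-- The cohomology of an iterated inverse image. -/
theorem subsingleton_via_iff (a : W ⟶ U) (b : U ⟶ V) {h : W ⟶ V} (w : a ≫ b = h) (G : EtCoh.Ab V) (q : ℕ) :
    Subsingleton (EtCoh.H W ((EtCoh.pull a).obj ((EtCoh.pull b).obj G)) q) ↔
      Subsingleton (EtCoh.H W ((EtCoh.pull h).obj G) q) :=
  (Equiv.ofBijective _ (bijective_comp_iso ((EtLim45.comp2 a b w).hom.app G) q)).subsingleton_congr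

/-- Cohomology does not see isomorphisms. -/
theorem subsingleton_of_isIso (a : W ⟶ U) [IsIso a] (b : U ⟶ V) {h : W ⟶ V} (w : a ≫ b = h) (G : EtCoh.Ab V)
    (q : ℕ) [Subsingleton (EtCoh.H U ((EtCoh.pull b).obj G) q)] :
    Subsingleton (EtCoh.H W ((EtCoh.pull h).obj G) q) := by
  have : PreservesFiniteLimits (EtCoh.pull a) := Unr55.EtSh.preservesFiniteLimits_pull a
  exact (subsingleton_via_iff a b w G q).1
    ((EtCore45.Hpull_bijective_uh a _ q).2.subsingleton)

end Transport

section Torsion

/-- A quasi-coherent sheaf over a base of characteristic `p` is killed by `p`. -/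
theorem killedBy_assoc (A : Type u) [CommRing A] (p : ℕ) [CharP A p]
    {F : (Spec (CommRingCat.of A)).Modules} {G : EtCoh.Ab (Spec (CommRingCat.of A))}
    (hG : EtAssoc.IsAssoc F G) : EtCoh.KilledBy p G := by
  obtain ⟨e, -⟩ := hG
  intro U s
  apply (e U).injective
  rw [map_nsmul, map_zero]
  refine ULift.ext _ _ ?_
  let y : Γ((Scheme.Modules.pullback U.hom).obj F, ⊤) := (e U s).down
  show p • y = 0
  rw [← Nat.cast_smul_eq_nsmul Γ(U.left, ⊤)]
  have h0 : (p : Γ(U.left, ⊤)) = 0 := by
    have h := map_natCast (U.hom.appTop.hom.comp (Scheme.ΓSpecIso (CommRingCat.of A)).inv.hom) p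
    rw [CharP.cast_eq_zero, map_zero] at h
    exact h.symm
  rw [h0, zero_smul]

/-- Inverse images of killed sheaves are torsion. -/
theorem isTorsion_pull {X Y : Scheme.{u}} (f : Y ⟶ X) {G : EtCoh.Ab X} {n : ℕ} (hn : 0 < n)
    (hG : EtCoh.KilledBy n G) : EtCoh.IsTorsion ((EtCoh.pull f).obj G) := by
  have : (EtCoh.pull f).Additive := (EtCoh.pullPushAdj f).left_adjoint_additive
  have h1 : n • 𝟙 G = 0 := by
    refine InducedCategory.Hom.ext (NatTrans.ext (funext fun U => ConcreteCategory.hom_ext _ _ fun s => ?_))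
    exact (map_nsmul (AddMonoidHom.mk' (fun φ : G ⟶ G => φ.hom.app U s) fun _ _ => rfl) n (𝟙 G)).trans
      (hG U.unop s)
  have h2 : n • 𝟙 ((EtCoh.pull f).obj G) = 0 := by
    rw [← CategoryTheory.Functor.map_id, ← Functor.map_nsmul, h1, Functor.map_zero]
  intro U s x
  refine ⟨U, 𝟙 U, ⟨x, rfl⟩, isOfFinAddOrder_iff_nsmul_eq_zero.2 ⟨n, hn, ?_⟩⟩
  have h3 : n • s = 0 :=
    (map_nsmul (AddMonoidHom.mk' (fun φ : (EtCoh.pull f).obj G ⟶ (EtCoh.pull f).obj G => φ.hom.app (op U) s)
      fun _ _ => rfl) n (𝟙 _)).symm.trans (congrArg (fun φ : (EtCoh.pull f).obj G ⟶ _ => φ.hom.app (op U) s) h2)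
  rw [← map_nsmul, h3, map_zero]

end Torsion

section Henselization

variable (A W : Type u) [CommRing A] [CommRing W] [Algebra A W] [Algebra.Etale A W] (K : Type u) [CommRing K]
  [Algebra W K]

/-- The morphism from the spectrum of the colimit of étale neighbourhoods to the base. -/
noncomputable def toBase : Spec (CommRingCat.of (Henz21.H W K)) ⟶ Spec (CommRingCat.of A) :=
  Spec.map (CommRingCat.ofHom ((algebraMap W (Henz21.H W K)).comp (algebraMap A W)))

/-- A sheaf acyclic on affine étale schemes is acyclic on the spectrum of a henselization of an étale algebra. -/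
theorem subsingleton_H_toBase {G : EtCoh.Ab (Spec (CommRingCat.of A))} (hG : H98EtZar.GoodA G) (q : ℕ)
    (hq : 0 < q) :
    Subsingleton (EtCoh.H _ ((EtCoh.pull (toBase A W K)).obj G) q) := by
  obtain ⟨ι, _, _, _, F, hF⟩ := IsFiltered.exists_directed (Henz21.Pt W K)
  let D : Henz21.Pt W K ⥤ CommRingCat.{u} := Henz21.Pt.diagram W K
  let hccF : IsColimit ((colimit.cocone D).whisker F) :=
    (Functor.Final.isColimitWhiskerEquiv F _).symm (colimit.isColimit D)
  let Ys : ιᵒᵖ ⥤ Scheme.{u} := (F ⋙ D).op ⋙ Scheme.Spec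
  let cY : Cone Ys := Scheme.Spec.mapCone ((colimit.cocone D).whisker F).op
  let hc : IsLimit cY := isLimitOfPreserves Scheme.Spec hccF.op
  let t : ∀ j : ι, Ys.obj (op j) ⟶ Spec (CommRingCat.of A) := fun j =>
    Spec.map (CommRingCat.ofHom ((algebraMap W (F.obj j).S).comp (algebraMap A W)))
  have wt : ∀ i j (h : i ≤ j), Ys.map (homOfLE h).op ≫ t i = t j := fun i j h =>
    (Spec.map_comp _ _).symm.trans (congrArg Spec.map (CommRingCat.hom_ext
      (RingHom.ext fun a => AlgHom.commutes (F.map (homOfLE h)).φ (algebraMap A W a))))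
  have wp : ∀ j, cY.π.app (op j) ≫ t j = toBase A W K := fun j =>
    (Spec.map_comp _ _).symm.trans (congrArg Spec.map (CommRingCat.hom_ext
      (RingHom.ext fun a => AlgHom.commutes (Henz21.H.incl (F.obj j)) (algebraMap A W a))))
  have hfl : ∀ {P Q : Scheme.{u}} (f : P ⟶ Q), PreservesFiniteLimits (EtCoh.pull f) := fun f =>
    Unr55.EtSh.preservesFiniteLimits_pull f
  have : ∀ a, PreservesFiniteLimits (EtCoh.pull (cY.π.app a)) := fun a => hfl _
  have : ∀ ⦃a b : ιᵒᵖ⦄ (h : a ⟶ b), PreservesFiniteLimits (EtCoh.pull (Ys.map h)) := fun _ _ h => hfl _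
  have : ∀ a, IsAffine (Ys.obj a) := fun a => inferInstanceAs (IsAffine (Spec _))
  have : ∀ (a b : ιᵒᵖ) (h : a ⟶ b), IsAffineHom (Ys.map h) := fun a b h =>
    inferInstanceAs (IsAffineHom (Spec.map _))
  have : ∀ a, CompactSpace ↥(Ys.obj a) := fun a => inferInstance
  have : ∀ a, QuasiSeparatedSpace ↥(Ys.obj a) := fun a => inferInstance
  refine subsingleton_of_forall_eq 0 fun ξ => ?_
  obtain ⟨j, x, rfl⟩ := (EtLim45.H_limit_gen Ys t wt G cY (toBase A W K) wp hc q).1 ξ
  have het : Etale (t j) := by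
    refine HasRingHomProperty.Spec_iff.2 ?_
    show ((algebraMap W (F.obj j).S).comp (algebraMap A W)).Etale
    exact RingHom.Etale.stableUnderComposition _ _ (RingHom.etale_algebraMap.2 inferInstance)
      (RingHom.etale_algebraMap.2 inferInstance)
  have hsub := hG (MorphismProperty.Over.mk ⊤ (t j) het) (inferInstanceAs (IsAffine (Spec _))) q hq
  obtain rfl : x = 0 := hsub.elim x 0
  exact map_zero _

end Henselization

/-- **Acyclicity.** -/
theorem goodA_pull (A : Type u) [CommRing A] (I : Ideal A) (p : ℕ) [Fact p.Prime] [CharP A p]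
    (F : (Spec (CommRingCat.of A)).Modules) [F.IsQuasicoherent] (G : EtCoh.Ab (Spec (CommRingCat.of A)))
    (hG : EtAssoc.IsAssoc F G) :
    H98EtZar.GoodA ((EtCoh.pull (Spec.map (CommRingCat.ofHom (Ideal.Quotient.mk I)))).obj G) := by
  intro T hT q hq
  let S : Type u := Γ(T.left, ⊤)
  let φ : CommRingCat.of (A ⧸ I) ⟶ CommRingCat.of S := Spec.preimage (T.left.isoSpec.inv ≫ T.hom)
  have hφ : Spec.map φ = T.left.isoSpec.inv ≫ T.hom := Spec.map_preimage _
  have hTe : Etale T.hom := T.prop
  have hφe : φ.hom.Etale := HasRingHomProperty.Spec_iff.1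
    (show Etale (Spec.map φ) by rw [hφ]; infer_instance)
  let : Algebra (A ⧸ I) S := φ.hom.toAlgebra
  let : Algebra A S := (φ.hom.comp (Ideal.Quotient.mk I)).toAlgebra
  have : IsScalarTower A (A ⧸ I) S := IsScalarTower.of_algebraMap_eq' rfl
  have : Algebra.Etale (A ⧸ I) S := hφe
  obtain ⟨W, _, _, π, hW, hπ, -⟩ := Ind91.exists_etale_lift A I S
  let J : Ideal W := RingHom.ker π
  let H : Type u := Henz21.H W (W ⧸ J)
  let eπ : (W ⧸ J) ≃+* S := RingHom.quotientKerEquivOfSurjective (f := π.toRingHom) hπ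
  let c : H →+* S := eπ.toRingHom.comp (Henz21.H.proj W (W ⧸ J)).toRingHom
  have hc : Function.Surjective c := eπ.surjective.comp (Hens22.proj_surjective J)
  have hker : RingHom.ker c = J.map (algebraMap W H) := by
    refine Eq.trans ?_ (Hens22.ker_proj_eq J)
    ext x
    simp only [c, RingHom.mem_ker, RingHom.comp_apply]
    exact eπ.map_eq_zero_iff
  have : HenselianRing H (RingHom.ker c) := by
    rw [hker]; exact (Hens22.isPairHenselization_H J).1
  have hcW : ∀ a : A, c (algebraMap W H (algebraMap A W a)) = algebraMap A S a := fun a => by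
    show eπ (Henz21.H.proj W (W ⧸ J) (algebraMap W H (algebraMap A W a))) = _
    rw [AlgHom.commutes, Ideal.Quotient.algebraMap_eq]
    exact π.commutes a
  let X₀ := Spec (CommRingCat.of A)
  let i : Spec (CommRingCat.of (A ⧸ I)) ⟶ X₀ := Spec.map (CommRingCat.ofHom (Ideal.Quotient.mk I))
  let σ : Spec (CommRingCat.of H) ⟶ X₀ := toBase A W (W ⧸ J)
  let k : Spec (CommRingCat.of S) ⟶ Spec (CommRingCat.of H) := Spec.map (CommRingCat.ofHom c)
  have : IsClosedImmersion k := IsClosedImmersion.spec_of_surjective _ hc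
  have hksq : k ≫ σ = (T.left.isoSpec.inv ≫ T.hom) ≫ i := by
    rw [← hφ]
    refine (Spec.map_comp _ _).symm.trans (Eq.trans (congrArg Spec.map ?_) (Spec.map_comp _ _))
    exact CommRingCat.hom_ext (RingHom.ext hcW)
  let M := (EtCoh.pull σ).obj G
  have h1 : Subsingleton (EtCoh.H _ M q) :=
    subsingleton_H_toBase A W (W ⧸ J) (QcohAcyclic.goodA_assoc hG) q hq
  have h0 := fun M' => Gabber51.bijective k (Gabber51.connFinite_of_henselian k H (RingHom.ker c)
    (𝟙 (Spec (CommRingCat.of H))) (by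
      show Set.range (PrimeSpectrum.comap c) = PrimeSpectrum.zeroLocus (RingHom.ker c : Set H)
      exact range_comap_of_surjective _ _ hc)) M'
  have htor : EtCoh.IsTorsion M := isTorsion_pull σ (Nat.Prime.pos Fact.out) (killedBy_assoc A p hG)
  have h2 : Subsingleton (EtCoh.H _ ((EtCoh.push k).obj ((EtCoh.pull k).obj M)) q) :=
    @Function.Surjective.subsingleton _ _ _ h1 (Cons51.bijective_H_affine k h0 q M htor).2
  have h3 : Subsingleton (EtCoh.H _ ((EtCoh.pull k).obj M) q) := by
    let adj := EtCoh.pullPushAdj k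
    have : (EtCoh.pull k).Additive := adj.left_adjoint_additive
    have : (EtCoh.push k).Additive := adj.right_adjoint_additive
    have : PreservesFiniteLimits (EtCoh.pull k) := Unr55.EtSh.preservesFiniteLimits_pull k
    have : PreservesFiniteColimits (EtCoh.pull k) := by
      have : PreservesColimitsOfSize.{0, 0} (EtCoh.pull k) := adj.leftAdjoint_preservesColimits
      infer_instance
    exact @Function.Surjective.subsingleton _ _ _ h2 (EtCore45.adjTransfer_bijective adj
      (EtCore.pullConst k ℤ).inv q _ fun n hn => S3054.result k _ n hn).2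
  have h4 := (subsingleton_via_iff k σ hksq G q).1 h3
  have h5 : Subsingleton (EtCoh.H T.left ((EtCoh.pull (T.hom ≫ i)).obj G) q) :=
    subsingleton_of_isIso T.left.isoSpec.hom ((T.left.isoSpec.inv ≫ T.hom) ≫ i)
      (by rw [Category.assoc, Iso.hom_inv_id_assoc]) G q
  exact (subsingleton_via_iff T.hom i rfl G q).2 h5

end Groth.Agent.Depth22.HensQcoh
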