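import Groth.Agent.Depth22.SectLimit
import Groth.Agent.Henz21.Henselian
import Groth.Agent.Unr55.Et.ZarCompare
import Groth.Agent.Desc59.EtAssocSheaf
import Mathlib.CategoryTheory.Presentable.Directed

/-!
# Sections of the inverse image of the étale sheaf of a module to a closed subscheme
-/

set_option autoImplicit false
set_option maxHeartbeats 400000
set_option backward.isDefEq.respectTransparency.types false
universe u

open CategoryTheory CategoryTheory.Limits CategoryTheory.Abelian AlgebraicGeometry Opposite TensorProduct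

namespace Groth.Agent.Depth22.HensSections

open Henz21 Desc59 LimTop61 QCPull72 PullSections

variable {A : Type u} [CommRing A] (F : (Spec (CommRingCat.of A)).Modules) [F.IsQuasicoherent]
  {G : EtCoh.Ab (Spec (CommRingCat.of A))}

/-- The global sections as a module. -/
noncomputable abbrev GM : ModuleCat.{u} A := (moduleSpecΓFunctor (R := CommRingCat.of A)).obj F

/-- The structure morphism of an algebra. -/
noncomputable abbrev sHom (S : Type u) [CommRing S] [Algebra A S] :
    Spec (CommRingCat.of S) ⟶ Spec (CommRingCat.of A) :=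
  Spec.map (CommRingCat.ofHom (algebraMap A S))

/-- An étale algebra as an étale scheme. -/
noncomputable def stg (S : Type u) [CommRing S] [Algebra A S] [Algebra.Etale A S] :
    (Spec (CommRingCat.of A)).Etale :=
  MorphismProperty.Over.mk ⊤ (sHom (A := A) S)
    (HasRingHomProperty.Spec_iff.2 (RingHom.etale_algebraMap.2 inferInstance))

/-- The morphism of an algebra map. -/
noncomputable def stgMap {S S' : Type u} [CommRing S] [Algebra A S] [Algebra.Etale A S] [CommRing S']
    [Algebra A S'] [Algebra.Etale A S'] (g : S →ₐ[A] S') : stg (A := A) S' ⟶ stg (A := A) S :=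
  MorphismProperty.Over.homMk (Spec.map (CommRingCat.ofHom g.toRingHom))
    ((Spec.map_comp _ _).symm.trans (congrArg Spec.map (CommRingCat.hom_ext g.comp_algebraMap)))

/-- A function times a pulled back global section. -/
noncomputable def gsec {P X : Scheme.{u}} (f : P ⟶ X) (N : X.Modules) (r : Γ(P, ⊤)) (x : Γ(N, ⊤)) :
    Γ((Scheme.Modules.pullback f).obj N, ⊤) :=
  r • unitSec f N (le_top : (⊤ : P.Opens) ≤ f ⁻¹ᵁ ⊤) x

/-- An element of the algebra times a global section. -/
noncomputable abbrev betaRaw (S : Type u) [CommRing S] [Algebra A S] [Algebra.Etale A S] (r : S) (m : GM F) :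
    Γ((Scheme.Modules.pullback (sHom (A := A) S)).obj F, ⊤) :=
  gsec (sHom (A := A) S) F ((Scheme.ΓSpecIso (CommRingCat.of S)).inv r) (show Γ(F, ⊤) from m)

theorem appLE_top {W V : Scheme.{u}} (f : W ⟶ V) (e : (⊤ : W.Opens) ≤ f ⁻¹ᵁ ⊤) :
    f.appLE ⊤ ⊤ e = f.appTop := by
  simp [Scheme.Hom.appLE]

theorem appLE_hom (S : Type u) [CommRing S] [Algebra A S] [Algebra.Etale A S] (a : A)
    (e : (⊤ : (Spec (CommRingCat.of S)).Opens) ≤ (sHom (A := A) S) ⁻¹ᵁ ⊤) :
    (sHom (A := A) S).appLE ⊤ ⊤ e ((Scheme.ΓSpecIso (CommRingCat.of A)).inv a) =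
      (Scheme.ΓSpecIso (CommRingCat.of S)).inv (algebraMap A S a) := by
  refine (ConcreteCategory.congr_hom (appLE_top _ _) _).trans ?_
  exact (ConcreteCategory.congr_hom (Scheme.ΓSpecIso_inv_naturality (CommRingCat.ofHom (algebraMap A S))) a).symm

theorem smul_GM (a : A) (m : GM F) :
    (show Γ(F, ⊤) from a • m) = (Scheme.ΓSpecIso (CommRingCat.of A)).inv a • (show Γ(F, ⊤) from m) := rfl

/-- The map to the sections of the inverse image. -/
noncomputable def betaSec (S : Type u) [CommRing S] [Algebra A S] [Algebra.Etale A S] :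
    S ⊗[A] GM F →+ Γ((Scheme.Modules.pullback (sHom (A := A) S)).obj F, ⊤) :=
  TensorProduct.liftAddHom
    (AddMonoidHom.mk' (fun r => AddMonoidHom.mk' (fun m => betaRaw F S r m) fun m m' =>
        (congrArg (_ • ·) (unitSec_add _ _ _ _ _)).trans (smul_add _ _ _))
      fun r r' => AddMonoidHom.ext fun m =>
        (congrArg (· • _) (map_add _ r r')).trans (add_smul _ _ _))
    fun a r m => by
      show betaRaw F S (a • r) m = betaRaw F S r (a • m)
      unfold betaRaw gsec
      rw [smul_GM, unitSec_smul, appLE_hom, smul_smul, Algebra.smul_def, map_mul, mul_comm]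

theorem betaSec_bijective (S : Type u) [CommRing S] [Algebra A S] [Algebra.Etale A S] :
    Function.Bijective (betaSec F S) := by
  let f := (sHom (A := A) S)
  have e : (⊤ : (Spec (CommRingCat.of S)).Opens) ≤ f ⁻¹ᵁ ⊤ := le_top
  letI := (f.appLE ⊤ ⊤ e).hom.toAlgebra
  obtain ⟨E, hE⟩ := exists_baseChange_equiv f F (isAffineOpen_top (Spec (CommRingCat.of A)))
    (isAffineOpen_top (Spec (CommRingCat.of S))) e
  let ψ : Γ((Spec (CommRingCat.of S)), ⊤) ⊗[Γ(Spec (CommRingCat.of A), ⊤)] Γ(F, ⊤) →+ S ⊗[A] GM F :=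
    TensorProduct.liftAddHom
      (AddMonoidHom.mk' (fun t => AddMonoidHom.mk'
          (fun m => ((Scheme.ΓSpecIso (CommRingCat.of S)).hom t : S) ⊗ₜ[A] (show GM F from m))
          fun m m' => tmul_add _ (show GM F from m) (show GM F from m'))
        fun t t' => AddMonoidHom.ext fun m => by
          show ((Scheme.ΓSpecIso (CommRingCat.of S)).hom (t + t') : S) ⊗ₜ[A] _ = _
          rw [map_add]
          exact add_tmul _ _ _)
      fun r t m => by
        show ((Scheme.ΓSpecIso (CommRingCat.of S)).hom (f.appLE ⊤ ⊤ e r * t) : S) ⊗ₜ[A] (show GM F from m) =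
          ((Scheme.ΓSpecIso (CommRingCat.of S)).hom t : S) ⊗ₜ[A] (show GM F from r • m)
        obtain ⟨a, rfl⟩ : ∃ a, (Scheme.ΓSpecIso (CommRingCat.of A)).inv a = r :=
          ⟨_, (Scheme.ΓSpecIso (CommRingCat.of A)).hom_inv_id_apply r⟩
        rw [map_mul, appLE_hom, Iso.inv_hom_id_apply]
        exact ((congrArg (fun z : S => z ⊗ₜ[A] (show GM F from m)) (Algebra.smul_def a _).symm).trans
          (smul_tmul a _ _))
  have h1 : ∀ x, ψ (E (betaSec F S x)) = x := by
    intro x
    induction x with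
    | zero => rw [map_zero, map_zero, map_zero]
    | add x y hx hy => rw [map_add, map_add, map_add, hx, hy]
    | tmul r m =>
      show ψ (E ((Scheme.ΓSpecIso (CommRingCat.of S)).inv r • unitSec f F e (show Γ(F, ⊤) from m))) = _
      rw [map_smul, hE, TensorProduct.smul_tmul', smul_eq_mul, mul_one]
      show ((Scheme.ΓSpecIso (CommRingCat.of S)).hom ((Scheme.ΓSpecIso (CommRingCat.of S)).inv r) : S) ⊗ₜ[A] _ = _
      rw [Iso.inv_hom_id_apply]
  have h2 : ∀ z, betaSec F S (ψ z) = E.symm z := by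
    intro z
    induction z with
    | zero => rw [map_zero, map_zero, map_zero]
    | add x y hx hy => rw [map_add, map_add, map_add, hx, hy]
    | tmul t m =>
      refine E.injective (Eq.trans ?_ (E.apply_symm_apply _).symm)
      show E ((Scheme.ΓSpecIso (CommRingCat.of S)).inv ((Scheme.ΓSpecIso (CommRingCat.of S)).hom t) •
        unitSec f F e m) = _
      rw [Iso.hom_inv_id_apply, map_smul, hE, TensorProduct.smul_tmul', smul_eq_mul, mul_one]
  exact ⟨fun x y h => (h1 x).symm.trans ((congrArg (fun z => ψ (E z)) h).trans (h1 y)),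
    fun y => ⟨ψ (E y), (h2 (E y)).trans (E.symm_apply_apply y)⟩⟩

theorem tr_gsec {P Q X : Scheme.{u}} (f : P ⟶ X) (h : Q ⟶ X) (a : Q ⟶ P) (e : a ≫ f = h) (N : X.Modules)
    (r : Γ(P, ⊤)) (x : Γ(N, ⊤)) :
    QSheaf.tr e N (le_top : (⊤ : Q.Opens) ≤ a ⁻¹ᵁ ⊤) (gsec f N r x) = gsec h N (a.appLE ⊤ ⊤ le_top r) x :=
  (QSheaf.tr_smul e N le_top r _).trans
    (congrArg (a.appLE ⊤ ⊤ le_top r • ·) (QSheaf.tr_unitSec e N le_top le_top le_top x))

/-- Restriction of a generator. -/
theorem resMap_gsec {X : Scheme.{u}} (N : X.Modules) {U U' : X.Etale} (k : U' ⟶ U) (r : Γ(U.left, ⊤))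
    (x : Γ(N, ⊤)) :
    EtAssoc.resMap N k (gsec U.hom N r x) = gsec U'.hom N (k.left.appLE ⊤ ⊤ le_top r) x :=
  (EtAssocSheaf.resMap_eq N k _).trans (tr_gsec U.hom U'.hom k.left (Over.w k.hom) N r x)

theorem appLE_stgMap {S S' : Type u} [CommRing S] [Algebra A S] [Algebra.Etale A S] [CommRing S']
    [Algebra A S'] [Algebra.Etale A S'] (g : S →ₐ[A] S') (r : S)
    (e : (⊤ : (Spec (CommRingCat.of S')).Opens) ≤ Spec.map (CommRingCat.ofHom g.toRingHom) ⁻¹ᵁ ⊤) :
    (Spec.map (CommRingCat.ofHom g.toRingHom)).appLE ⊤ ⊤ e ((Scheme.ΓSpecIso (CommRingCat.of S)).inv r) =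
      (Scheme.ΓSpecIso (CommRingCat.of S')).inv (g r) :=
  (ConcreteCategory.congr_hom (appLE_top _ _) _).trans
    (ConcreteCategory.congr_hom (Scheme.ΓSpecIso_inv_naturality (CommRingCat.ofHom g.toRingHom)) r).symm

section Assoc

variable (hG : EtAssoc.IsAssoc F G)

/-- Sections of the sheaf over an étale algebra. -/
noncomputable def beta (S : Type u) [CommRing S] [Algebra A S] [Algebra.Etale A S] :
    S ⊗[A] GM F →+ EtCoh.sect G (stg (A := A) S) :=
  ((hG.choose (stg (A := A) S)).symm.toAddMonoidHom.comp (AddEquiv.ulift.{u, u + 1}).symm.toAddMonoidHom).comp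
    (betaSec F S)

theorem beta_bijective (S : Type u) [CommRing S] [Algebra A S] [Algebra.Etale A S] :
    Function.Bijective (beta F hG S) :=
  ((hG.choose (stg (A := A) S)).symm.bijective.comp (AddEquiv.ulift.{u, u + 1}).symm.bijective).comp
    (betaSec_bijective F S)

theorem map_beta {S S' : Type u} [CommRing S] [Algebra A S] [Algebra.Etale A S] [CommRing S']
    [Algebra A S'] [Algebra.Etale A S'] (g : S →ₐ[A] S') (x : S ⊗[A] GM F) :
    G.obj.map (stgMap g).op (beta F hG S x) = beta F hG S' (g.toLinearMap.rTensor (GM F) x) := by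
  induction x with
  | zero => simp only [map_zero]
  | add x y hx hy => simp only [map_add, hx, hy]
  | tmul r m =>
    refine (hG.choose (stg (A := A) S')).injective (ULift.ext _ _ ?_)
    refine (hG.choose_spec _ _ (stgMap g) _).trans ?_
    have h1 : ∀ (T : Type u) [CommRing T] [Algebra A T] [Algebra.Etale A T] (w : T ⊗[A] GM F),
        (hG.choose (stg (A := A) T) (beta F hG T w)).down = betaSec F T w := fun T _ _ _ w =>
      congrArg ULift.down ((hG.choose (stg (A := A) T)).apply_symm_apply _)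
    refine (congrArg (EtAssoc.resMap F (stgMap g)) (h1 S _)).trans (Eq.trans ?_ (h1 S' _).symm)
    have hb : ∀ (T : Type u) [CommRing T] [Algebra A T] [Algebra.Etale A T] (t : T),
        betaSec F T (t ⊗ₜ[A] m) = betaRaw F T t m := fun T _ _ _ t => rfl
    rw [LinearMap.rTensor_tmul, AlgHom.toLinearMap_apply, hb, hb]
    have e1 : betaRaw F S r m = gsec (stg (A := A) S).hom F ((Scheme.ΓSpecIso (CommRingCat.of S)).inv r)
        (show Γ(F, ⊤) from m) := rfl
    have e2 : betaRaw F S' (g r) m = gsec (stg (A := A) S').hom F ((Scheme.ΓSpecIso (CommRingCat.of S')).inv (g r))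
        (show Γ(F, ⊤) from m) := rfl
    rw [e1, e2]
    refine (resMap_gsec F (stgMap g) _ _).trans ?_
    exact congrArg (fun p => gsec (stg (A := A) S').hom F p (show Γ(F, ⊤) from m))
      (appLE_stgMap g r le_top)

variable {Y : Scheme.{u}} (i : Y ⟶ Spec (CommRingCat.of A))

/-- Functions on an open of a scheme over the ring. -/
def K (_i : Y ⟶ Spec (CommRingCat.of A)) (V : Y.Opens) : Type u := Γ(Y, V)

noncomputable instance (V : Y.Opens) : CommRing (K i V) := inferInstanceAs (CommRing Γ(Y, V))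

/-- The structure map. -/
noncomputable def kalg (V : Y.Opens) : A →+* K i V :=
  ((Scheme.ΓSpecIso (CommRingCat.of A)).inv ≫ i.appLE ⊤ V le_top).hom

noncomputable instance (V : Y.Opens) : Algebra A (K i V) := (kalg i V).toAlgebra

/-- The restriction. -/
noncomputable def resK {V V' : Y.Opens} (h : V' ≤ V) : K i V →ₐ[A] K i V' where
  toRingHom := (Y.presheaf.map (homOfLE h).op).hom
  commutes' a := ConcreteCategory.congr_hom
    (i.appLE_map (U := ⊤) (V := V) le_top (homOfLE h).op) ((Scheme.ΓSpecIso (CommRingCat.of A)).inv a)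

theorem toSpec_base (V : Y.Opens) :
    V.toSpecΓ ≫ Spec.map (CommRingCat.ofHom (algebraMap A (K i V))) = V.ι ≫ i := by
  show V.toSpecΓ ≫ Spec.map ((Scheme.ΓSpecIso (CommRingCat.of A)).inv ≫ i.appLE ⊤ V le_top) = _
  rw [Spec.map_comp, Scheme.Opens.toSpecΓ_SpecMap_appLE_assoc, Scheme.Opens.toSpecΓ_top, Category.assoc,
    Scheme.Hom.resLE_comp_ι_assoc, ← Scheme.isoSpec_Spec_inv, Scheme.toSpecΓ_isoSpec_inv, Category.comp_id]

/-- The point of a stage on the open. -/
noncomputable def ell (V : Y.Opens) (t : Pt A (K i V)) : (V : Scheme.{u}) ⟶ (stg (A := A) t.S).left :=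
  V.toSpecΓ ≫ Spec.map (CommRingCat.ofHom (t.pt.toRingHom : t.S →+* K i V))

theorem ell_w (V : Y.Opens) (t : Pt A (K i V)) :
    ell i V t ≫ (stg (A := A) t.S).hom = ((EtZar.zarToEt Y).obj V).hom ≫ i := by
  show (V.toSpecΓ ≫ Spec.map _) ≫ Spec.map _ = V.ι ≫ i
  rw [Category.assoc, ← Spec.map_comp, ← toSpec_base i V]
  exact congrArg (fun r => V.toSpecΓ ≫ Spec.map r) (CommRingCat.hom_ext t.pt.comp_algebraMap)

/-- A stage element as a section of the inverse image. -/
noncomputable def phiT (V : Y.Opens) (t : Pt A (K i V)) :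
    t.S ⊗[A] GM F →+ EtCoh.sect ((EtCoh.pull i).obj G) ((EtZar.zarToEt Y).obj V) :=
  (resA G i ((EtZar.zarToEt Y).obj V) (stg (A := A) t.S) (ell i V t) (ell_w i V t)).comp (beta F hG t.S)

theorem resA_congr (V : Y.Etale) (W : (Spec (CommRingCat.of A)).Etale) {g g' : V.left ⟶ W.left} (e : g = g')
    (w : g ≫ W.hom = V.hom ≫ i) (w' : g' ≫ W.hom = V.hom ≫ i) (x : EtCoh.sect G W) :
    resA G i V W g w x = resA G i V W g' w' x := by
  subst e; rfl

theorem phiT_comp (V : Y.Opens) {t t' : Pt A (K i V)} (f : t ⟶ t') (z : t.S ⊗[A] GM F) :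
    phiT F hG i V t' (f.φ.toLinearMap.rTensor (GM F) z) = phiT F hG i V t z := by
  have hle : ell i V t' ≫ (stgMap f.φ).left = ell i V t :=
    (Category.assoc _ _ _).trans (congrArg (V.toSpecΓ ≫ ·) ((Spec.map_comp _ _).symm.trans
      (congrArg Spec.map (CommRingCat.hom_ext (congrArg AlgHom.toRingHom f.comp)))))
  have w' : (ell i V t' ≫ (stgMap f.φ).left) ≫ (stg (A := A) t.S).hom = ((EtZar.zarToEt Y).obj V).hom ≫ i :=
    (congrArg (fun q => q ≫ (stg (A := A) t.S).hom) hle).trans (ell_w i V t)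
  exact (congrArg (resA G i ((EtZar.zarToEt Y).obj V) (stg (A := A) t'.S) (ell i V t') (ell_w i V t'))
    (map_beta F hG f.φ z).symm).trans
      ((resA_map G i ((EtZar.zarToEt Y).obj V) (stgMap f.φ) (ell i V t') (ell_w i V t') w'
          (beta F hG t.S z)).trans
        (resA_congr i ((EtZar.zarToEt Y).obj V) (stg (A := A) t.S) hle w' (ell_w i V t) (beta F hG t.S z)))

/-- The values of the colimit map on pure tensors. -/
noncomputable def phiFun (V : Y.Opens) (x : H A (K i V)) (m : GM F) :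
    EtCoh.sect ((EtCoh.pull i).obj G) ((EtZar.zarToEt Y).obj V) :=
  phiT F hG i V (H.exists_rep x).choose ((H.exists_rep x).choose_spec.choose ⊗ₜ[A] m)

theorem phiFun_incl (V : Y.Opens) (t : Pt A (K i V)) (s : t.S) (m : GM F) :
    phiFun F hG i V (H.incl t s) m = phiT F hG i V t (s ⊗ₜ[A] m) := by
  obtain ⟨k, f, g, hk⟩ := (H.incl_eq_iff _ _).1 (H.exists_rep (H.incl t s)).choose_spec.choose_spec
  refine (phiT_comp F hG i V f _).symm.trans (Eq.trans ?_ (phiT_comp F hG i V g _))
  rw [LinearMap.rTensor_tmul, LinearMap.rTensor_tmul, AlgHom.toLinearMap_apply, AlgHom.toLinearMap_apply, hk]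

/-- The map from the henselization. -/
noncomputable def Phi (V : Y.Opens) :
    H A (K i V) ⊗[A] GM F →+ EtCoh.sect ((EtCoh.pull i).obj G) ((EtZar.zarToEt Y).obj V) :=
  TensorProduct.liftAddHom
    (AddMonoidHom.mk' (fun x => AddMonoidHom.mk' (fun m => phiFun F hG i V x m) fun m m' => by
        obtain ⟨t, s, rfl⟩ := H.exists_rep x
        simp only [phiFun_incl, tmul_add, map_add])
      fun x y => AddMonoidHom.ext fun m => by
        obtain ⟨t, a, b, rfl, rfl⟩ := H.exists_rep_two x y
        show phiFun F hG i V (H.incl t a + H.incl t b) m = _ + _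
        rw [← map_add (H.incl t), phiFun_incl, add_tmul, map_add]
        exact (congrArg₂ (· + ·) (phiFun_incl F hG i V t a m) (phiFun_incl F hG i V t b m)).symm)
    fun a x m => by
      obtain ⟨t, s, rfl⟩ := H.exists_rep x
      show phiFun F hG i V (a • H.incl t s) m = phiFun F hG i V (H.incl t s) (a • m)
      rw [← map_smul (H.incl t), phiFun_incl, phiFun_incl, smul_tmul]

theorem Phi_incl (V : Y.Opens) (t : Pt A (K i V)) (z : t.S ⊗[A] GM F) :
    Phi F hG i V ((H.incl t).toLinearMap.rTensor (GM F) z) = phiT F hG i V t z := by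
  induction z with
  | zero => simp only [map_zero]
  | add x y hx hy => simp only [map_add, hx, hy]
  | tmul s m => exact phiFun_incl F hG i V t s m

/-- A stage restricted to a smaller open. -/
noncomputable def resPt {V V' : Y.Opens} (h : V' ≤ V) (t : Pt A (K i V)) : Pt A (K i V') :=
  ⟨t.n, t.I, t.etale, (resK i h).comp t.ptRaw⟩

/-- The restriction of henselizations. -/
noncomputable def mapH {V V' : Y.Opens} (h : V' ≤ V) : H A (K i V) →ₐ[A] H A (K i V') :=
  H.lift (fun t => (H.incl (resPt i h t) : t.S →ₐ[A] H A (K i V'))) fun t t' f => by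
    let f' : resPt i h t ⟶ resPt i h t' :=
      ⟨f.φ, (AlgHom.comp_assoc (resK i h) t'.ptRaw f.φ).trans (congrArg (resK i h).comp f.comp)⟩
    exact H.incl_comp f'

theorem proj_mapH {V V' : Y.Opens} (h : V' ≤ V) (x : H A (K i V)) :
    H.proj A (K i V') (mapH i h x) = resK i h (H.proj A (K i V) x) := by
  obtain ⟨t, s, rfl⟩ := H.exists_rep x
  rw [mapH, H.lift_incl, H.proj_incl]
  exact H.proj_incl (resPt i h t) s

theorem map_Phi {V V' : Y.Opens} (h : V' ≤ V) (z : H A (K i V) ⊗[A] GM F) :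
    ((EtCoh.pull i).obj G).obj.map ((EtZar.zarToEt Y).map (homOfLE h)).op (Phi F hG i V z) =
      Phi F hG i V' ((mapH i h).toLinearMap.rTensor (GM F) z) := by
  induction z with
  | zero => simp only [map_zero]
  | add x y hx hy => simp only [map_add, hx, hy]
  | tmul x m =>
    obtain ⟨t, s, rfl⟩ := H.exists_rep x
    rw [LinearMap.rTensor_tmul, AlgHom.toLinearMap_apply, mapH, H.lift_incl]
    refine (congrArg _ (phiFun_incl F hG i V t s m)).trans
      (Eq.trans ?_ (phiFun_incl F hG i V' (resPt i h t) s m).symm)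
    have hle : ((EtZar.zarToEt Y).map (homOfLE h)).left ≫ ell i V t = ell i V' (resPt i h t) := by
      show Y.homOfLE h ≫ V.toSpecΓ ≫ _ = V'.toSpecΓ ≫ _
      refine (Category.assoc _ _ _).symm.trans ?_
      refine (congrArg (· ≫ _) (Scheme.Opens.toSpecΓ_SpecMap_presheaf_map V' V h).symm).trans ?_
      refine (Category.assoc _ _ _).trans (congrArg (V'.toSpecΓ ≫ ·) ?_)
      exact (Spec.map_comp (CommRingCat.ofHom (t.pt.toRingHom : t.S →+* K i V)) (Y.presheaf.map (homOfLE h).op)).symm.trans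
        (congrArg Spec.map (CommRingCat.hom_ext (RingHom.ext fun _ => rfl)))
    refine (map_resA G i ((EtZar.zarToEt Y).map (homOfLE h)) (stg (A := A) t.S) (ell i V t) (ell_w i V t) ?_ _).trans
      (resA_congr i _ _ hle _ _ _)
    exact (congrArg (· ≫ _) hle).trans (ell_w i V' (resPt i h t))

theorem rTensor_eq_zero {R₁ R₂ R₃ : Type u} [CommRing R₁] [CommRing R₂] [CommRing R₃] [Algebra A R₁] [Algebra A R₂]
    [Algebra A R₃] (M : ModuleCat.{u} A) (g : R₁ →ₐ[A] R₂) (f : R₂ →ₐ[A] R₃) (h : R₁ →ₐ[A] R₃) (e : f.comp g = h)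
    (w : R₁ ⊗[A] M) (hw : g.toLinearMap.rTensor M w = 0) : h.toLinearMap.rTensor M w = 0 := by
  subst e
  show (f.toLinearMap.comp g.toLinearMap).rTensor M w = 0
  rw [LinearMap.rTensor_comp_apply, hw, map_zero]

variable (A) in
/-- The spectrum of the henselization over the base. -/
noncomputable def sigmaH (K' : Type u) [CommRing K'] [Algebra A K'] :
    Spec (CommRingCat.of (H A K')) ⟶ Spec (CommRingCat.of A) :=
  Spec.map (CommRingCat.ofHom (algebraMap A (H A K')))

/-- The projection to a stage. -/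
noncomputable def inclHom {K' : Type u} [CommRing K'] [Algebra A K'] (t : Pt A K') :
    Spec (CommRingCat.of (H A K')) ⟶ (stg (A := A) t.S).left :=
  Spec.map (CommRingCat.ofHom (H.incl t).toRingHom)

theorem inclHom_w {K' : Type u} [CommRing K'] [Algebra A K'] (t : Pt A K') :
    inclHom t ≫ (stg (A := A) t.S).hom = sigmaH A K' :=
  (Spec.map_comp _ _).symm.trans (congrArg Spec.map (CommRingCat.hom_ext (AlgHom.comp_algebraMap (H.incl t))))

/-- Every section over the henselization comes from a stage. -/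
theorem sect_henselization (G : EtCoh.Ab (Spec (CommRingCat.of A))) (K' : Type u) [CommRing K'] [Algebra A K'] :
    (∀ u, ∃ (t : Pt A K') (x : EtCoh.sect G (stg (A := A) t.S)),
      pt G (sigmaH A K') (stg (A := A) t.S) (inclHom t) (inclHom_w t) x = u) ∧
    (∀ (t : Pt A K') (x : EtCoh.sect G (stg (A := A) t.S)),
      pt G (sigmaH A K') (stg (A := A) t.S) (inclHom t) (inclHom_w t) x = 0 →
        ∃ (t' : Pt A K') (f : t ⟶ t'), G.obj.map (stgMap f.φ).op x = 0) := by
  obtain ⟨ι, _, _, _, D', hD'⟩ := IsFiltered.exists_directed (Pt A K')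
  let D : Pt A K' ⥤ CommRingCat.{u} := Pt.diagram A K'
  let hccF : IsColimit ((colimit.cocone D).whisker D') :=
    (Functor.Final.isColimitWhiskerEquiv D' _).symm (colimit.isColimit D)
  let Ys : ιᵒᵖ ⥤ Scheme.{u} := (D' ⋙ D).op ⋙ Scheme.Spec
  let cY : Cone Ys := Scheme.Spec.mapCone ((colimit.cocone D).whisker D').op
  let hc : IsLimit cY := isLimitOfPreserves Scheme.Spec hccF.op
  let τ : ∀ j : ι, EtLim45.St Ys j ⟶ Spec (CommRingCat.of A) := fun j => sHom (A := A) (D'.obj j).S
  have wt : ∀ k j (h : k ≤ j), EtLim45.tr Ys h ≫ τ k = τ j := fun k j h =>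
    (Spec.map_comp _ _).symm.trans (congrArg Spec.map (CommRingCat.hom_ext
      (AlgHom.comp_algebraMap (D'.map (homOfLE h)).φ)))
  have wp : ∀ j, EtLim45.pr cY j ≫ τ j = sigmaH A K' := fun j => inclHom_w (D'.obj j)
  have : ∀ a, IsAffine (Ys.obj a) := fun a => inferInstanceAs (IsAffine (Spec _))
  have eW : ∀ j, (stg (A := A) (D'.obj j).S).left = EtLim45.St Ys j := fun j => rfl
  obtain ⟨Hs, Hi⟩ := SectLimit.sect_limit G Ys cY hc τ (sigmaH A K') wt wp
    (fun j => stg (A := A) (D'.obj j).S) (fun j => eqToHom (eW j).symm) (fun j => Category.id_comp _)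
    (fun j => SectLimit.bijective_pt_of_eq G (stg (A := A) (D'.obj j).S) (eW j) (τ j) (Category.id_comp _))
    (fun h => stgMap (D'.map (homOfLE h)).φ) (fun h => (Category.comp_id _).trans (Category.id_comp _).symm)
    (fun j => inclHom (D'.obj j)) (fun j => Category.comp_id _) (fun j => inclHom_w (D'.obj j))
  refine ⟨fun u => ?_, fun t x hx => ?_⟩
  · obtain ⟨j, x, hx⟩ := Hs u
    exact ⟨D'.obj j, x, hx⟩
  · obtain ⟨kk⟩ := (hD'.out t).is_nonempty
    obtain ⟨j, f⟩ : Σ j : ι, (t ⟶ D'.obj j) := ⟨kk.right, kk.hom⟩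
    have hf : inclHom (D'.obj j) ≫ (stgMap f.φ).left = inclHom t :=
      (Spec.map_comp _ _).symm.trans (congrArg Spec.map (CommRingCat.hom_ext
        (congrArg AlgHom.toRingHom (H.incl_comp f))))
    obtain ⟨k, hjk, hk⟩ := Hi j (G.obj.map (stgMap f.φ).op x)
      ((pt_map _ (stgMap f.φ) (inclHom (D'.obj j)) (inclHom_w (D'.obj j))
        ((congrArg (· ≫ _) hf).trans (inclHom_w t)) x).trans ((pt_congr _ _ hf _ _ x).trans hx))
    refine ⟨D'.obj k, f ≫ D'.map (homOfLE hjk), ?_⟩
    have hcomp : stgMap (A := A) (f ≫ D'.map (homOfLE hjk)).φ = stgMap (D'.map (homOfLE hjk)).φ ≫ stgMap f.φ :=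
      MorphismProperty.Over.Hom.ext ((congrArg Spec.map (CommRingCat.hom_ext (RingHom.ext fun _ => rfl) :
        CommRingCat.ofHom (f ≫ D'.map (homOfLE hjk)).φ.toRingHom =
          CommRingCat.ofHom f.φ.toRingHom ≫ CommRingCat.ofHom (D'.map (homOfLE hjk)).φ.toRingHom)).trans
        (Spec.map_comp _ _))
    rw [hcomp]
    exact (EtLim45.gmap_comp G _ _ _).trans hk

/-- Every element of the tensor product comes from a stage. -/
theorem exists_stage (K' : Type u) [CommRing K'] [Algebra A K'] (M : ModuleCat.{u} A) (e : H A K' ⊗[A] M) :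
    ∃ (t : Pt A K') (z : t.S ⊗[A] M), (H.incl t).toLinearMap.rTensor M z = e := by
  induction e with
  | zero => exact ⟨H.base A K', 0, map_zero _⟩
  | tmul x m =>
    obtain ⟨t, s, rfl⟩ := H.exists_rep x
    exact ⟨t, s ⊗ₜ m, rfl⟩
  | add x y hx hy =>
    obtain ⟨t, z, rfl⟩ := hx
    obtain ⟨t', z', rfl⟩ := hy
    refine ⟨IsFiltered.max t t', (IsFiltered.leftToMax t t').φ.toLinearMap.rTensor M z +
      (IsFiltered.rightToMax t t').φ.toLinearMap.rTensor M z', ?_⟩
    rw [map_add, ← LinearMap.rTensor_comp_apply, ← LinearMap.rTensor_comp_apply]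
    exact congrArg₂ (· + ·)
      (congrArg (fun f => f.toLinearMap.rTensor M z) (H.incl_comp (IsFiltered.leftToMax t t')))
      (congrArg (fun f => f.toLinearMap.rTensor M z') (H.incl_comp (IsFiltered.rightToMax t t')))

/-- The open mapped to the spectrum of the henselization. -/
noncomputable def aHom (V : Y.Opens) : (V : Scheme.{u}) ⟶ Spec (CommRingCat.of (H A (K i V))) :=
  V.toSpecΓ ≫ Spec.map (CommRingCat.ofHom (H.proj A (K i V)).toRingHom)

theorem aHom_inclHom (V : Y.Opens) (t : Pt A (K i V)) : aHom i V ≫ inclHom t = ell i V t :=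
  (Category.assoc _ _ _).trans (congrArg (V.toSpecΓ ≫ ·) ((Spec.map_comp _ _).symm.trans
    (congrArg Spec.map (CommRingCat.hom_ext (RingHom.ext fun s => H.proj_incl t s)))))

theorem aHom_w (V : Y.Opens) : aHom i V ≫ sigmaH A (K i V) = ((EtZar.zarToEt Y).obj V).hom ≫ i := by
  show (V.toSpecΓ ≫ Spec.map _) ≫ Spec.map _ = V.ι ≫ i
  rw [Category.assoc, ← Spec.map_comp, ← toSpec_base i V]
  exact congrArg (fun r => V.toSpecΓ ≫ Spec.map r) (CommRingCat.hom_ext (H.proj A (K i V)).comp_algebraMap)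

theorem aHom_bijective {V : Y.Opens} (hV : IsAffineOpen V) (hsurj : Function.Surjective (H.proj A (K i V))) :
    Function.Bijective (pv G (aHom i V) (sigmaH A (K i V)) (aHom_w i V)) := by
  let pp : CommRingCat.of (H A (K i V)) ⟶ CommRingCat.of (K i V) :=
    CommRingCat.ofHom (H.proj A (K i V)).toRingHom
  have hiso : IsIso V.toSpecΓ := by rw [← hV.isoSpec_hom]; infer_instance
  have hk : IsClosedImmersion (Spec.map pp) := IsClosedImmersion.spec_of_surjective _ hsurj
  have : IsClosedImmersion (aHom i V) :=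
    MorphismProperty.comp_mem @IsClosedImmersion V.toSpecΓ (Spec.map pp) inferInstance hk
  have : HenselianRing (H A (K i V)) (RingHom.ker (H.proj A (K i V)).toRingHom) := H.henselianRing_ker hsurj
  exact pv_bijective G (aHom i V) (sigmaH A (K i V)) (aHom_w i V) fun F' =>
    Gabber51.bijective (aHom i V) (Gabber51.connFinite_of_henselian (aHom i V) (H A (K i V))
      (RingHom.ker (H.proj A (K i V)).toRingHom) (𝟙 (Spec (CommRingCat.of (H A (K i V))))) (by
        show Set.range (Spec.map pp ∘ V.toSpecΓ) =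
          PrimeSpectrum.zeroLocus (RingHom.ker (H.proj A (K i V)).toRingHom : Set _)
        rw [Set.range_comp]
        refine (congrArg (fun s => Spec.map pp '' s)
          (Set.range_eq_univ.2 V.toSpecΓ.homeomorph.surjective)).trans (Set.image_univ.trans ?_)
        exact range_comap_of_surjective _ _ hsurj)) F'

theorem toTop_stage (V : Y.Opens) (t : Pt A (K i V)) (x : EtCoh.sect G (stg (A := A) t.S)) :
    toTop G i ((EtZar.zarToEt Y).obj V) (resA G i _ _ (ell i V t) (ell_w i V t) x) =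
      pv G (aHom i V) (sigmaH A (K i V)) (aHom_w i V)
        (pt G (sigmaH A (K i V)) (stg (A := A) t.S) (inclHom t) (inclHom_w t) x) :=
  (toTop_resA G i _ _ _ _ x).trans
    ((pv_pt (aHom i V) (sigmaH A (K i V)) (aHom_w i V) (stg (A := A) t.S) (inclHom t) (inclHom_w t) x).trans
      (pt_congr _ _ (aHom_inclHom i V t) _ _ x)).symm

theorem phiT_apply (V : Y.Opens) (t : Pt A (K i V)) (z : t.S ⊗[A] GM F) :
    phiT F hG i V t z = resA G i ((EtZar.zarToEt Y).obj V) (stg (A := A) t.S) (ell i V t) (ell_w i V t)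
      (beta F hG t.S z) := rfl

/-- **Sections on affine opens.** -/
theorem Phi_bijective {V : Y.Opens} (hV : IsAffineOpen V)
    (hsurj : Function.Surjective (H.proj A (K i V))) : Function.Bijective (Phi F hG i V) := by
  obtain ⟨Hs, Hi⟩ := sect_henselization G (K i V)
  have hbij := aHom_bijective (G := G) i hV hsurj
  refine ⟨(injective_iff_map_eq_zero _).2 fun e he => ?_, fun y => ?_⟩
  · obtain ⟨t, z, rfl⟩ := exists_stage (K i V) (GM F) e
    replace he := (toTop_stage i V t _).symm.trans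
      ((congrArg (toTop G i _) ((Phi_incl F hG i V t z).symm.trans he)).trans (map_zero _))
    obtain ⟨t', f, hf⟩ := Hi t _ ((injective_iff_map_eq_zero _).1 hbij.1 _ he)
    rw [map_beta] at hf
    exact rTensor_eq_zero (GM F) f.φ (H.incl t') (H.incl t) (H.incl_comp f) z
      ((injective_iff_map_eq_zero _).1 (beta_bijective F hG t'.S).1 _ hf)
  · obtain ⟨u₀, hu⟩ := hbij.2 (toTop G i ((EtZar.zarToEt Y).obj V) y)
    obtain ⟨t, x, rfl⟩ := Hs u₀
    obtain ⟨w, rfl⟩ := (beta_bijective F hG t.S).2 x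
    refine ⟨(H.incl t).toLinearMap.rTensor (GM F) w, (toTop_bijective G i _).1 ?_⟩
    exact (congrArg (toTop G i _) ((Phi_incl F hG i V t w).trans (phiT_apply F hG i V t w))).trans
      ((toTop_stage i V t _).trans hu)

end Assoc

end Groth.Agent.Depth22.HensSections
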