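import Groth.Agent.Depth22.Supp
import Groth.Agent.EtCore45.ExtZeroOpen
import Mathlib.AlgebraicGeometry.IdealSheaf.Functorial

/-!
Sections with support of an injective sheaf form an injective sheaf.
-/

set_option autoImplicit false
set_option backward.isDefEq.respectTransparency.types false
universe u

open CategoryTheory CategoryTheory.Limits AlgebraicGeometry Opposite

namespace Groth.Agent.Depth22

variable {X U : Scheme.{u}} (j : U ⟶ X) [IsOpenImmersion j]

omit [IsOpenImmersion j] in
theorem pull_map_kernel_ι (F : EtCoh.Ab X) :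
    (EtCoh.pull j).map (kernel.ι (EtDual.unitApp j F)) = 0 := by
  have := (EtCoh.pull j).map_comp (kernel.ι (EtDual.unitApp j F)) (EtDual.unitApp j F)
  rw [kernel.condition, Functor.map_zero] at this
  have hm : Mono ((EtCoh.pull j).map (EtDual.unitApp j F)) :=
    mono_of_mono_fac ((EtCoh.pullPushAdj j).left_triangle_components F)
  exact hm.right_cancellation _ _ (this.symm.trans zero_comp.symm)

theorem exists_closed_complement :
    ∃ (Z : Scheme.{u}) (i : Z ⟶ X) (_ : IsClosedImmersion i), Set.range j = (Set.range i)ᶜ := by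
  refine ⟨_, (Scheme.IdealSheafData.vanishingIdeal
    ⟨(Set.range j.base)ᶜ, j.isOpenEmbedding.isOpen_range.isClosed_compl⟩).subschemeι, inferInstance, ?_⟩
  rw [Scheme.IdealSheafData.range_subschemeι, Scheme.IdealSheafData.coe_support_vanishingIdeal]
  exact (compl_compl _).symm

theorem injective_secSupp (I : EtCoh.Ab X) [Injective I] : Injective ((EtDual.secSupp j).obj I) := by
  obtain ⟨Z, i, hi, hU⟩ := exists_closed_complement j
  refine ⟨fun {A B} a f _ => ?_⟩
  obtain ⟨wA, hA⟩ := EtCore45.shortExact_open_closed i j hU A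
  obtain ⟨wB, hB⟩ := EtCore45.shortExact_open_closed i j hU B
  let ι := kernel.ι (EtDual.unitApp j I)
  have hι : (EtShriek.restrAlong j).map ι = 0 := by
    have h := (EtCore45.pullRestrIso j).hom.naturality ι
    rw [pull_map_kernel_ι, zero_comp] at h
    exact (cancel_epi ((EtCore45.pullRestrIso j).hom.app _)).1 (h.symm.trans comp_zero.symm)
  have key : ∀ (C : EtCoh.Ab X) (c : C ⟶ (EtDual.secSupp j).obj I),
      (EtShriek.extZeroAdj j).counit.app C ≫ c ≫ ι = 0 := by
    intro C c
    refine ((EtShriek.extZeroAdj j).homEquiv _ _).injective ?_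
    erw [Adjunction.homEquiv_unit, Adjunction.homEquiv_unit]
    rw [Functor.map_comp, Functor.map_zero, (EtShriek.extZeroAdj j).right_triangle_components_assoc,
      Functor.map_comp]
    exact ((congrArg ((EtShriek.restrAlong j).map c ≫ ·) hι).trans comp_zero).trans comp_zero.symm
  obtain ⟨a', ha'⟩ := CokernelCofork.IsColimit.desc' hA.gIsCokernel (a ≫ ι) (key A a)
  change (EtCoh.pullPushAdj i).unit.app A ≫ a' = a ≫ ι at ha'
  have hfl := Unr55.EtSh.preservesFiniteLimits_pull i
  have := preservesMono_push i
  let b' := Injective.factorThru a' ((EtCoh.push i).map ((EtCoh.pull i).map f))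
  let b := (EtCoh.pullPushAdj i).unit.app B ≫ b'
  have hb : b ≫ EtDual.unitApp j I = 0 := by
    have h1 : (EtShriek.restrAlong j).map b = 0 := by
      have h2 : (EtShriek.extZeroAdj j).counit.app B ≫ b = 0 :=
        (Category.assoc _ _ _).symm.trans ((congrArg (· ≫ b') wB).trans zero_comp)
      have h3 := congrArg ((EtShriek.extZeroAdj j).homEquiv _ _) h2
      erw [Adjunction.homEquiv_unit, Adjunction.homEquiv_unit] at h3
      rw [Functor.map_comp, Functor.map_zero, (EtShriek.extZeroAdj j).right_triangle_components_assoc,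
        comp_zero] at h3
      exact h3
    have h4 : (EtCoh.pull j).map b = 0 := by
      have h := (EtCore45.pullRestrIso j).hom.naturality b
      rw [h1, comp_zero] at h
      exact (cancel_mono ((EtCore45.pullRestrIso j).hom.app _)).1 (h.trans zero_comp.symm)
    have h := (EtCoh.pullPushAdj j).unit.naturality b
    refine h.trans ?_
    simp [h4]
  refine ⟨kernel.lift _ b hb, (cancel_mono ι).1 ?_⟩
  refine (Category.assoc _ _ _).trans ((congrArg (f ≫ ·) (kernel.lift_ι _ _ _)).trans ?_)
  refine Eq.trans ?_ ha'
  have h := (EtCoh.pullPushAdj i).unit.naturality f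
  refine (Category.assoc _ _ _).symm.trans ?_
  refine (congrArg (· ≫ b') h).trans ?_
  exact (Category.assoc _ _ _).trans (congrArg (_ ≫ ·) (Injective.comp_factorThru _ _))

end Groth.Agent.Depth22
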