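import Groth.Agent.Depth22.LimDepth
import Groth.Agent.Depth22.ShPresent
import Groth.Agent.EtLim45.Descent
import Groth.Agent.Unr55.Et.Unit
import Groth.Agent.Unr55.Et.StrictHens
import Groth.Agent.Henz21.Unique

/-!
Depth along a closed set is depth at its points.
-/

set_option autoImplicit false
set_option backward.isDefEq.respectTransparency.types false
universe u

open CategoryTheory CategoryTheory.Limits CategoryTheory.Abelian AlgebraicGeometry Opposite
open Groth.Agent.Unr55.EtSh Groth.Agent.EtCore45.MV Groth.Agent.EtLim45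

namespace Groth.Agent.Depth22

variable {X U : Scheme.{u}} (j : U ⟶ X) [IsOpenImmersion j]

/-- Vanishing of relative Ext in degree zero gives injectivity of restriction on that object. -/
theorem injective_counit_of_extRel (F : EtCoh.Ab X) (V : X.Etale) [Etale V.hom]
    (hV : Subsingleton (ExtRel (pullback.snd j V.hom) ((EtCoh.pull V.hom).obj F) 0)) :
    Function.Injective (F.obj.map ((EtCore45.compBcAdj j).counit.app V).op) := by
  have := Unr55.EtSh.preservesFiniteLimits_pull (pullback.snd j V.hom)
  rw [extRel_zero_iff] at hV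
  let d : (EtShriek.compEtale (pullback.snd j V.hom)).obj (EtCoh.top _) ⟶ EtCoh.top V.left :=
    (EtCore.topIsTerminal _).from _
  have hd := (map_compEtale_injective_iff F V.hom _ d).1 (hV d)
  let e : (EtShriek.compEtale V.hom).obj (EtCoh.top V.left) ≅ V :=
    MorphismProperty.Over.isoMk (Iso.refl _) (by
      change 𝟙 _ ≫ V.hom = 𝟙 _ ≫ V.hom
      rfl)
  let b : (EtShriek.compEtale V.hom).obj ((EtShriek.compEtale (pullback.snd j V.hom)).obj (EtCoh.top _)) ⟶
      (EtShriek.compEtale j).obj ((EtCoh.bc j).obj V) :=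
    MorphismProperty.Over.homMk
      (pullback.lift (pullback.snd j V.hom) (pullback.fst j V.hom) pullback.condition.symm)
      (by
        change pullback.lift _ _ _ ≫ pullback.snd V.hom j ≫ j = (𝟙 _ ≫ pullback.snd j V.hom) ≫ V.hom
        rw [Category.id_comp, pullback.lift_snd_assoc]
        exact pullback.condition) trivial
  have hb : b ≫ (EtCore45.compBcAdj j).counit.app V = (EtShriek.compEtale V.hom).map d ≫ e.hom := by
    apply MorphismProperty.Over.Hom.ext
    have hd' : d.left = pullback.snd j V.hom := by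
      have := MorphismProperty.Over.w d
      exact ((Category.comp_id _).symm.trans this).trans (Category.id_comp _)
    change pullback.lift _ _ _ ≫ pullback.fst V.hom j = d.left ≫ 𝟙 _
    exact (pullback.lift_fst _ _ _).trans (hd'.symm.trans (Category.comp_id _).symm)
  intro x y hxy
  have h1 := congrArg (F.obj.map b.op) hxy
  rw [map_map, map_map, hb, ← map_map, ← map_map] at h1
  exact (ConcreteCategory.bijective_of_isIso (F.obj.map e.hom.op)).1 (hd h1)

/-- Depth may be tested on affine etale schemes. -/
theorem depthGE_of_affine (n : ℕ) : ∀ {F : EtCoh.Ab X},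
    (∀ (X' : Scheme.{u}) [IsAffine X'] (g : X' ⟶ X) [Etale g], ∀ p : ℕ, p < n →
      Subsingleton (ExtRel (pullback.snd j g) ((EtCoh.pull g).obj F) p)) → EtDepth.DepthGE j F n := by
  induction n with
  | zero => exact fun _ => depthGE_zero j _
  | succ n ih =>
    intro F h
    have hm : Mono (EtDual.unitApp j F) := by
      rw [mono_unitApp_iff]
      intro V
      refine (injective_iff_map_eq_zero _).2 fun s hs => sect_eq_zero_of_local F s fun x => ?_
      obtain ⟨O, hO, hxO, -⟩ := exists_isAffineOpen_mem_and_subset (X := V.left) (x := x) (U := ⊤) trivial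
      refine ⟨_, openSubι V O, ⟨x, hxO⟩, rfl, ?_⟩
      have : IsAffine (openSub V O).left := hO
      have : Etale (openSub V O).hom := (openSub V O).prop
      refine (injective_iff_map_eq_zero _).1
        (injective_counit_of_extRel j F (openSub V O) (@h (openSub V O).left ‹_› (openSub V O).hom ‹_› 0 n.succ_pos)) _ ?_
      refine (map_map F _ _ _).trans
        ((congrArg (fun q => F.obj.map (Quiver.Hom.op q) s) ((EtCore45.compBcAdj j).counit.naturality (openSubι V O)).symm).trans ?_)
      refine (map_map F _ _ _).symm.trans ?_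
      exact (congrArg _ hs).trans (map_zero _)
    obtain ⟨S, hS, rfl, hI, h2, -⟩ := exists_shortExact j F hm
    refine (depthGE_succ_iff j hS h2 hm n).2 (ih fun X' _ g _ p hp => ?_)
    exact (extRel_succ_iff g _ hS ((mono_unitApp_iff_extRel j S.X₂).1 h2 X' g) p).2 (h X' g (p + 1) (by omega))

/-- Bijectivity of restriction is invariant under isomorphisms of sheaves. -/
theorem BI_of_iso {T T' : Scheme.{u}} (f : T' ⟶ T) [PreservesFiniteLimits (EtCoh.pull f)]
    {A B : EtCoh.Ab T} (α : A ⟶ B) [IsIso α] (n : ℕ) (h : BI n fun p => ⇑(EtCore.Hpull f B p)) :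
    BI n fun p => ⇑(EtCore.Hpull f A p) := by
  have e : ∀ p, (fun y : EtCoh.H T' ((EtCoh.pull f).obj A) p => y.comp (Ext.mk₀ ((EtCoh.pull f).map α)) (add_zero p)) ∘
      EtCore.Hpull f A p = EtCore.Hpull f B p ∘ fun y : EtCoh.H T A p => y.comp (Ext.mk₀ α) (add_zero p) :=
    fun p => funext fun x => (GalCoh84.Hpull_naturality f α p x).symm
  refine ⟨fun p hp => ?_, fun p hp => ?_⟩
  · refine (Function.Bijective.of_comp_iff' (bijective_comp_iso ((EtCoh.pull f).map α) p) _).1 ?_
    rw [e]
    exact (h.1 p hp).comp (bijective_comp_iso α p)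
  · refine Function.Injective.of_comp
      (f := fun y : EtCoh.H T' ((EtCoh.pull f).obj A) p => y.comp (Ext.mk₀ ((EtCoh.pull f).map α)) (add_zero p)) ?_
    rw [e]
    exact (h.2 p hp).comp (bijective_comp_iso α p).1

/-- Depth passes to the strict localizations. -/
theorem depthGE_pull_sh [QuasiCompact j] (y : X) (R : Type u) [CommRing R] [IsLocalRing R]
    [Algebra (X.presheaf.stalk y) R] [IsLocalHom (algebraMap (X.presheaf.stalk y) R)]
    [Hensel.IsStrictHenselization (X.presheaf.stalk y) R] (F : EtCoh.Ab X) (n : ℕ)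
    (hF : EtDepth.DepthGE j F n) :
    EtDepth.DepthGE (pullback.snd j (Hens2.specOf X y R)) ((EtCoh.pull (Hens2.specOf X y R)).obj F) n := by
  let σ := Hens2.specOf X y R
  obtain ⟨ι, hpre, hdir, hne, Xs, haff, t, hte, c, wt, wp, ⟨hlim⟩⟩ := exists_sh_presentation X y R
  have := haff
  refine depthGE_of_affine _ n fun T' _ g _ => ?_
  let P₀ : Pres σ :=
    { ι := ι, Xs := Xs, aff := fun a b h => inferInstance, qc := fun a => inferInstance,
      qs := fun a => inferInstance, t := t, wt := wt, π := c, wp := wp, lim := hlim }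
  have : ∀ (a b : ιᵒᵖ) (h : a ⟶ b), IsAffineHom (Xs.map h) := P₀.aff
  have : CompactSpace ↥(Scheme.Etale.mk g : (Spec (CommRingCat.of R)).Etale).left :=
    inferInstanceAs (CompactSpace ↥T')
  have : QuasiSeparatedSpace ↥(Scheme.Etale.mk g : (Spec (CommRingCat.of R)).Etale).left :=
    inferInstanceAs (QuasiSeparatedSpace ↥T')
  obtain ⟨A, -, ⟨hA₁, hA₂⟩, ⟨e⟩⟩ :=
    exists_stage_obj (c := Cone.mk _ c) hlim (Scheme.Etale.mk g) (Classical.arbitrary ι)
  let Q : A.obj.left ⟶ Xs.obj (op A.idx) := A.obj.hom
  have : Etale Q := A.obj.prop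
  have : CompactSpace ↥A.obj.left := hA₁
  have : QuasiSeparatedSpace ↥A.obj.left := hA₂
  have : QuasiCompact Q := @quasiCompact_of_compactSpace A.obj.left (Xs.obj (op A.idx)) _ hA₁ inferInstance
  have : QuasiSeparated Q := by
    have : QuasiSeparated (Q ≫ terminal.from _) := by
      rw [terminal.hom_ext (Q ≫ terminal.from _) (terminal.from A.obj.left)]
      exact (quasiSeparatedSpace_iff_quasiSeparated _).1 hA₂
    exact QuasiSeparated.of_comp Q (terminal.from _)
  let π₀ : Spec (CommRingCat.of R) ⟶ Xs.obj (op A.idx) := c.app (op A.idx)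
  let P₁ : Pres (pullback.fst Q π₀) := (P₀.above A.idx).bc (IsPullback.of_hasPullback Q π₀)
  let e' : T' ≅ pullback Q π₀ := ((Scheme.Etale.forget _ ⋙ Over.forget _).mapIso e).symm
  have he' : e'.hom ≫ pullback.snd Q π₀ = g := MorphismProperty.Over.w e.inv
  let P : Pres (g ≫ σ) := (P₁.comp (Q ≫ t A.idx)).ofIso e' (g ≫ σ) (by
    rw [← Category.assoc (pullback.fst Q π₀), pullback.condition, Category.assoc]
    rw [← Category.assoc, he']
    exact congrArg (g ≫ ·) (wp A.idx))
  have hP : ∀ k, Etale (P.t k) := fun k => by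
    change Etale (pullback.fst Q ((P₀.above A.idx).t k) ≫ Q ≫ t A.idx)
    have := hte A.idx
    have : Etale ((P₀.above A.idx).t k) := by
      have h1 : Etale (Xs.map (homOfLE k.2).op ≫ t A.idx) := (wt A.idx k.1 k.2).symm ▸ hte k.1
      exact MorphismProperty.of_postcomp @Etale (W' := @Etale) (Xs.map (homOfLE k.2).op) (t A.idx) (hte A.idx) h1
    have : Etale (pullback.fst Q ((P₀.above A.idx).t k)) := MorphismProperty.pullback_fst _ _ this
    infer_instance
  have := Unr55.EtSh.preservesFiniteLimits_pull (pullback.snd (pullback.snd j σ) g)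
  have sq : IsPullback (pullback.fst (pullback.snd j σ) g ≫ pullback.fst j σ) (pullback.snd (pullback.snd j σ) g)
      j (g ≫ σ) :=
    (IsPullback.of_hasPullback (pullback.snd j σ) g).paste_horiz (IsPullback.of_hasPullback j σ)
  exact (hpull_iff (pullback.snd (pullback.snd j σ) g) _ n).1
    (BI_of_iso _ ((comp2 g σ rfl).hom.app F) n (bi_limit j P hP sq F n hF))

/-- Enlarging the open keeps depth. -/
theorem depthGE_of_larger {V : Scheme.{u}} (k : V ⟶ X) [IsOpenImmersion k]
    (hUV : Set.range j.base ⊆ Set.range k.base) (n : ℕ) :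
    ∀ {F : EtCoh.Ab X}, EtDepth.DepthGE j F n → EtDepth.DepthGE k F n := by
  induction n with
  | zero => exact fun _ => depthGE_zero k _
  | succ n ih =>
    intro F h
    have hm := mono_of_depthGE j h
    obtain ⟨S, hS, rfl, hI, h2, -⟩ := exists_shortExact j F hm
    exact (depthGE_succ_iff k hS (mono_unitApp_of_le j k hUV _ h2) (mono_unitApp_of_le j k hUV _ hm) n).2
      (ih ((depthGE_succ_iff j hS h2 hm n).1 h))

omit [IsOpenImmersion j] in
theorem specOf_closedPoint (y : X) (R : Type u) [CommRing R] [IsLocalRing R]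
    [Algebra (X.presheaf.stalk y) R] [IsLocalHom (algebraMap (X.presheaf.stalk y) R)] :
    Hens2.specOf X y R (IsLocalRing.closedPoint R) = y := by
  refine (congrArg (X.fromSpecStalk y) ?_).trans Scheme.fromSpecStalk_closedPoint
  exact IsLocalRing.comap_closedPoint (f := algebraMap (X.presheaf.stalk y) R)

/-- Depth along a closed set bounds the depth at its points. -/
theorem depthAtGE_of_depthGE [QuasiCompact j] (F : EtCoh.Ab X) (n : ℕ) (hF : EtDepth.DepthGE j F n)
    (y : X) (hy : y ∉ Set.range j.base) : EtDepth.DepthAtGE X F y n := by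
  intro R _ _ _ _ _
  refine depthGE_of_larger (pullback.snd j (Hens2.specOf X y R)) (FEt.puncturedSpec R).ι ?_ n
    (depthGE_pull_sh j y R F n hF)
  intro q hq
  rw [Scheme.Pullback.range_snd] at hq
  rw [Scheme.Opens.range_ι]
  intro hc
  refine hy ?_
  have h1 : Hens2.specOf X y R q ∈ Set.range j.base := hq
  rwa [show q = IsLocalRing.closedPoint R from hc, specOf_closedPoint] at h1

omit [IsOpenImmersion j] in
/-- A closed subset has points maximal under generization inside it. -/
theorem exists_maximal_point {V : Scheme.{u}} {S : Set V} (hS : IsClosed S) (hne : S.Nonempty) :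
    ∃ v ∈ S, ∀ w ∈ S, w ⤳ v → w = v := by
  obtain ⟨v₀, hv₀⟩ := hne
  have : QuasiSober S := hS.isClosedEmbedding_subtypeVal.quasiSober
  let C : Set S := irreducibleComponent (⟨v₀, hv₀⟩ : S)
  have hC : IsIrreducible C := isIrreducible_irreducibleComponent
  have hCc : IsClosed C := isClosed_irreducibleComponent
  obtain ⟨v, hv⟩ := QuasiSober.sober hC hCc
  refine ⟨v.1, v.2, fun w hw hwv => ?_⟩
  let w' : S := ⟨w, hw⟩
  have h1 : w' ⤳ v := (subtype_specializes_iff w' v).2 hwv
  have h2 : C ⊆ closure {w'} := hv ▸ closure_minimal (Set.singleton_subset_iff.2 h1.mem_closure) isClosed_closure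
  have h3 : closure {w'} ⊆ C :=
    (irreducibleComponent_mem_irreducibleComponents (⟨v₀, hv₀⟩ : S)).2
      isIrreducible_singleton.closure h2
  exact congrArg Subtype.val (IsGenericPoint.eq (S := C) (Set.Subset.antisymm h3 h2) hv)

omit [IsOpenImmersion j] in
/-- Geometric points lift through given points of etale schemes. -/
theorem exists_lift_through {W X : Scheme.{u}} (f : W ⟶ X) [Etale f] {Ω : Type u} [Field Ω] [IsSepClosed Ω]
    (v : W) (ξ : Spec (CommRingCat.of Ω) ⟶ X) (hξ : ξ default = f v) :
    ∃ l : Spec (CommRingCat.of Ω) ⟶ W, l ≫ f = ξ ∧ l default = v := by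
  obtain ⟨⟨x, a⟩, rfl⟩ := (Scheme.SpecToEquivOfField Ω X).symm.surjective ξ
  obtain rfl : x = f v := (X.fromSpecResidueField_apply x _).symm.trans hξ
  let : Algebra (X.residueField (f v)) (W.residueField v) := (f.residueFieldMap v).hom.toAlgebra
  let : Algebra (X.residueField (f v)) Ω := a.hom.toAlgebra
  have : Algebra.IsSeparable (X.residueField (f v)) (W.residueField v) := inferInstance
  let b : W.residueField v →ₐ[X.residueField (f v)] Ω := IsSepClosed.lift
  refine ⟨Spec.map (CommRingCat.ofHom b.toRingHom) ≫ W.fromSpecResidueField v, ?_,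
    W.fromSpecResidueField_apply v _⟩
  change _ = Spec.map a ≫ X.fromSpecResidueField (f v)
  rw [Category.assoc, ← f.SpecMap_residueFieldMap_fromSpecResidueField, ← Category.assoc, ← Spec.map_comp]
  congr 2
  ext z
  exact b.commutes z

omit [IsOpenImmersion j] in
/-- A point over `y` in a strict localization at `y` is the closed point. -/
theorem eq_closedPoint_of_specOf (y : X) (R : Type u) [CommRing R] [IsLocalRing R]
    [Algebra (X.presheaf.stalk y) R] [IsLocalHom (algebraMap (X.presheaf.stalk y) R)]
    [Hensel.IsStrictHenselization (X.presheaf.stalk y) R] (q : PrimeSpectrum R)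
    (hq : Hens2.specOf X y R q = y) : q = IsLocalRing.closedPoint R := by
  have h1 : PrimeSpectrum.comap (algebraMap (X.presheaf.stalk y) R) q =
      IsLocalRing.closedPoint (X.presheaf.stalk y) :=
    (X.fromSpecStalk y).isEmbedding.injective (hq.trans Scheme.fromSpecStalk_closedPoint.symm)
  have h2 : IsLocalRing.maximalIdeal R ≤ q.asIdeal := by
    rw [← Henz21.strictHenselization_map_maximalIdeal (R := X.presheaf.stalk y) (S := R), Ideal.map_le_iff_le_comap]
    exact le_of_eq (congrArg PrimeSpectrum.asIdeal h1).symm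
  exact PrimeSpectrum.ext ((IsLocalRing.maximalIdeal.isMaximal R).eq_of_le q.isPrime.ne_top h2).symm

/-- Injectivity of restriction is detected on the strict localizations. -/
theorem mono_of_depthAt (F : EtCoh.Ab X)
    (h : ∀ y : X, y ∉ Set.range j.base → EtDepth.DepthAtGE X F y 1) : Mono (EtDual.unitApp j F) := by
  rw [mono_unitApp_iff]
  intro V
  refine (injective_iff_map_eq_zero _).2 fun s hs => ?_
  have hV : Etale V.hom := V.prop
  by_contra hne
  obtain ⟨v, hv, hmax⟩ := exists_maximal_point (V := V.left) (S := ((vanishing F (U := V) s).carrier)ᶜ)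
    (vanishing F s).2.isClosed_compl (by
      by_contra he
      refine hne ?_
      have h1 := (map_eq_zero_iff_range_le F s (𝟙 V)).2 fun x _ => by
        by_contra hx
        exact he ⟨x, hx⟩
      simpa using h1)
  let y : X := V.hom v
  have hy : y ∉ Set.range j.base := fun hy => hv (range_le_vanishing F s _ hs (by
    change v ∈ Set.range (pullback.fst V.hom j)
    rw [Scheme.Pullback.range_fst]
    exact hy))
  let R := Henz21.StrictHenselization (X.presheaf.stalk y)
  have := (Henz21.StrictHenselization.isStrictHenselization (R := X.presheaf.stalk y)).henselian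
  have := (Henz21.StrictHenselization.isStrictHenselization (R := X.presheaf.stalk y)).isSepClosure.sep_closed
  let σ := Hens2.specOf X y R
  have hcl : ∀ a, closedPt R a = IsLocalRing.closedPoint R := fun a => by
    rw [Subsingleton.elim a (IsLocalRing.closedPoint (IsLocalRing.ResidueField R))]
    exact IsLocalRing.comap_closedPoint (f := IsLocalRing.residue R)
  obtain ⟨l, hl, hlv⟩ := exists_lift_through V.hom v (closedPt R ≫ σ)
    ((congrArg σ (hcl _)).trans (specOf_closedPoint y R))
  let t : Pt (closedPt R ≫ σ) V := mkPt _ l hl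
  have hgerm : germ (closedPt R ≫ σ) F t s ≠ 0 := fun h0 => by
    obtain ⟨W, g, t', h1, h2⟩ := (germ_eq_zero_iff _ F t s).1 h0
    refine hv ?_
    rw [← hlv, show l = hom _ t from rfl, ← h1]
    exact range_le_vanishing F s g h2 ⟨_, rfl⟩
  obtain ⟨g, hg⟩ := exists_section_top R (ptUp σ (closedPt R) t)
  let s' := unitSect σ F V s
  have hs'ne : ((EtCoh.pull σ).obj F).obj.map g.op s' ≠ 0 := fun h0 => by
    have h1 : germ (closedPt R) ((EtCoh.pull σ).obj F) (ptUp σ (closedPt R) t) s' = 0 := by
      rw [← hg, ← germ_map, h0, map_zero]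
    refine hgerm ((theta_bijective σ (closedPt R) F).1 ?_)
    rw [map_zero, theta_germ]
    exact h1
  refine hs'ne ((mono_unitApp_iff (FEt.puncturedSpec R).ι _).1
    (mono_of_depthGE _ (h y hy R)) (EtCoh.top _) ?_)
  rw [map_zero]
  refine (map_map _ _ _ _).trans ((map_eq_zero_iff_range_le _ s' _).2 ?_)
  have hZ : Set.range ((EtCoh.bc σ).map (openSubι V (vanishing F s))).left ⊆
      (vanishing ((EtCoh.pull σ).obj F) s' : Set ((EtCoh.bc σ).obj V).left) := by
    refine range_le_vanishing _ s' _ ?_
    rw [← unitSect_map, (map_eq_zero_iff_range_le F s _).2 (range_openSubι V _).le, map_zero]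
  rintro x ⟨z, rfl⟩
  refine hZ ((range_bc_map σ (openSubι V (vanishing F s)) _).2 ?_)
  let q : PrimeSpectrum R :=
    ((EtCore45.compBcAdj (FEt.puncturedSpec R).ι).counit.app (EtCoh.top _)).left z
  let w : V.left := (pullback.fst V.hom σ : ((EtCoh.bc σ).obj V).left ⟶ V.left) (g.left q)
  suffices hw : w ∈ vanishing F (U := V) s from ⟨⟨w, hw⟩, rfl⟩
  by_contra hwZ
  have hq : q ≠ IsLocalRing.closedPoint R := by
    have h1 : q ∈ Set.range (pullback.fst (𝟙 _) (FEt.puncturedSpec R).ι) := ⟨z, rfl⟩
    rw [Scheme.Pullback.range_fst, Scheme.Opens.range_ι] at h1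
    exact h1
  have hg1 : g.left ≫ pullback.snd V.hom σ = 𝟙 _ := MorphismProperty.Over.w g
  have hclosed : (g.left ≫ pullback.fst V.hom σ) (IsLocalRing.closedPoint R) = v := by
    have h1 : closedPt R ≫ g.left = pullback.lift l (closedPt R) hl := congrArg (hom _) hg
    have h2 : closedPt R ≫ g.left ≫ pullback.fst V.hom σ = l :=
      (Category.assoc _ _ _).symm.trans ((congrArg (· ≫ pullback.fst V.hom σ) h1).trans (pullback.lift_fst _ _ _))
    exact (congrArg _ (hcl default).symm).trans ((congrArg (fun r => r default) h2).trans hlv)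
  have hspec : w ⤳ v := by
    have h1 := (IsLocalRing.specializes_closedPoint q).map (g.left ≫ pullback.fst V.hom σ).continuous
    rw [hclosed] at h1
    exact h1
  have hwv : w = v := hmax w hwZ hspec
  refine hq (eq_closedPoint_of_specOf y R q ?_)
  have h2 : g.left ≫ pullback.fst V.hom σ ≫ V.hom = σ := by
    exact (congrArg (g.left ≫ ·) pullback.condition).trans
      ((Category.assoc _ _ _).symm.trans ((congrArg (· ≫ σ) hg1).trans (Category.id_comp σ)))
  exact ((congrArg (fun r => r q) h2).symm).trans (congrArg V.hom hwv)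

/-- Depth at all points of a closed set bounds the depth along it. -/
theorem depthGE_of_depthAtGE [QuasiCompact j] (n : ℕ) : ∀ {F : EtCoh.Ab X},
    (∀ y : X, y ∉ Set.range j.base → EtDepth.DepthAtGE X F y n) → EtDepth.DepthGE j F n := by
  induction n with
  | zero => exact fun _ => depthGE_zero j _
  | succ n ih =>
    intro F h
    have hm := mono_of_depthAt j F fun y hy R _ _ _ _ _ p hp => h y hy R p (by omega)
    obtain ⟨S, hS, rfl, hI, h2, -⟩ := exists_shortExact j F hm
    refine (depthGE_succ_iff j hS h2 hm n).2 (ih fun y hy R _ _ _ _ _ => ?_)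
    have := Unr55.EtSh.preservesFiniteLimits_pull (Hens2.specOf X y R)
    have hS' := hS.map_of_exact (EtCoh.pull (Hens2.specOf X y R))
    have hI' := depthAtGE_of_depthGE j S.X₂ n (fun p _ => isZero_locCoh_injective j S.X₂ h2 p) y hy R
    obtain ⟨Δ⟩ := RD97.nonempty_derivedLES (EtDual.secSupp (FEt.puncturedSpec R).ι)
    intro p hp
    exact (Δ.exact₃ _ hS' p (p + 1) rfl).isZero_X₂ ((hI' p hp).eq_of_src _ _)
      ((h y hy R (p + 1) (by omega)).eq_of_tgt _ _)

end Groth.Agent.Depth22
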