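import Groth.Agent.Depth22.LimDepth
import Groth.Agent.EtCore45.Acyclic
import Groth.Agent.Gabber51.Hyp

/-!
# Sections of inverse images over schemes mapping to an étale scheme
-/

set_option autoImplicit false
set_option backward.isDefEq.respectTransparency.types false
universe u

open CategoryTheory CategoryTheory.Limits CategoryTheory.Abelian AlgebraicGeometry Opposite

namespace Groth.Agent.Depth22.PullSections

open EtCore45 EtCore45.MV EtLim45

variable {X : Scheme.{u}} (G : EtCoh.Ab X)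

/-- A point of an étale scheme as a section of its base change. -/
noncomputable def topTo {P : Scheme.{u}} (b : P ⟶ X) (W : X.Etale) (g : P ⟶ W.left) (w : g ≫ W.hom = b) :
    EtCoh.top P ⟶ (EtCoh.bc b).obj W :=
  MorphismProperty.Over.homMk (pullback.lift g (𝟙 P) (w.trans (Category.id_comp b).symm)) (pullback.lift_snd _ _ _)

/-- Restriction of a section to a scheme mapping to an étale scheme. -/
noncomputable def pt {P : Scheme.{u}} (b : P ⟶ X) (W : X.Etale) (g : P ⟶ W.left) (w : g ≫ W.hom = b) :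
    EtCoh.sect G W →+ EtCoh.sect ((EtCoh.pull b).obj G) (EtCoh.top P) :=
  ((((EtCoh.pull b).obj G).obj.map (topTo b W g w).op).hom).comp (unitSect b G W)

/-- Pullback of global sections. -/
noncomputable def pv {P Q : Scheme.{u}} (a : Q ⟶ P) (b : P ⟶ X) {h : Q ⟶ X} (w : a ≫ b = h) :
    EtCoh.sect ((EtCoh.pull b).obj G) (EtCoh.top P) →+ EtCoh.sect ((EtCoh.pull h).obj G) (EtCoh.top Q) :=
  ((((comp2 a b w).hom.app G).hom.app (op (EtCoh.top Q))).hom.comp
    ((((EtCoh.pull a).obj ((EtCoh.pull b).obj G)).obj.map (EtCore.bcTopIso a).inv.op).hom)).comp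
      (unitSect a ((EtCoh.pull b).obj G) (EtCoh.top P))

variable {G}

theorem pt_congr {P : Scheme.{u}} (b : P ⟶ X) (W : X.Etale) {g g' : P ⟶ W.left} (e : g = g')
    (w : g ≫ W.hom = b) (w' : g' ≫ W.hom = b) (x : EtCoh.sect G W) : pt G b W g w x = pt G b W g' w' x := by
  subst e; rfl

theorem pt_map {P : Scheme.{u}} (b : P ⟶ X) {W W' : X.Etale} (k : W ⟶ W') (g : P ⟶ W.left)
    (w : g ≫ W.hom = b) (w' : (g ≫ k.left) ≫ W'.hom = b) (x : EtCoh.sect G W') :
    pt G b W g w (G.obj.map k.op x) = pt G b W' (g ≫ k.left) w' x := by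
  refine (congrArg (((EtCoh.pull b).obj G).obj.map (topTo b W g w).op) (unitSect_map b G k x)).trans ?_
  refine (gmap_comp _ _ _ _).symm.trans ?_
  refine congrArg (fun q : EtCoh.top P ⟶ (EtCoh.bc b).obj W' =>
    ((EtCoh.pull b).obj G).obj.map q.op (unitSect b G W' x)) (MorphismProperty.Over.Hom.ext (pullback.hom_ext ?_ ?_))
  · refine Eq.trans ?_ (pullback.lift_fst _ _ _).symm
    refine (Category.assoc _ _ _).trans ((congrArg (_ ≫ ·) (EtCoh.isPullback_bc_map b k).w).trans ?_)
    exact (Category.assoc _ _ _).symm.trans (congrArg (· ≫ k.left) (pullback.lift_fst _ _ _))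
  · exact (Over.w (topTo b W g w ≫ (EtCoh.bc b).map k).hom).trans (Over.w (topTo b W' (g ≫ k.left) w').hom).symm

theorem pv_pt {P Q : Scheme.{u}} (a : Q ⟶ P) (b : P ⟶ X) {h : Q ⟶ X} (w : a ≫ b = h) (W : X.Etale)
    (g : P ⟶ W.left) (wg : g ≫ W.hom = b) (x : EtCoh.sect G W) :
    pv G a b w (pt G b W g wg x) = pt G h W (a ≫ g) (by rw [Category.assoc, wg, w]) x := by
  refine (congrArg (fun z => ((comp2 a b w).hom.app G).hom.app _
    (((EtCoh.pull a).obj ((EtCoh.pull b).obj G)).obj.map (EtCore.bcTopIso a).inv.op z))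
      (unitSect_map a ((EtCoh.pull b).obj G) (topTo b W g wg) (unitSect b G W x))).trans ?_
  refine (congrArg (((comp2 a b w).hom.app G).hom.app _) (gmap_comp _ _ _ _).symm).trans ?_
  refine (app_map ((comp2 a b w).hom.app G) _ _).trans ?_
  refine (congrArg _ (comp2_unit a b w G W x)).trans ?_
  refine (gmap_comp _ _ _ _).symm.trans ?_
  refine congrArg (fun q : EtCoh.top Q ⟶ (EtCoh.bc h).obj W =>
    ((EtCoh.pull h).obj G).obj.map q.op (unitSect h G W x)) (MorphismProperty.Over.Hom.ext (pullback.hom_ext ?_ ?_))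
  · refine Eq.trans ?_ (pullback.lift_fst _ _ _).symm
    have hinv : (EtCore.bcTopIso a).inv.left ≫ pullback.fst (EtCoh.top P).hom a = a := by
      have hw : (EtCore.bcTopIso a).inv.left ≫ pullback.snd (EtCoh.top P).hom a = 𝟙 Q :=
        Over.w (EtCore.bcTopIso a).inv.hom
      have hc := pullback.condition (f := (EtCoh.top P).hom) (g := a)
      have hc' : pullback.fst (EtCoh.top P).hom a = pullback.snd (EtCoh.top P).hom a ≫ a :=
        (Category.comp_id _).symm.trans hc
      refine (congrArg ((EtCore.bcTopIso a).inv.left ≫ ·) hc').trans ?_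
      exact (Category.assoc _ _ _).symm.trans ((congrArg (· ≫ a) hw).trans (Category.id_comp a))
    refine (Category.assoc _ _ _).trans ((congrArg (_ ≫ ·) (pullback.lift_fst _ _ _)).trans ?_)
    refine (Category.assoc _ _ _).symm.trans ?_
    refine (congrArg (· ≫ pullback.fst W.hom b) ((Category.assoc _ _ _).trans
      ((congrArg (_ ≫ ·) (EtCoh.isPullback_bc_map a (topTo b W g wg)).w).trans
        ((Category.assoc _ _ _).symm.trans (congrArg (· ≫ (topTo b W g wg).left) hinv))))).trans ?_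
    exact (Category.assoc _ _ _).trans (congrArg (a ≫ ·) (pullback.lift_fst _ _ _))
  · exact (Over.w (((EtCore.bcTopIso a).inv ≫ (EtCoh.bc a).map (topTo b W g wg)) ≫ bc2 a b w W).hom).trans
      (Over.w (topTo h W (a ≫ g) (by rw [Category.assoc, wg, w])).hom).symm

variable (G)

/-- Sections over an étale scheme are global sections of the inverse image. -/
theorem bijective_diag (W : X.Etale) : Function.Bijective (pt G W.hom W (𝟙 W.left) (Category.id_comp _)) := by
  have : Etale W.hom := W.prop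
  let e := (pullRestrIso W.hom).app G
  have hunit := Adjunction.unit_leftAdjointUniq_hom_app (EtCoh.pullPushAdj W.hom) (restrPushAdj W.hom) G
  have hkey : ∀ x : EtCoh.sect G W, e.hom.hom.app (op (EtCoh.top W.left)) (pt G W.hom W (𝟙 W.left) (Category.id_comp _) x) =
      G.obj.map (topCompIso W).hom.op x := by
    intro x
    refine (app_map e.hom _ _).trans ?_
    have h1 : e.hom.hom.app (op ((EtCoh.bc W.hom).obj W)) (unitSect W.hom G W x) =
        G.obj.map ((compBcAdj W.hom).counit.app W).op x :=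
      ConcreteCategory.congr_hom (congrArg (fun k => k.hom.app (op W)) hunit) x
    refine (congrArg _ h1).trans ?_
    refine (gmap_comp G _ _ _).symm.trans ?_
    refine congrArg (fun q : (EtShriek.compEtale W.hom).obj (EtCoh.top W.left) ⟶ W => G.obj.map q.op x)
      (MorphismProperty.Over.Hom.ext ?_)
    exact pullback.lift_fst _ _ _
  have hb : Function.Bijective (fun x : EtCoh.sect G W => G.obj.map (topCompIso W).hom.op x) :=
    ConcreteCategory.bijective_of_isIso (G.obj.map (topCompIso W).hom.op)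
  have he : Function.Bijective (e.hom.hom.app (op (EtCoh.top W.left))) :=
    ConcreteCategory.bijective_of_isIso (((sheafToPresheaf _ _).mapIso e).app (op (EtCoh.top W.left))).hom
  refine (Function.Bijective.of_comp_iff' he (pt G W.hom W (𝟙 W.left) (Category.id_comp _))).1 ?_
  exact (congrArg Function.Bijective (funext hkey)).mpr hb

section Along

variable {Y : Scheme.{u}} (i : Y ⟶ X)

/-- The transition to the base change. -/
noncomputable def toBc (V : Y.Etale) (W : X.Etale) (g : V.left ⟶ W.left) (w : g ≫ W.hom = V.hom ≫ i) :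
    V ⟶ (EtCoh.bc i).obj W :=
  MorphismProperty.Over.homMk (pullback.lift g V.hom w) (pullback.lift_snd _ _ _)

/-- Restriction of a section along a morphism over the base. -/
noncomputable def resA (V : Y.Etale) (W : X.Etale) (g : V.left ⟶ W.left) (w : g ≫ W.hom = V.hom ≫ i) :
    EtCoh.sect G W →+ EtCoh.sect ((EtCoh.pull i).obj G) V :=
  ((((EtCoh.pull i).obj G).obj.map (toBc i V W g w).op).hom).comp (unitSect i G W)

/-- Sections of the inverse image as global sections of a composite inverse image. -/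
noncomputable def toTop (V : Y.Etale) :
    EtCoh.sect ((EtCoh.pull i).obj G) V →+
      EtCoh.sect ((EtCoh.pull (V.hom ≫ i)).obj G) (EtCoh.top V.left) :=
  (((comp2 V.hom i rfl).hom.app G).hom.app (op (EtCoh.top V.left))).hom.comp
    (pt ((EtCoh.pull i).obj G) V.hom V (𝟙 V.left) (Category.id_comp _))

theorem toTop_bijective (V : Y.Etale) : Function.Bijective (toTop G i V) :=
  (ConcreteCategory.bijective_of_isIso
    (((sheafToPresheaf _ _).mapIso ((comp2 V.hom i rfl).app G)).app (op (EtCoh.top V.left))).hom).comp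
    (bijective_diag _ V)

theorem toTop_resA (V : Y.Etale) (W : X.Etale) (g : V.left ⟶ W.left) (w : g ≫ W.hom = V.hom ≫ i)
    (x : EtCoh.sect G W) : toTop G i V (resA G i V W g w x) = pt G (V.hom ≫ i) W g w x := by
  refine (congrArg (fun z => ((comp2 V.hom i rfl).hom.app G).hom.app _
    (((EtCoh.pull V.hom).obj ((EtCoh.pull i).obj G)).obj.map (topTo V.hom V (𝟙 _) (Category.id_comp _)).op z))
      (unitSect_map V.hom ((EtCoh.pull i).obj G) (toBc i V W g w) (unitSect i G W x))).trans ?_
  refine (congrArg (((comp2 V.hom i rfl).hom.app G).hom.app _) (gmap_comp _ _ _ _).symm).trans ?_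
  refine (app_map ((comp2 V.hom i rfl).hom.app G) _ _).trans ?_
  refine (congrArg _ (comp2_unit V.hom i rfl G W x)).trans ?_
  refine (gmap_comp _ _ _ _).symm.trans ?_
  refine congrArg (fun q : EtCoh.top V.left ⟶ (EtCoh.bc (V.hom ≫ i)).obj W =>
    ((EtCoh.pull (V.hom ≫ i)).obj G).obj.map q.op (unitSect (V.hom ≫ i) G W x))
      (MorphismProperty.Over.Hom.ext (pullback.hom_ext ?_ ?_))
  · refine Eq.trans ?_ (pullback.lift_fst _ _ _).symm
    refine (Category.assoc _ _ _).trans ((congrArg (_ ≫ ·) (pullback.lift_fst _ _ _)).trans ?_)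
    refine (Category.assoc _ _ _).symm.trans ?_
    refine (congrArg (· ≫ pullback.fst W.hom i) ((Category.assoc _ _ _).trans
      ((congrArg (_ ≫ ·) (EtCoh.isPullback_bc_map V.hom (toBc i V W g w)).w).trans
        ((Category.assoc _ _ _).symm.trans (congrArg (· ≫ (toBc i V W g w).left) (pullback.lift_fst _ _ _)))))).trans ?_
    exact (Category.assoc _ _ _).trans ((Category.id_comp _).trans (pullback.lift_fst _ _ _))
  · exact (Over.w ((topTo V.hom V (𝟙 _) (Category.id_comp _) ≫ (EtCoh.bc V.hom).map (toBc i V W g w)) ≫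
      bc2 V.hom i rfl W).hom).trans (Over.w (topTo (V.hom ≫ i) W g w).hom).symm

theorem resA_map (V : Y.Etale) {W W' : X.Etale} (k : W ⟶ W') (g : V.left ⟶ W.left)
    (w : g ≫ W.hom = V.hom ≫ i) (w' : (g ≫ k.left) ≫ W'.hom = V.hom ≫ i) (x : EtCoh.sect G W') :
    resA G i V W g w (G.obj.map k.op x) = resA G i V W' (g ≫ k.left) w' x := by
  refine (toTop_bijective G i V).1 ?_
  rw [toTop_resA, toTop_resA]
  exact pt_map _ k g w w' x

theorem map_resA {V V' : Y.Etale} (j : V' ⟶ V) (W : X.Etale) (g : V.left ⟶ W.left)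
    (w : g ≫ W.hom = V.hom ≫ i) (w' : (j.left ≫ g) ≫ W.hom = V'.hom ≫ i) (x : EtCoh.sect G W) :
    ((EtCoh.pull i).obj G).obj.map j.op (resA G i V W g w x) = resA G i V' W (j.left ≫ g) w' x := by
  refine (gmap_comp _ _ _ _).symm.trans ?_
  refine congrArg (fun q : V' ⟶ (EtCoh.bc i).obj W => ((EtCoh.pull i).obj G).obj.map q.op (unitSect i G W x))
    (MorphismProperty.Over.Hom.ext (pullback.hom_ext ?_ ?_))
  · exact (Category.assoc _ _ _).trans ((congrArg (j.left ≫ ·) (pullback.lift_fst _ _ _)).trans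
      (pullback.lift_fst _ _ _).symm)
  · exact (Over.w (j ≫ toBc i V W g w).hom).trans (Over.w (toBc i V' W (j.left ≫ g) w').hom).symm

end Along

/-- Degree zero cohomology as global sections. -/
noncomputable def t0 {P : Scheme.{u}} (N : EtCoh.Ab P) (z : EtCoh.H P N 0) : EtCoh.sect N (EtCoh.top P) :=
  oneSect (Ext.addEquiv₀ z)

theorem t0_bijective {P : Scheme.{u}} (N : EtCoh.Ab P) : Function.Bijective (t0 N) :=
  (oneSect_bijective N).comp Ext.addEquiv₀.bijective

theorem t0_zero {P : Scheme.{u}} (N : EtCoh.Ab P) : t0 N 0 = 0 := by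
  have h := oneSect_add (0 : EtCoh.const P ℤ ⟶ N) 0
  rw [add_zero] at h
  rw [t0, map_zero]
  exact left_eq_add.1 h

theorem t0_mk₀ {P : Scheme.{u}} {N : EtCoh.Ab P} (φ : EtCoh.const P ℤ ⟶ N) : t0 N (Ext.mk₀ φ) = oneSect φ :=
  congrArg oneSect (Ext.addEquiv₀.apply_symm_apply φ)

theorem t0_HpullVia {P Q : Scheme.{u}} (a : Q ⟶ P) (b : P ⟶ X) {h : Q ⟶ X} (w : a ≫ b = h)
    [PreservesFiniteLimits (EtCoh.pull a)] (ξ : EtCoh.H P ((EtCoh.pull b).obj G) 0) :
    t0 _ (EtCore.HpullVia a b h w G 0 ξ) = pv G a b w (t0 _ ξ) := by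
  obtain ⟨φ, rfl⟩ := (Ext.mk₀_bijective _ _).2 ξ
  rw [HpullVia_apply, GalCoh84.Hpull_mk₀, Ext.mk₀_comp_mk₀, t0_mk₀, t0_mk₀, oneSect_comp, oneSect_pull]
  rfl

theorem pv_bijective {P Q : Scheme.{u}} (a : Q ⟶ P) (b : P ⟶ X) {h : Q ⟶ X} (w : a ≫ b = h)
    (h0 : ∀ F : EtCoh.Ab P,
      Function.Bijective (((EtCoh.pullPushAdj a).unit.app F).hom.app (op (EtCoh.top P)))) :
    Function.Bijective (pv G a b w) :=
  ((ConcreteCategory.bijective_of_isIso
    (((sheafToPresheaf _ _).mapIso ((comp2 a b w).app G)).app (op (EtCoh.top Q))).hom).comp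
      (ConcreteCategory.bijective_of_isIso
        (((EtCoh.pull a).obj ((EtCoh.pull b).obj G)).obj.map (EtCore.bcTopIso a).inv.op))).comp
    (h0 ((EtCoh.pull b).obj G))

end Groth.Agent.Depth22.PullSections
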