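import Groth.Agent.FEt83.DepthSections
import Groth.Agent.FEt83.FFGlue
import Groth.Agent.FEt83.GlueTwo
import Groth.Agent.FEt83.PureDescent
import Groth.Agent.FEt83.PurityExtend
import Groth.Agent.FEt83.RegularExtend
import Groth.Agent.Pure83.CompleteIntersection
import Groth.Agent.CAlg9.CIT.FlatCI
import Groth.Agent.CAlg9.CIT.Completion
import Groth.Agent.ParaF26.CompleteIntersection
import Groth.Agent.S0272
import Groth.Prelude.Def_EtDepth

/-!
Homotopic depth at least three along closed subsets with pure local rings.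
-/

set_option autoImplicit false
universe u

open CategoryTheory CategoryTheory.Limits AlgebraicGeometry IsLocalRing TopologicalSpace

namespace Groth.Agent.Depth22

/-- Regular of dimension at least two, or a complete intersection of dimension at least three. -/
def PureType (A : Type u) [CommRing A] [IsLocalRing A] : Prop :=
  (IsRegularLocalRing A ∧ (2 : WithBot ℕ∞) ≤ ringKrullDim A) ∨
    (Pi1.IsCompleteIntersection A ∧ (3 : WithBot ℕ∞) ≤ ringKrullDim A)

variable {A : Type u} [CommRing A] [IsLocalRing A] [IsNoetherianRing A]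

theorem purityHolds_of_pureType (h : PureType A) : FEt.PurityHolds A := by
  rcases h with ⟨hr, hd⟩ | ⟨hc, hd⟩
  · exact Pure83.purityHolds_of_regular A hd
  · exact S0272.result A hc hd

theorem two_le_depth_of_pureType (h : PureType A) : (2 : ℕ∞) ≤ LocCoh.depth A A := by
  rcases h with ⟨hr, hd⟩ | ⟨hc, hd⟩
  · exact Pure83.two_le_depth_regular hd
  · obtain ⟨B, _, _, rs, hm, hreg, ⟨e⟩⟩ := hc
    let C := AdicCompletion (maximalIdeal A) A
    have : IsNoetherianRing C := Cohen12.isNoetherianRing_completion (A := A)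
    have : IsLocalRing (B ⧸ Ideal.ofList rs) := e.isLocalRing
    have hC : LocCoh.IsCohenMacaulayLocalRing C :=
      CAlg1.cm_of_ringEquiv e.symm (Pure83.cm_quotient_ofList B rs hm hreg.toIsWeaklyRegular)
    have h3 := Pure83.three_le_depth C (by rw [CAlg1.ringKrullDim_adicCompletion A]; exact hd)
    have h5 := S5810.result A A
    exact le_trans (by norm_num) (h5 ▸ h3)

/-- Complete intersections and regular rings ascend along unramified flat local maps. -/
theorem pureType_of_flat {B : Type u} [CommRing B] [IsLocalRing B] [IsNoetherianRing B] [Algebra A B]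
    [Module.Flat A B] [IsLocalHom (algebraMap A B)]
    (hm : (maximalIdeal A).map (algebraMap A B) = maximalIdeal B) (h : PureType A) : PureType B := by
  have hdim : ringKrullDim B = ringKrullDim A := CAlg1.ringKrullDim_eq_of_flat hm
  rcases h with ⟨hr, hd⟩ | ⟨hc, hd⟩
  · refine Or.inl ⟨.of_spanFinrank_maximalIdeal_le B ?_, hdim.symm ▸ hd⟩
    rw [hdim, ← IsRegularLocalRing.spanFinrank_maximalIdeal (R := A)]
    have := Ideal.spanFinrank_map_le_of_fg (algebraMap A B) (IsNoetherian.noetherian (maximalIdeal A))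
    rw [hm] at this
    exact_mod_cast this
  · refine Or.inr ⟨?_, hdim.symm ▸ hd⟩
    have : IsLocalRing (B ⧸ maximalIdeal B) :=
      have := Ideal.Quotient.nontrivial_iff.mpr (IsLocalRing.maximalIdeal.isMaximal B).ne_top
      IsLocalRing.of_surjective' (Ideal.Quotient.mk _) Ideal.Quotient.mk_surjective
    have : IsRegularLocalRing (B ⧸ maximalIdeal B) := by
      let : Field (B ⧸ maximalIdeal B) := Ideal.Quotient.field _
      infer_instance
    exact CAlg9.CIT.ci_of_flat' (maximalIdeal B) hm.symm hc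
      (CAlg9.CIT.isCompleteIntersection_of_isRegularLocalRing _)

theorem pureType_stalk_of_etale {X Y : Scheme.{u}} [IsLocallyNoetherian X] (f : Y ⟶ X) [Etale f]
    (y : Y) (h : PureType (X.presheaf.stalk (f y))) : PureType (Y.presheaf.stalk y) := by
  have : IsLocallyNoetherian Y := LocallyOfFiniteType.isLocallyNoetherian f
  let _ : Algebra (X.presheaf.stalk (f y)) (Y.presheaf.stalk y) := (f.stalkMap y).hom.toAlgebra
  have : Module.Flat (X.presheaf.stalk (f y)) (Y.presheaf.stalk y) := Flat.stalkMap f y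
  have : Algebra.FormallyUnramified (X.presheaf.stalk (f y)) (Y.presheaf.stalk y) :=
    FormallyUnramified.stalkMap f y
  have : Algebra.EssFiniteType (X.presheaf.stalk (f y)) (Y.presheaf.stalk y) :=
    RingHom.essFiniteType_algebraMap.mp (LocallyOfFiniteType.stalkMap f y)
  have : IsLocalHom (algebraMap (X.presheaf.stalk (f y)) (Y.presheaf.stalk y)) :=
    inferInstanceAs (IsLocalHom (f.stalkMap y).hom)
  exact pureType_of_flat Algebra.FormallyUnramified.map_maximalIdeal h

set_option backward.isDefEq.respectTransparency.types false in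
/-- Restriction to an open with pure complement is an equivalence. -/
theorem isEquivalence_of_pureType {X : Scheme.{u}} [IsLocallyNoetherian X] (U : X.Opens)
    (h : ∀ x : X, x ∉ U → PureType (X.presheaf.stalk x)) : (FEt.restrict U.ι).IsEquivalence := by
  have hdepth : ∀ x : X, x ∉ U → (2 : ℕ∞) ≤ LocCoh.depth (X.presheaf.stalk x) (X.presheaf.stalk x) :=
    fun x hx => two_le_depth_of_pureType (h x hx)
  have hFF : ∀ W : X.Opens,
      (FEt.restrict (W.ι ⁻¹ᵁ U).ι).Full ∧ (FEt.restrict (W.ι ⁻¹ᵁ U).ι).Faithful := fun W => by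
    have : IsLocallyNoetherian (W : Scheme.{u}) := isLocallyNoetherian_of_isOpenImmersion W.ι
    refine FEt83.fullyFaithful_of_depth _ fun z hz => ?_
    exact (hdepth (W.ι z) hz).trans
      (CAlg1.depth_eq_of_ringEquiv (asIso (W.ι.stalkMap z)).commRingCatIsoToRingEquiv).le
  obtain ⟨_, _⟩ := FEt83.fullyFaithful_of_depth U hdepth
  have : (FEt.restrict U.ι).EssSurj := ⟨fun E => FEt83.FF.exists_extension_of_local hFF E fun Wa => by
    let W : X.Opens := Wa.1
    have hW : IsAffineOpen W := Wa.2
    have : IsLocallyNoetherian (W : Scheme.{u}) := isLocallyNoetherian_of_isOpenImmersion W.ι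
    have : IsAffine (W : Scheme.{u}) := hW
    have : IsNoetherian (W : Scheme.{u}) := {}
    have hes : (FEt.restrict (W.ι ⁻¹ᵁ U).ι).EssSurj :=
      FEt83.essSurj_of_purityHolds _ fun z hz =>
        purityHolds_of_pureType (pureType_stalk_of_etale W.ι z (h (W.ι z) hz))
    let r : ((W.ι ⁻¹ᵁ U : (W : Scheme.{u}).Opens) : Scheme.{u}) ⟶ U := W.ι ∣_ U
    obtain ⟨Z, ⟨eZ⟩⟩ : ∃ Z, Nonempty ((FEt.restrict (W.ι ⁻¹ᵁ U).ι).obj Z ≅ (FEt.restrict r).obj E) :=
      hes.mem_essImage _
    let O : X.Opens := U ⊔ W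
    let v := X.homOfLE (le_sup_left : U ≤ O)
    let w := X.homOfLE (le_sup_right : W ≤ O)
    have hcov : Set.range v ∪ Set.range w = Set.univ := by
      refine Set.eq_univ_of_forall fun z => ?_
      have hv : v ≫ O.ι = U.ι := X.homOfLE_ι _
      have hw : w ≫ O.ι = W.ι := X.homOfLE_ι _
      have hz : O.ι z ∈ (U ⊔ W : X.Opens) := z.2
      rcases hz with hz | hz
      · refine Or.inl ⟨⟨O.ι z, hz⟩, O.ι.isOpenEmbedding.injective ?_⟩
        exact congrArg (fun k => k ⟨O.ι z, hz⟩) hv
      · refine Or.inr ⟨⟨O.ι z, hz⟩, O.ι.isOpenEmbedding.injective ?_⟩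
        exact congrArg (fun k => k ⟨O.ι z, hz⟩) hw
    have hsq : pullback.fst v w ≫ U.ι = pullback.snd v w ≫ W.ι := by
      rw [← X.homOfLE_ι (le_sup_left : U ≤ O), ← X.homOfLE_ι (le_sup_right : W ≤ O), ← Category.assoc,
        ← Category.assoc, pullback.condition]
    have hr : Set.range (pullback.snd v w) ⊆ Set.range (W.ι ⁻¹ᵁ U).ι := by
      rw [Scheme.Opens.range_ι]
      rintro _ ⟨p, rfl⟩
      have := congrArg (fun k => k p) hsq
      show W.ι (pullback.snd v w p) ∈ U
      exact this ▸ (pullback.fst v w p).2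
    let l := IsOpenImmersion.lift (W.ι ⁻¹ᵁ U).ι (pullback.snd v w) hr
    have hl : l ≫ (W.ι ⁻¹ᵁ U).ι = pullback.snd v w := IsOpenImmersion.lift_fac _ _ _
    have hl' : l ≫ r = pullback.fst v w := by
      rw [← cancel_mono U.ι, Category.assoc, morphismRestrict_ι, reassoc_of% hl, hsq]
    obtain ⟨G, ⟨eG⟩⟩ := FEt83.exists_glue_two v w hcov E Z
      (FEt83.restrictEqIso hl'.symm E ≪≫ (FEt83.restrictCompIso l r).app E ≪≫
        (FEt.restrict l).mapIso eZ.symm ≪≫ ((FEt83.restrictCompIso l _).app Z).symm ≪≫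
        FEt83.restrictEqIso hl Z)
    exact ⟨O, le_sup_left, G, le_sup_right, ⟨eG⟩⟩⟩
  exact { }

set_option backward.isDefEq.respectTransparency.types false in
theorem htpDepthGE3_of_pureType {X U : Scheme.{u}} [IsLocallyNoetherian X] (j : U ⟶ X) [IsOpenImmersion j]
    (h : ∀ y : X, y ∉ Set.range j.base → PureType (X.presheaf.stalk y)) : EtDepth.HtpDepthGE3 j := by
  intro X' g _
  have : IsLocallyNoetherian X' := LocallyOfFiniteType.isLocallyNoetherian g
  let s := pullback.snd j g
  have := isEquivalence_of_pureType s.opensRange fun x hx => pureType_stalk_of_etale g x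
    (h (g x) fun hgx => hx ((Scheme.Pullback.range_snd (f := j) (g := g)).ge hgx))
  have := FEt83.isEquivalence_restrict_of_iso s.isoOpensRange
  exact Functor.isEquivalence_of_iso
    ((FEt83.restrictCompIso _ _).symm ≪≫ eqToIso (by rw [s.isoOpensRange_hom_ι]) :
      FEt.restrict s.opensRange.ι ⋙ FEt.restrict s.isoOpensRange.hom ≅ FEt.restrict s)

end Groth.Agent.Depth22
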