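import Groth.Agent.Unr55.QCoh.CechQCoh
import Groth.Agent.H98EtZar.Acyclic

/-!
# The étale sheaf of a quasi-coherent module is acyclic on affine étale schemes
-/

set_option autoImplicit false
set_option backward.isDefEq.respectTransparency.types false
universe u

open CategoryTheory CategoryTheory.Limits CategoryTheory.Abelian AlgebraicGeometry Opposite TensorProduct

namespace Groth.Agent.Depth22.QcohAcyclic

section Acyclic

variable {X : Scheme.{u}}

/-- Čech acyclicity on affines gives vanishing of cohomology on affine étale schemes. -/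
theorem subsingleton_H_of_good : ∀ (q : ℕ) (G : EtCoh.Ab X), Unr55.GaZar.Good X G →
    ∀ W : X.Etale, IsAffine W.left → Subsingleton (EtCoh.H W.left ((EtCoh.pull W.hom).obj G) (q + 1))
  | q, G, hG, W, hW => by
    refine subsingleton_of_forall_eq 0 fun x => ?_
    let S : ShortComplex (EtCoh.Ab X) :=
      ShortComplex.mk (Injective.ι G) (cokernel.π (Injective.ι G)) (cokernel.condition _)
    have hS : S.ShortExact :=
      { exact := ShortComplex.exact_of_g_is_cokernel _ (cokernelIsCokernel _) }
    have hI : Injective S.X₂ := inferInstanceAs (Injective (Injective.under G))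
    have hS' := EtCore45.shortExact_pull W hS
    obtain ⟨y, hy⟩ := Ext.covariant_sequence_exact₁ _ hS' x
      ((EtCore45.isAcyclicEt_injective S.X₂ W (q + 1) q.succ_pos).elim _ _) rfl
    cases q with
    | zero =>
      obtain ⟨c, rfl⟩ := (Ext.mk₀_bijective _ _).2 y
      obtain ⟨t, ht⟩ := Unr55.CechCartan.surjective_sections.{u + 1, u, u + 1} {U : X.Etale | IsAffine U.left}
        Unr55.EtaleAff.Cov (Unr55.GaZar.href X) hS hG W hW (EtCore45.secPull W S.X₃ c)
      obtain ⟨b, rfl⟩ := (EtCore45.secPull W S.X₂).surjective t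
      obtain rfl : b ≫ (EtCoh.pull W.hom).map S.g = c :=
        (EtCore45.secPull W S.X₃).injective ((EtCore45.secPull_comp W S.g b).trans ht)
      refine hy.symm.trans ?_
      refine (congrArg (Ext.comp · hS'.extClass rfl) (Ext.mk₀_comp_mk₀ b _).symm).trans ?_
      refine (Ext.comp_assoc_of_second_deg_zero _ _ _ _).trans ?_
      exact (congrArg (Ext.comp _ · rfl) hS'.comp_extClass).trans (Ext.comp_zero _ _ _ _ _)
    | succ q =>
      have h3 : Subsingleton (EtCoh.H W.left ((EtCoh.pull W.hom).obj S.X₃) (q + 1)) := subsingleton_H_of_good q S.X₃ (@Unr55.CechCartan.acyclic_cokernel.{u + 1, u, u + 1} _ _ _ _ _ _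
        {U : X.Etale | IsAffine U.left} Unr55.EtaleAff.Cov (Unr55.GaZar.hprod X) (Unr55.GaZar.href X) S hS hI hG) W hW
      obtain rfl : y = 0 := h3.elim y 0
      exact hy.symm.trans (Ext.zero_comp _ _ _ _ _)

/-- **Acyclicity of quasi-coherent sheaves on affine étale schemes.** -/
theorem goodA_assoc {F : X.Modules} [F.IsQuasicoherent] {G : EtCoh.Ab X} (hG : EtAssoc.IsAssoc F G) :
    H98EtZar.GoodA G := by
  intro W hW q hq
  obtain ⟨q, rfl⟩ := Nat.exists_eq_add_one.2 hq
  exact subsingleton_H_of_good q G (Unr55.QCohCech.good_assoc F G hG) W hW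

end Acyclic

end Groth.Agent.Depth22.QcohAcyclic
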