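import Groth.Agent.Depth22.Supp
import Groth.Agent.EtCore45.MVMain

/-!
Depth along a closed subset and bijectivity of restriction maps of etale cohomology.
-/

set_option autoImplicit false
set_option backward.isDefEq.respectTransparency.types false
universe u

open CategoryTheory CategoryTheory.Limits CategoryTheory.Abelian AlgebraicGeometry Opposite
open Groth.Agent.EtCore45 Groth.Agent.EtCore45.MV

namespace Groth.Agent.Depth22

section

variable {X U : Scheme.{u}} (j : U ⟶ X) [IsOpenImmersion j]

/-- The sequence `j_! ℤ → ℤ → C`. -/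
noncomputable def restrSeq : ShortComplex (EtCoh.Ab X) :=
  ShortComplex.mk (cMap j) (cokernel.π (cMap j)) (cokernel.condition _)

theorem restrSeq_shortExact : (restrSeq j).ShortExact :=
  have := mono_cMap j
  have : Mono (restrSeq j).f := this
  { exact := ShortComplex.exact_of_g_is_cokernel _ (cokernelIsCokernel (cMap j))
    epi_g := inferInstanceAs (Epi (cokernel.π (cMap j))) }

/-- The Ext groups measuring the failure of bijectivity of restriction. -/
abbrev ExtRel (A : EtCoh.Ab X) (p : ℕ) : Type (u + 1) := Ext (restrSeq j).X₃ A p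

variable [PreservesFiniteLimits (EtCoh.pull j)] (A : EtCoh.Ab X)

theorem hpull_eq_zero_iff {p : ℕ} (e : Ext (restrSeq j).X₂ A p) :
    EtCore.Hpull j A p e = 0 ↔ (Ext.mk₀ (restrSeq j).f).comp e (zero_add p) = 0 := by
  refine ⟨fun h => (tr_bijective j A p).1 ((tr_cMap j A p e).trans (h.trans (map_zero _).symm)), fun h => ?_⟩
  exact (tr_cMap j A p e).symm.trans ((congrArg (tr j A p) h).trans (map_zero _))

theorem hpull_iff (n : ℕ) :
    ((∀ p : ℕ, p + 1 < n → Function.Bijective (EtCore.Hpull j A p)) ∧
      (∀ p : ℕ, p + 1 = n → Function.Injective (EtCore.Hpull j A p))) ↔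
    ∀ p : ℕ, p < n → Subsingleton (ExtRel j A p) := by
  have hS := restrSeq_shortExact j
  constructor
  · rintro ⟨hb, hi⟩ p hp
    have inj : ∀ q, q < n → Function.Injective (EtCore.Hpull j A q) := fun q hq => by
      rcases Nat.lt_or_eq_of_le (Nat.succ_le_of_lt hq) with h | h
      exacts [(hb q h).1, hi q h]
    refine ⟨fun x y => sub_eq_zero.1 ?_⟩
    generalize x - y = z
    have hz : (Ext.mk₀ (restrSeq j).g).comp z (zero_add p) = 0 := by
      refine (injective_iff_map_eq_zero _).1 (inj p hp) _ ((hpull_eq_zero_iff j A _).2 ?_)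
      rw [Ext.mk₀_comp_mk₀_assoc, (restrSeq j).zero, Ext.mk₀_zero, Ext.zero_comp]
    rcases p with _ | p
    · obtain ⟨φ, rfl⟩ := (Ext.mk₀_bijective _ _).2 z
      have : Epi (restrSeq j).g := hS.epi_g
      rw [Ext.mk₀_comp_mk₀] at hz
      have h0 : (restrSeq j).g ≫ φ = 0 :=
        (Ext.mk₀_bijective _ _).1 (by rw [hz, Ext.mk₀_zero])
      rw [(cancel_epi (restrSeq j).g).1 (h0.trans comp_zero.symm), Ext.mk₀_zero]
    · obtain ⟨x₁, rfl⟩ := Ext.contravariant_sequence_exact₃ hS A z hz (n₀ := p) (by omega)
      obtain ⟨e, he⟩ := (hb p hp).2 (tr j A p x₁)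
      have : (Ext.mk₀ (restrSeq j).f).comp e (zero_add p) = x₁ :=
        (tr_bijective j A p).1 ((tr_cMap j A p e).trans he)
      rw [← this, hS.extClass_comp_assoc]
  · intro h
    have inj : ∀ q, q < n → Function.Injective (EtCore.Hpull j A q) := fun q hq => by
      refine (injective_iff_map_eq_zero _).2 fun e he => ?_
      obtain ⟨x₃, rfl⟩ := Ext.contravariant_sequence_exact₂ hS A e ((hpull_eq_zero_iff j A e).1 he)
      rw [(h q hq).elim x₃ 0, Ext.comp_zero]
      rfl
    refine ⟨fun p hp => ⟨inj p (by omega), fun y => ?_⟩, fun p hp => inj p (by omega)⟩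
    obtain ⟨x₁, rfl⟩ := (tr_bijective j A p).2 y
    obtain ⟨e, he⟩ := Ext.contravariant_sequence_exact₁ hS A x₁ (Nat.add_comm 1 p)
      ((h (p + 1) hp).elim _ _)
    exact ⟨e, (tr_cMap j A p e).symm.trans (congrArg (tr j A p) he)⟩

theorem extRel_zero_iff :
    Subsingleton (ExtRel j A 0) ↔ ∀ d : (EtShriek.compEtale j).obj (EtCoh.top U) ⟶ EtCoh.top X,
      Function.Injective (A.obj.map d.op) := by
  have hS := restrSeq_shortExact j
  have : Epi (restrSeq j).g := hS.epi_g
  constructor
  · intro h d a b hab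
    obtain ⟨φ, rfl⟩ := (oneSect_bijective A).2 a
    obtain ⟨ψ, rfl⟩ := (oneSect_bijective A).2 b
    have h0 : cMap j ≫ φ = cMap j ≫ ψ :=
      (S_bijective j A).1 ((S_cMap j φ d).trans (hab.trans (S_cMap j ψ d).symm))
    obtain ⟨χ, hχ⟩ : ∃ χ : (restrSeq j).X₃ ⟶ A, (restrSeq j).g ≫ χ = φ - ψ :=
      ⟨_, (CokernelCofork.IsColimit.desc' hS.gIsCokernel (φ - ψ)
        (show cMap j ≫ (φ - ψ) = 0 by rw [Preadditive.comp_sub, h0, sub_self])).2⟩
    have hχ' : χ = 0 := (Ext.mk₀_bijective _ _).1 (Subsingleton.elim (Ext.mk₀ χ) (Ext.mk₀ 0))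
    rw [hχ', comp_zero] at hχ
    exact congrArg oneSect (sub_eq_zero.1 hχ.symm)
  · intro h
    refine ⟨fun x y => sub_eq_zero.1 ?_⟩
    generalize x - y = z
    obtain ⟨χ, rfl⟩ := (Ext.mk₀_bijective _ _).2 z
    let d : (EtShriek.compEtale j).obj (EtCoh.top U) ⟶ EtCoh.top X := (EtCore.topIsTerminal X).from _
    have h1 : (restrSeq j).g ≫ χ = 0 := by
      refine (oneSect_bijective A).1 (h d ?_)
      refine ((S_cMap j ((restrSeq j).g ≫ χ) d).symm.trans ?_).trans
        (S_cMap j (0 : EtCoh.const X ℤ ⟶ A) d)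
      refine congrArg (S j) ?_
      exact ((reassoc_of% (restrSeq j).zero) χ).trans (zero_comp.trans comp_zero.symm)
    rw [(cancel_epi (restrSeq j).g).1 (h1.trans comp_zero.symm), Ext.mk₀_zero]

end

variable {X U : Scheme.{u}} (j : U ⟶ X) [IsOpenImmersion j] (F : EtCoh.Ab X)

theorem map_compEtale_injective_iff {X' : Scheme.{u}} (g : X' ⟶ X) [Etale g] {U' : Scheme.{u}}
    (j' : U' ⟶ X') [Etale j'] (d : (EtShriek.compEtale j').obj (EtCoh.top U') ⟶ EtCoh.top X') :
    Function.Injective (((EtCoh.pull g).obj F).obj.map d.op) ↔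
      Function.Injective (F.obj.map ((EtShriek.compEtale g).map d).op) := by
  have hc : ((pullSect g F _ : EtCoh.sect ((EtCoh.pull g).obj F) _ → _) ∘ ((EtCoh.pull g).obj F).obj.map d.op) =
      F.obj.map ((EtShriek.compEtale g).map d).op ∘ pullSect g F (EtCoh.top X') :=
    funext fun x => pullSect_map g d x
  constructor
  · intro h
    have := (pullSect_bijective g F _).1.comp h
    rw [hc] at this
    exact Function.Injective.of_comp_right this (pullSect_bijective g F (EtCoh.top X')).2
  · intro h
    have := h.comp (pullSect_bijective g F (EtCoh.top X')).1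
    rw [← hc] at this
    exact this.of_comp

theorem mono_unitApp_iff_extRel :
    Mono (EtDual.unitApp j F) ↔ ∀ (X' : Scheme.{u}) (g : X' ⟶ X) [Etale g],
      Subsingleton (ExtRel (pullback.snd j g) ((EtCoh.pull g).obj F) 0) := by
  rw [mono_unitApp_iff]
  constructor
  · intro h X' g _
    have := Unr55.EtSh.preservesFiniteLimits_pull (pullback.snd j g)
    refine (extRel_zero_iff _ _).2 fun d => (map_compEtale_injective_iff F g _ d).2 ?_
    let W := (EtShriek.compEtale g).obj (EtCoh.top X')
    have hW : W.hom = g := Category.id_comp g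
    let a : (EtShriek.compEtale j).obj ((EtCoh.bc j).obj W) ⟶
        (EtShriek.compEtale g).obj ((EtShriek.compEtale (pullback.snd j g)).obj (EtCoh.top _)) :=
      MorphismProperty.Over.homMk
        (pullback.lift (pullback.snd W.hom j) (pullback.fst W.hom j)
          (pullback.condition.symm.trans (congrArg (pullback.fst W.hom j ≫ ·) hW)))
        (by
          change pullback.lift _ _ _ ≫ (𝟙 _ ≫ pullback.snd j g) ≫ g = pullback.snd W.hom j ≫ j
          rw [Category.id_comp, pullback.lift_snd_assoc]
          exact ((congrArg (pullback.fst W.hom j ≫ ·) hW).symm.trans pullback.condition)) trivial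
    have ha : a ≫ (EtShriek.compEtale g).map d = (compBcAdj j).counit.app W := by
      apply MorphismProperty.Over.Hom.ext
      have hd : d.left = pullback.snd j g := by
        have := MorphismProperty.Over.w d
        exact ((Category.comp_id _).symm.trans this).trans (Category.id_comp _)
      change pullback.lift _ _ _ ≫ d.left = pullback.fst W.hom j
      exact (congrArg (_ ≫ ·) hd).trans (pullback.lift_snd _ _ _)
    have := h W
    rw [← ha, op_comp, Functor.map_comp] at this
    exact Function.Injective.of_comp this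
  · intro h V
    have := V.prop
    have : Etale V.hom := V.prop
    have hV := h V.left V.hom
    have := Unr55.EtSh.preservesFiniteLimits_pull (pullback.snd j V.hom)
    rw [extRel_zero_iff] at hV
    let d : (EtShriek.compEtale (pullback.snd j V.hom)).obj (EtCoh.top _) ⟶ EtCoh.top V.left :=
      (EtCore.topIsTerminal _).from _
    have hd := (map_compEtale_injective_iff F V.hom _ d).1 (hV d)
    let e : (EtShriek.compEtale V.hom).obj (EtCoh.top V.left) ≅ V :=
      MorphismProperty.Over.isoMk (Iso.refl _) (by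
        change 𝟙 _ ≫ V.hom = 𝟙 _ ≫ V.hom
        rfl)
    let b : (EtShriek.compEtale V.hom).obj ((EtShriek.compEtale (pullback.snd j V.hom)).obj (EtCoh.top _)) ⟶
        (EtShriek.compEtale j).obj ((EtCoh.bc j).obj V) :=
      MorphismProperty.Over.homMk
        (pullback.lift (pullback.snd j V.hom) (pullback.fst j V.hom) pullback.condition.symm)
        (by
          change pullback.lift _ _ _ ≫ pullback.snd V.hom j ≫ j = (𝟙 _ ≫ pullback.snd j V.hom) ≫ V.hom
          rw [Category.id_comp, pullback.lift_snd_assoc]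
          exact pullback.condition) trivial
    have hb : b ≫ (compBcAdj j).counit.app V = (EtShriek.compEtale V.hom).map d ≫ e.hom := by
      apply MorphismProperty.Over.Hom.ext
      have hd' : d.left = pullback.snd j V.hom := by
        have := MorphismProperty.Over.w d
        exact ((Category.comp_id _).symm.trans this).trans (Category.id_comp _)
      change pullback.lift _ _ _ ≫ pullback.fst V.hom j = d.left ≫ 𝟙 _
      exact (pullback.lift_fst _ _ _).trans (hd'.symm.trans (Category.comp_id _).symm)
    intro x y hxy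
    have h1 := congrArg (F.obj.map b.op) hxy
    rw [map_map, map_map, hb, ← map_map, ← map_map] at h1
    exact (ConcreteCategory.bijective_of_isIso (F.obj.map e.hom.op)).1 (hd h1)

/-- Vanishing of the relative Ext groups is dimension shifted. -/
theorem extRel_succ_iff {X' U' : Scheme.{u}} (g : X' ⟶ X) [Etale g] (j' : U' ⟶ X') [IsOpenImmersion j']
    {S : ShortComplex (EtCoh.Ab X)} (hS : S.ShortExact) [Injective S.X₂]
    (h : Subsingleton (ExtRel j' ((EtCoh.pull g).obj S.X₂) 0)) (p : ℕ) :
    Subsingleton (ExtRel j' ((EtCoh.pull g).obj S.X₃) p) ↔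
      Subsingleton (ExtRel j' ((EtCoh.pull g).obj S.X₁) (p + 1)) := by
  have hS' := hS.map_of_exact (EtCoh.pull g)
  have := injective_pull g S.X₂
  have hI : ∀ q, Subsingleton (ExtRel j' ((EtCoh.pull g).obj S.X₂) q) := fun q => by
    cases q with
    | zero => exact h
    | succ q => exact Ext.subsingleton_of_injective _ _ q
  let δ : ExtRel j' ((EtCoh.pull g).obj S.X₃) p →+ ExtRel j' ((EtCoh.pull g).obj S.X₁) (p + 1) :=
    hS'.extClass.postcomp (restrSeq j').X₃ rfl
  have hδ : Function.Bijective δ := by
    refine ⟨(injective_iff_map_eq_zero _).2 fun x hx => ?_, fun y => ?_⟩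
    · obtain ⟨x₂, rfl⟩ := Ext.covariant_sequence_exact₃ _ hS' x rfl hx
      have h0 : x₂ = 0 := @Subsingleton.elim _ (hI p) _ _
      rw [h0, Ext.zero_comp]
      rfl
    · exact Ext.covariant_sequence_exact₁ _ hS' y ((hI (p + 1)).elim _ _) rfl
  exact (Equiv.ofBijective _ hδ).subsingleton_congr

theorem depthGE_iff_extRel (n : ℕ) : EtDepth.DepthGE j F n ↔
    ∀ (X' : Scheme.{u}) (g : X' ⟶ X) [Etale g], ∀ p : ℕ, p < n →
      Subsingleton (ExtRel (pullback.snd j g) ((EtCoh.pull g).obj F) p) := by
  induction n generalizing F with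
  | zero => exact ⟨fun _ _ _ _ p hp => absurd hp (Nat.not_lt_zero p), fun _ => depthGE_zero j F⟩
  | succ n ih =>
    by_cases hm : Mono (EtDual.unitApp j F)
    · obtain ⟨S, hS, rfl, hI, h2, -⟩ := exists_shortExact j F hm
      have h20 := (mono_unitApp_iff_extRel j S.X₂).1 h2
      rw [depthGE_succ_iff j hS h2 hm n, ih]
      refine ⟨fun H X' g _ p hp => ?_, fun H X' g _ p hp => ?_⟩
      · rcases p with _ | p
        · exact (mono_unitApp_iff_extRel j S.X₁).1 hm X' g
        · exact (extRel_succ_iff g _ hS (h20 X' g) p).1 (H X' g p (by omega))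
      · exact (extRel_succ_iff g _ hS (h20 X' g) p).2 (H X' g (p + 1) (by omega))
    · refine ⟨fun h => absurd (mono_of_depthGE j h) hm, fun h => absurd ?_ hm⟩
      exact (mono_unitApp_iff_extRel j F).2 fun X' g _ => h X' g 0 n.succ_pos

end Groth.Agent.Depth22
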