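import Groth.Agent.Depth22.PullSections

/-!
# Sections of an inverse image over a limit of affine étale schemes
-/

set_option autoImplicit false
set_option backward.isDefEq.respectTransparency.types false
universe u

open CategoryTheory CategoryTheory.Limits CategoryTheory.Abelian AlgebraicGeometry Opposite

namespace Groth.Agent.Depth22.SectLimit

open PullSections EtCore45 EtLim45

variable {X : Scheme.{u}}

theorem bijective_pt_of_eq (G : EtCoh.Ab X) {P : Scheme.{u}} (W : X.Etale) (h : W.left = P) (τ : P ⟶ X)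
    (w : eqToHom h.symm ≫ W.hom = τ) : Function.Bijective (pt G τ W (eqToHom h.symm) w) := by
  subst h
  obtain rfl : W.hom = τ := (Category.id_comp _).symm.trans w
  exact bijective_diag G W

theorem via_pt (G : EtCoh.Ab X) {R P : Scheme.{u}} (π : P ⟶ R) (σ : P ⟶ X) (τ : R ⟶ X) (wp : π ≫ τ = σ)
    [PreservesFiniteLimits (EtCoh.pull π)] (W : X.Etale) (g : R ⟶ W.left) (wg : g ≫ W.hom = τ)
    (g' : P ⟶ W.left) (hg : π ≫ g = g') (wg' : g' ≫ W.hom = σ) (x : EtCoh.sect G W)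
    (z : EtCoh.H R ((EtCoh.pull τ).obj G) 0) (hz : t0 _ z = pt G τ W g wg x) :
    t0 _ (EtCore.HpullVia π τ σ wp G 0 z) = pt G σ W g' wg' x := by
  rw [t0_HpullVia, hz, pv_pt]
  exact pt_congr _ _ hg _ _ _

theorem via_zero (G : EtCoh.Ab X) {R P : Scheme.{u}} (π : P ⟶ R) (σ : P ⟶ X) (τ : R ⟶ X) (wp : π ≫ τ = σ)
    [PreservesFiniteLimits (EtCoh.pull π)] (W : X.Etale) (g : R ⟶ W.left) (wg : g ≫ W.hom = τ)
    (g' : P ⟶ W.left) (hg : π ≫ g = g') (wg' : g' ≫ W.hom = σ) (x : EtCoh.sect G W)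
    (z : EtCoh.H R ((EtCoh.pull τ).obj G) 0) (hz : t0 _ z = pt G τ W g wg x)
    (h0 : EtCore.Hpull π _ 0 z = 0) : pt G σ W g' wg' x = 0 := by
  refine (via_pt G π σ τ wp W g wg g' hg wg' x z hz).symm.trans ((congrArg (t0 _) ?_).trans (t0_zero _))
  rw [HpullVia_apply]
  exact (congrArg (fun z => Ext.comp z _ _) h0).trans (Ext.zero_comp _ _ _ _ _)

/-- **Sections over a limit.** -/
theorem sect_limit (G : EtCoh.Ab X) {ι : Type u} [PartialOrder ι] [IsDirectedOrder ι] [Nonempty ι]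
    (Ys : ιᵒᵖ ⥤ Scheme.{u}) [∀ a, IsAffine (Ys.obj a)] (cY : Cone Ys) (hc : IsLimit cY)
    (τ : ∀ j : ι, St Ys j ⟶ X) (σ : cY.pt ⟶ X)
    (wt : ∀ k j (h : k ≤ j), tr Ys h ≫ τ k = τ j) (wp : ∀ j, pr cY j ≫ τ j = σ)
    (W : ι → X.Etale) (e : ∀ j, St Ys j ⟶ (W j).left) (we : ∀ j, e j ≫ (W j).hom = τ j)
    (hb : ∀ j, Function.Bijective (pt G (τ j) (W j) (e j) (we j)))
    (m : ∀ {j k : ι}, j ≤ k → (W k ⟶ W j))
    (hm : ∀ {j k : ι} (h : j ≤ k), tr Ys h ≫ e j = e k ≫ (m h).left)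
    (g : ∀ j, cY.pt ⟶ (W j).left) (hg : ∀ j, pr cY j ≫ e j = g j) (wg : ∀ j, g j ≫ (W j).hom = σ) :
    (∀ u, ∃ (j : ι) (x : EtCoh.sect G (W j)), pt G σ (W j) (g j) (wg j) x = u) ∧
    (∀ (j : ι) (x : EtCoh.sect G (W j)), pt G σ (W j) (g j) (wg j) x = 0 →
      ∃ (k : ι) (h : j ≤ k), G.obj.map (m h).op x = 0) := by
  have hfl : ∀ {P Q : Scheme.{u}} (f : P ⟶ Q), PreservesFiniteLimits (EtCoh.pull f) := fun f =>
    Unr55.EtSh.preservesFiniteLimits_pull f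
  have : ∀ a, PreservesFiniteLimits (EtCoh.pull (cY.π.app a)) := fun a => hfl _
  have : ∀ ⦃a b : ιᵒᵖ⦄ (h : a ⟶ b), PreservesFiniteLimits (EtCoh.pull (Ys.map h)) := fun _ _ h => hfl _
  have : ∀ (a b : ιᵒᵖ) (h : a ⟶ b), IsAffineHom (Ys.map h) := fun a b h => isAffineHom_of_isAffine _
  have : ∀ a, CompactSpace ↥(Ys.obj a) := fun a => inferInstance
  have : ∀ a, QuasiSeparatedSpace ↥(Ys.obj a) := fun a => inferInstance
  obtain ⟨Hs, Hi⟩ := EtLim45.H_limit_gen Ys τ wt G cY σ wp hc 0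
  refine ⟨fun u => ?_, fun j x hx => ?_⟩
  · obtain ⟨ξ, hξ⟩ := (t0_bijective (P := cY.pt) ((EtCoh.pull σ).obj G)).2 u
    obtain ⟨j, z, hz'⟩ := Hs ξ
    obtain ⟨x, hx⟩ := (hb j).2 (t0 _ z)
    exact ⟨j, x, (via_pt G (pr cY j) σ (τ j) (wp j) (W j) (e j) (we j) (g j) (hg j) (wg j) x z
      hx.symm).symm.trans ((congrArg (t0 _) hz').trans hξ)⟩
  · obtain ⟨ξ, hξ⟩ := (t0_bijective (P := St Ys j) ((EtCoh.pull (τ j)).obj G)).2 (pt G (τ j) (W j) (e j) (we j) x)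
    have h0 : EtCore.HpullVia (pr cY j) (τ j) σ (wp j) G 0 ξ = 0 :=
      (t0_bijective _).1 (((via_pt G (pr cY j) σ (τ j) (wp j) (W j) (e j) (we j) (g j) (hg j) (wg j) x ξ hξ).trans
        hx).trans (t0_zero _).symm)
    obtain ⟨k, hjk, hk0⟩ := Hi j ξ h0
    refine ⟨k, hjk, (injective_iff_map_eq_zero _).1 (hb k).1 _ ?_⟩
    have wk : (m hjk).left ≫ (W j).hom = (W k).hom := Over.w (m hjk).hom
    refine (pt_map _ (m hjk) (e k) (we k) ?_ _).trans ?_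
    · exact (Category.assoc _ _ _).trans ((congrArg (e k ≫ ·) wk).trans (we k))
    exact via_zero G (tr Ys hjk) (τ k) (τ j) (wt j k hjk) (W j) (e j) (we j) _ (hm hjk) _ x ξ hξ hk0

end Groth.Agent.Depth22.SectLimit
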