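import Groth.Agent.Unr55.Et.GaZariski
import Mathlib.Topology.Sheaves.Functors

/-!
# Cohomology along a homeomorphism to the underlying space of a scheme
-/

set_option autoImplicit false
set_option backward.isDefEq.respectTransparency.types false
universe u

open CategoryTheory CategoryTheory.Limits AlgebraicGeometry Opposite TopologicalSpace

namespace Groth.Agent.Depth22.TransportH

open Unr55

variable {Z : TopCat.{u}} {Y : Scheme.{u}} (h : Z ≅ Y.toTopCat)

/-- Transport of sheaves, with values one universe up. -/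
noncomputable abbrev trans : Sheaf (Opens.grothendieckTopology Z) AddCommGrpCat.{u} ⥤ EtZar.Ab Y :=
  (TopCat.Sheaf.pushforward AddCommGrpCat.{u} h.hom) ⋙ GaZar.liftU Y

instance : (trans h).PreservesZeroMorphisms := ⟨fun _ _ => rfl⟩

theorem shortExact_trans (S : ShortComplex (Sheaf (Opens.grothendieckTopology Z) AddCommGrpCat.{u}))
    (hS : S.ShortExact) : (S.map (trans h)).ShortExact := by
  have : Epi S.g := hS.epi_g
  have hls : Sheaf.IsLocallySurjective S.g :=
    (Sheaf.isLocallySurjective_iff_epi' AddCommGrpCat.{u} S.g).2 ‹_›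
  have : Sheaf.IsLocallySurjective (S.map (trans h)).g := by
    constructor
    intro U s x hx
    have hx' : h.inv x ∈ (Opens.map h.hom).obj U := by
      show h.hom (h.inv x) ∈ U
      rw [Iso.inv_hom_id_apply]
      exact hx
    obtain ⟨W, iW, ⟨t, ht⟩, hW⟩ :=
      Presheaf.imageSieve_mem (Opens.grothendieckTopology Z) S.g.hom s.down (h.inv x) hx'
    have hle : (Opens.map h.hom).obj ((Opens.map h.inv).obj W) ≤ W := fun z hz => by
      have hz' : h.inv (h.hom z) ∈ W := hz
      rwa [Iso.hom_inv_id_apply] at hz'
    have hVU : (Opens.map h.inv).obj W ≤ U := fun y hy => by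
      have hy' : h.hom (h.inv y) ∈ U := iW.le hy
      rwa [Iso.inv_hom_id_apply] at hy'
    refine ⟨(Opens.map h.inv).obj W, homOfLE hVU, ⟨ULift.up (S.X₂.obj.map (homOfLE hle).op t), ?_⟩, hW⟩
    refine congrArg ULift.up ?_
    refine (ConcreteCategory.congr_hom (S.g.hom.naturality (homOfLE hle).op) t).trans ?_
    refine (congrArg (S.X₃.obj.map (homOfLE hle).op) ht).trans ?_
    exact (ConcreteCategory.congr_hom (S.X₃.obj.map_comp iW.op (homOfLE hle).op) s.down).symm
  exact ZarCmp.shortExact_of_sections _
    (fun V a b hab => ULift.ext _ _ ((CechFl.exists_sections_preimage S hS ((Opens.map h.hom).obj V) 0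
      (map_zero _)).1 (congrArg ULift.down hab)))
    (fun V y hy => by
      obtain ⟨x, hx⟩ := (CechFl.exists_sections_preimage S hS ((Opens.map h.hom).obj V) y.down
        (congrArg ULift.down hy)).2
      exact ⟨ULift.up x, congrArg ULift.up hx⟩)

theorem isFlasque_trans (J : Sheaf (Opens.grothendieckTopology Z) AddCommGrpCat.{u}) [Injective J] :
    TopCat.Sheaf.IsFlasque (X := Y.toTopCat) ((trans h).obj J) where
  epi {U V} i := by
    have := CechInjU.injective_presheaf.{u, u, u} J
    rw [AddCommGrpCat.epi_iff_surjective]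
    intro y
    obtain ⟨x, hx⟩ := ZarCmp.injective_map_surjective.{u, u, u} J.obj ((Opens.map h.hom).map i.unop) y.down
    exact ⟨ULift.up x, congrArg ULift.up hx⟩

/-- The whole space is the final open. -/
noncomputable def topTerminal : IsTerminal (⊤ : Opens Z) :=
  IsTerminal.ofUniqueHom (fun _ => homOfLE le_top) fun _ _ => Subsingleton.elim _ _

/-- **Invariance of cohomology.** -/
theorem H_equiv (M : Sheaf (Opens.grothendieckTopology Z) AddCommGrpCat.{u}) (p : ℕ) :
    Nonempty (Sheaf.H M p ≃+ EtZar.H ((trans h).obj M) p) :=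
  ExtCmp.compare (trans h) _ _ (fun _ => True) (fun S hS _ _ => shortExact_trans h S hS)
    (fun _ _ _ _ => trivial)
    (fun I hI n => ZarCmp.subsingleton_H_of_flasque Y _ (@isFlasque_trans _ _ h I hI) n)
    (fun G => ((ExtCmp.homTop topTerminal G).trans AddEquiv.ulift.symm).trans
      (ExtCmp.homTop (ZarCmp.topTerminal Y) ((trans h).obj G)).symm)
    (fun {G G'} g c => (ExtCmp.homTop (ZarCmp.topTerminal Y) ((trans h).obj G')).injective (by
      refine ((ExtCmp.homTop (ZarCmp.topTerminal Y) ((trans h).obj G')).apply_symm_apply _).trans ?_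
      refine Eq.trans ?_ (ExtCmp.homTop_comp (ZarCmp.topTerminal Y) ((trans h).map g) _).symm
      refine Eq.trans ?_ (congrArg (((trans h).map g).hom.app (op ⊤))
        ((ExtCmp.homTop (ZarCmp.topTerminal Y) ((trans h).obj G)).apply_symm_apply _)).symm
      rfl))
    p M trivial

end Groth.Agent.Depth22.TransportH
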