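import Groth.Agent.Depth22.HensSections
import Groth.Agent.Depth22.HensAway
import Groth.Agent.Depth22.HensQcoh
import Groth.Agent.Depth22.TransportH
import Groth.Agent.Hens22.SphTilde
import Groth.Agent.H98EtZar.Acyclic

/-!
# Vanishing of the cohomology of quasi-coherent sheaves on affine henselian spectra in characteristic `p`
-/

set_option autoImplicit false
set_option maxHeartbeats 400000
set_option backward.isDefEq.respectTransparency.types false
universe u

open CategoryTheory CategoryTheory.Limits AlgebraicGeometry Opposite TopologicalSpace TensorProduct HensSch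

namespace Groth.Agent.Depth22.SphCoh

open Henz21 HensSections Hens22

variable {A : Type u} [CommRing A] (I : Ideal A)

/-- The closed subscheme. -/
noncomputable abbrev iI : Spec (CommRingCat.of (A ⧸ I)) ⟶ Spec (CommRingCat.of A) :=
  Spec.map (CommRingCat.ofHom (Ideal.Quotient.mk I))

/-- The distinguished opens of the closed subscheme. -/
noncomputable def U (f : A) : (Spec (CommRingCat.of (A ⧸ I))).Opens :=
  (iI I) ⁻¹ᵁ (PrimeSpectrum.basicOpen f : (Spec (CommRingCat.of A)).Opens)

theorem U_eq (f : A) : U I f = PrimeSpectrum.basicOpen (Ideal.Quotient.mk I f) :=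
  PrimeSpectrum.comap_basicOpen _ f

theorem isAffineOpen_U (f : A) : IsAffineOpen (U I f) := by
  have h := (isAffineOpen_top (Spec (CommRingCat.of (A ⧸ I)))).basicOpen
    ((Scheme.ΓSpecIso (CommRingCat.of (A ⧸ I))).inv (Ideal.Quotient.mk I f))
  rw [basicOpen_eq_of_affine] at h
  rw [U_eq]
  exact h

theorem isBasis_U : Opens.IsBasis (Set.range (U I)) := by
  rw [show U I = fun f => PrimeSpectrum.basicOpen (Ideal.Quotient.mk I f) from funext (U_eq I)]
  have : Set.range (fun f => PrimeSpectrum.basicOpen (Ideal.Quotient.mk I f)) =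
      Set.range (PrimeSpectrum.basicOpen (R := A ⧸ I)) :=
    (Ideal.Quotient.mk_surjective (I := I)).range_comp (PrimeSpectrum.basicOpen (R := A ⧸ I))
  exact (congrArg Opens.IsBasis this).mpr PrimeSpectrum.isBasis_basic_opens

theorem isQAway_U (f : A) : HensAway.IsQAway I f (K (iI I) (U I f)) := by
  refine @HensAway.isQAway_basicOpen A _ I f (U I f) (U_eq I f) (kalg (iI I) (U I f)).toAlgebra
    fun a => ?_
  have h1 : (iI I).appTop ((Scheme.ΓSpecIso (CommRingCat.of A)).inv a) =
      (Scheme.ΓSpecIso (CommRingCat.of (A ⧸ I))).inv (Ideal.Quotient.mk I a) :=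
    (ConcreteCategory.congr_hom (Scheme.ΓSpecIso_inv_naturality (CommRingCat.ofHom (Ideal.Quotient.mk I))) a).symm
  exact congrArg ((Spec (CommRingCat.of (A ⧸ I))).presheaf.map (homOfLE le_top).op) h1

/-- The restriction between colimits of étale neighbourhoods. -/
noncomputable abbrev hRes {f g : A} (h : U I g ≤ U I f) : H A (K (iI I) (U I f)) →ₐ[A] H A (K (iI I) (U I g)) :=
  mapH (iI I) h

variable {I} {Z : LocallyRingedSpace.{u}} {π : Z ⟶ specLRS A} (hX : IsSph A I Z π)

include hX in
theorem exists_homeo : ∃ h : Z.toTopCat ≅ (Spec (CommRingCat.of (A ⧸ I))).toTopCat,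
    ∀ z, iI I (h.hom z) = π.base z := by
  have hi : Topology.IsClosedEmbedding (PrimeSpectrum.comap (Ideal.Quotient.mk I)) :=
    PrimeSpectrum.isClosedEmbedding_comap_of_surjective _ _ Ideal.Quotient.mk_surjective
  have hr : Set.range π.base = Set.range (PrimeSpectrum.comap (Ideal.Quotient.mk I)) := by
    rw [hX.2.1, range_comap_of_surjective _ _ Ideal.Quotient.mk_surjective, Ideal.mk_ker]
  let e : Z.toTopCat ≃ₜ PrimeSpectrum (A ⧸ I) :=
    hX.1.toHomeomorph.trans ((Homeomorph.setCongr hr).trans hi.isEmbedding.toHomeomorph.symm)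
  refine ⟨TopCat.isoOfHomeo e, fun z => ?_⟩
  exact congrArg Subtype.val
    (hi.isEmbedding.toHomeomorph.apply_symm_apply ((Homeomorph.setCongr hr) (hX.1.toHomeomorph z)))

variable (h : Z.toTopCat ≅ (Spec (CommRingCat.of (A ⧸ I))).toTopCat) (hz : ∀ z, iI I (h.hom z) = π.base z)

include hz in
theorem map_U (f : A) : (Opens.map h.hom).obj (U I f) = dOpen π f :=
  Opens.ext (Set.ext fun z => by
    show iI I (h.hom z) ∈ PrimeSpectrum.basicOpen f ↔ π.base z ∈ PrimeSpectrum.basicOpen f
    rw [hz])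

/-- The preimage of a distinguished open. -/
noncomputable abbrev W (f : A) : Opens Z.toTopCat := (Opens.map h.hom).obj (U I f)

/-- Its ring of functions. -/
def OW (_π : Z ⟶ specLRS A) (f : A) : Type u := Z.presheaf.obj (op (W (I := I) h f))

noncomputable instance (f : A) : CommRing (OW h π f) :=
  inferInstanceAs (CommRing (Z.presheaf.obj (op (W (I := I) h f))))

noncomputable instance (f : A) : Algebra A (OW h π f) := Sph.secAlg π (W (I := I) h f)

omit hX in
theorem away_of_eq (f : A) (V : Opens Z.toTopCat) (hV : V = dOpen π f)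
    (hd : IsHensAway A I f (Z.presheaf.obj (op (dOpen π f))) (secMap π (PrimeSpectrum.basicOpen f))) :
    letI := Sph.secAlg π V
    IsHensAway A I f (Z.presheaf.obj (op V)) (algebraMap A _) := by
  subst hV
  exact hd

include hX hz in
theorem away_OW (f : A) : IsHensAway A I f (OW h π f) (algebraMap A (OW h π f)) :=
  away_of_eq f _ (map_U h hz f) (hX.2.2 f)

/-- Restriction of functions. -/
noncomputable def oRes {f g : A} (hle : U I g ≤ U I f) : OW h π f →ₐ[A] OW h π g :=
  Sph.rho π (show W (I := I) h g ≤ W (I := I) h f from fun _ hx => hle hx)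

include hX hz in
theorem exists_theta : ∃ θ : ∀ f, H A (K (iI I) (U I f)) →ₐ[A] OW h π f, (∀ f, Function.Bijective (θ f)) ∧
    ∀ {f g : A} (hle : U I g ≤ U I f), (oRes h hle).comp (θ f) = (θ g).comp (hRes I hle) := by
  have hH : ∀ f, IsHensAway A I f (H A (K (iI I) (U I f))) (algebraMap A _) := fun f => (isQAway_U I f).isHensAway
  have hO := away_OW hX h hz
  let θ : ∀ f, H A (K (iI I) (U I f)) →ₐ[A] OW h π f := fun f =>
    (Glue.away_exists_hom (hH f) (I.map (algebraMap A (OW h π f))) (hC := (hO f).2.1) le_rfl (hO f).1).some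
  let ψ : ∀ f, OW h π f →ₐ[A] H A (K (iI I) (U I f)) := fun f =>
    (Glue.away_exists_hom (hO f) (I.map (algebraMap A (H A (K (iI I) (U I f))))) (hC := (hH f).2.1) le_rfl
      (hH f).1).some
  refine ⟨θ, fun f => ?_, fun {f g} hle => Glue.away_hom_ext (hH f) (I.map (algebraMap A (OW h π g)))
    (hC := (hO g).2.1) le_rfl _ _⟩
  have h1 : (ψ f).comp (θ f) = AlgHom.id A _ := Glue.away_hom_ext (hH f) _ (hC := (hH f).2.1) le_rfl _ _
  have h2 : (θ f).comp (ψ f) = AlgHom.id A _ := Glue.away_hom_ext (hO f) _ (hC := (hO f).2.1) le_rfl _ _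
  exact Function.bijective_iff_has_inverse.2 ⟨ψ f, DFunLike.congr_fun h1, DFunLike.congr_fun h2⟩

theorem rT_comp {R₁ R₂ R₂' R₃ : Type u} [CommRing R₁] [CommRing R₂] [CommRing R₂'] [CommRing R₃] [Algebra A R₁]
    [Algebra A R₂] [Algebra A R₂'] [Algebra A R₃] (M : ModuleCat.{u} A) (f : R₂ →ₐ[A] R₃) (g : R₁ →ₐ[A] R₂)
    (f' : R₂' →ₐ[A] R₃) (g' : R₁ →ₐ[A] R₂') (e : f.comp g = f'.comp g') (x : R₁ ⊗[A] M) :
    f.toLinearMap.rTensor M (g.toLinearMap.rTensor M x) = f'.toLinearMap.rTensor M (g'.toLinearMap.rTensor M x) := by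
  induction x with
  | zero => simp only [map_zero]
  | add x y hx hy => simp only [map_add, hx, hy]
  | tmul r m =>
    simp only [LinearMap.rTensor_tmul, AlgHom.toLinearMap_apply]
    exact congrArg (fun t => t ⊗ₜ[A] m) (DFunLike.congr_fun e r)

section Module

variable (M : ModuleCat.{u} A)

/-- Sections of `M~`. -/
noncomputable def lamW (π : Z ⟶ specLRS A) (f : A) :
    OW h π f ⊗[A] M →+ (ModSite.toAb (sphTilde π M)).obj.obj (op (W (I := I) h f)) :=
  Sph.Lam π (W (I := I) h f)

include hX hz in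
theorem lamW_bijective [HenselianRing A I] (f : A) : Function.Bijective (lamW h M π f) := by
  have key : ∀ (V : Opens Z.toTopCat), V = dOpen π f →
      letI := Sph.secAlg π V
      Function.Bijective (Sph.Lam (M := M) π V) := by
    rintro V rfl
    exact ⟨(injective_iff_map_eq_zero _).2 (Sph.Lam_injective hX f), Sph.Lam_surjective hX f⟩
  exact key _ (map_U h hz f)

theorem map_lamW {f g : A} (hle : U I g ≤ U I f) (hle' : W (I := I) h g ≤ W (I := I) h f) (e : OW h π f ⊗[A] M) :
    (ModSite.toAb (sphTilde π M)).obj.map (homOfLE hle').op (lamW h M π f e) =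
      lamW h M π g ((oRes h hle).toLinearMap.rTensor M e) :=
  Sph.Lam_res π hle' e

end Module

section Main

variable (F : (Spec (CommRingCat.of A)).Modules) [F.IsQuasicoherent] {G : EtCoh.Ab (Spec (CommRingCat.of A))}
  (hG : EtAssoc.IsAssoc F G)

/-- The transport of `M~`. -/
noncomputable abbrev src (π : Z ⟶ specLRS A) : EtZar.Ab (Spec (CommRingCat.of (A ⧸ I))) :=
  (TransportH.trans h).obj (ModSite.toAb (sphTilde π (GM F)))

/-- The restriction of the étale inverse image. -/
noncomputable abbrev tgt (I : Ideal A) (G : EtCoh.Ab (Spec (CommRingCat.of A))) :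
    EtZar.Ab (Spec (CommRingCat.of (A ⧸ I))) :=
  (EtZar.resZar (Spec (CommRingCat.of (A ⧸ I)))).obj ((EtCoh.pull (iI I)).obj G)

include hX hz hG in
theorem nonempty_iso [HenselianRing A I] : Nonempty (src h F π ≅ tgt I G) := by
  obtain ⟨θ, hθ, hθn⟩ := exists_theta hX h hz
  -- the inverse of the identification with the tensor product
  let L : ∀ f, H A (K (iI I) (U I f)) ⊗[A] GM F →+
      (ModSite.toAb (sphTilde π (GM F))).obj.obj (op (W (I := I) h f)) :=
    fun f => (lamW h (GM F) π f).comp ((θ f).toLinearMap.rTensor (GM F)).toAddMonoidHom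
  have hL : ∀ f, Function.Bijective (L f) := fun f => (lamW_bijective hX h hz (GM F) f).comp
    (LinearEquiv.rTensor (GM F) (LinearEquiv.ofBijective (θ f).toLinearMap (hθ f))).bijective
  have hLn : ∀ {f g : A} (hle : U I g ≤ U I f) (hle' : W (I := I) h g ≤ W (I := I) h f)
      (x : H A (K (iI I) (U I f)) ⊗[A] GM F),
      (ModSite.toAb (sphTilde π (GM F))).obj.map (homOfLE hle').op (L f x) =
        L g ((hRes I hle).toLinearMap.rTensor (GM F) x) := by
    intro f g hle hle' x
    refine (map_lamW h (GM F) hle hle' _).trans (congrArg (lamW h (GM F) π g) ?_)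
    exact rT_comp (GM F) (oRes h hle) (θ f) (θ g) (hRes I hle) (hθn hle) x
  have hP : ∀ f, Function.Bijective (Phi F hG (iI I) (U I f)) := fun f =>
    Phi_bijective F hG (iI I) (isAffineOpen_U I f) (isQAway_U I f).proj_surjective
  let Le := fun f => AddEquiv.ofBijective (L f) (hL f)
  let a : ∀ f, (ModSite.toAb (sphTilde π (GM F))).obj.obj (op (W (I := I) h f)) →+
      EtCoh.sect ((EtCoh.pull (iI I)).obj G) ((EtZar.zarToEt _).obj (U I f)) :=
    fun f => (Phi F hG (iI I) (U I f)).comp (Le f).symm.toAddMonoidHom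
  have ha : ∀ {f g : A} (hle : U I g ≤ U I f) (hle' : W (I := I) h g ≤ W (I := I) h f) y,
      a g ((ModSite.toAb (sphTilde π (GM F))).obj.map (homOfLE hle').op y) =
        ((EtCoh.pull (iI I)).obj G).obj.map ((EtZar.zarToEt _).map (homOfLE hle)).op (a f y) := by
    intro f g hle hle' y
    obtain ⟨x, rfl⟩ := (Le f).surjective y
    show Phi F hG (iI I) (U I g) ((Le g).symm ((ModSite.toAb (sphTilde π (GM F))).obj.map _ (L f x))) =
      ((EtCoh.pull (iI I)).obj G).obj.map _ (Phi F hG (iI I) (U I f) ((Le f).symm (Le f x)))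
    rw [AddEquiv.symm_apply_apply, hLn hle hle' x, map_Phi F hG (iI I) hle x]
    exact congrArg (Phi F hG (iI I) (U I g)) ((Le g).symm_apply_apply _)
  let app : ∀ f, (src h F π).obj.obj (op (U I f)) ⟶ (tgt I G).obj.obj (op (U I f)) := fun f =>
    AddCommGrpCat.ofHom ((a f).comp AddEquiv.ulift.toAddMonoidHom)
  let α : (inducedFunctor (U I)).op ⋙ (src h F π).obj ⟶ (inducedFunctor (U I)).op ⋙ (tgt I G).obj :=
    { app := fun f => app f.unop
      naturality := fun f g k => ConcreteCategory.hom_ext _ _ fun y =>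
        ha (f := f.unop) (g := g.unop) k.unop.hom.le _ y.down }
  let φ : src h F π ⟶ tgt I G := ⟨TopCat.Sheaf.restrictHomEquivHom _ _ (isBasis_U I) α⟩
  have : IsIso φ := TopCat.Sheaf.isIso_iff_isIso_basis (isBasis_U I) fun f => by
    show IsIso ((TopCat.Sheaf.restrictHomEquivHom _ _ (isBasis_U I) α).app (op (U I f)))
    rw [TopCat.Sheaf.extend_hom_app]
    show IsIso (app f)
    rw [ConcreteCategory.isIso_iff_bijective]
    exact ((hP f).comp (Le f).symm.bijective).comp AddEquiv.ulift.bijective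
  exact ⟨asIso φ⟩

include hX in
/-- **Vanishing.** -/
theorem subsingleton_HC [HenselianRing A I] (p : ℕ) [Fact p.Prime] [CharP A p] (j : ℕ) (hj : 0 < j) :
    Subsingleton (ModSite.HC Z.sheaf ((HensSch.pullMod π).obj F) j) := by
  obtain ⟨G, hG⟩ := Desc59.EtAssocSheaf.exists_sheaf F
  obtain ⟨h, hz⟩ := exists_homeo hX
  obtain ⟨e⟩ := nonempty_iso hX h hz F hG
  have hiso : IsIso (Scheme.Modules.fromTildeΓ (R := CommRingCat.of A) F) :=
    Scheme.Modules.isIso_fromTildeΓ_of_isQuasicoherent (R := CommRingCat.of A) F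
  let e' : sphTilde π (GM F) ≅ (HensSch.pullMod π).obj F := (HensSch.pullMod π).mapIso (@asIso _ _ _ _ (Scheme.Modules.fromTildeΓ (R := CommRingCat.of A) F) hiso)
  let eab : ModSite.toAb (sphTilde π (GM F)) ≅ ModSite.toAb ((HensSch.pullMod π).obj F) :=
    (SheafOfModules.toSheaf (ModSite.ringSh Z.sheaf)).mapIso e'
  obtain ⟨ε⟩ := TransportH.H_equiv h (ModSite.toAb ((HensSch.pullMod π).obj F)) j
  obtain ⟨k, rfl⟩ := Nat.exists_eq_add_one.2 hj
  have h1 := H98EtZar.subsingleton_H_resZar _ _ (HensQcoh.goodA_pull A I p F G hG) k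
  let eT : tgt I G ≅ (TransportH.trans h).obj (ModSite.toAb ((HensSch.pullMod π).obj F)) :=
    e.symm ≪≫ (TransportH.trans h).mapIso eab
  have h2 : Subsingleton (EtZar.H ((TransportH.trans h).obj (ModSite.toAb ((HensSch.pullMod π).obj F))) (k + 1)) :=
    @Function.Surjective.subsingleton _ _ _ h1
      (((Abelian.extFunctorObj _ (k + 1)).mapIso eT).addCommGroupIsoToAddEquiv.surjective)
  exact ε.toEquiv.subsingleton

end Main

end Groth.Agent.Depth22.SphCoh
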