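import Groth.Agent.EtDual93.LocCoh
import Groth.Agent.EtCore45.InjPush
import Groth.Agent.EtCore45.MVExt
import Groth.Agent.RD97.LES
import Groth.Prelude.Def_EtDepth
import Mathlib.Algebra.Homology.ShortComplex.ExactFunctor

/-!
Sections with support in the complement of an open, and dimension shifting for local cohomology.
-/

set_option autoImplicit false
set_option backward.isDefEq.respectTransparency.types false
universe u

open CategoryTheory CategoryTheory.Limits AlgebraicGeometry Opposite

namespace Groth.Agent.Depth22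

section General

variable {A : Type*} [Category A] [Abelian A]

theorem isZero_kernel_iff {X Y : A} (f : X ⟶ Y) : IsZero (kernel f) ↔ Mono f := by
  refine ⟨fun h => Preadditive.mono_of_kernel_iso_zero h.isoZero, fun _ => isZero_kernel_of_mono f⟩

end General

variable {X U : Scheme.{u}} (j : U ⟶ X) [IsOpenImmersion j]

omit [IsOpenImmersion j] in
theorem preservesMono_push : (EtCoh.push j).PreservesMonomorphisms :=
  Functor.preservesMonomorphisms_of_adjunction (EtCoh.pullPushAdj j)

omit [IsOpenImmersion j] in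
theorem preservesFiniteLimits_secSupp : PreservesFiniteLimits (EtDual.secSupp j) := by
  have := fun {P Q : EtCoh.Ab X} (f : P ⟶ Q) => (inferInstance : HasKernel f)
  have hm := preservesMono_push j
  have hfl := Unr55.EtSh.preservesFiniteLimits_pull j
  have : ∀ {P Q : EtCoh.Ab X} (f : P ⟶ Q), PreservesLimit (parallelPair f 0) (EtDual.secSupp j) := by
    intro P Q f
    refine preservesLimit_of_preserves_limit_cone (kernelIsKernel f) ?_
    refine (KernelFork.isLimitMapConeEquiv _ _).symm ?_
    refine KernelFork.IsLimit.ofι' _ (by rw [← Functor.map_comp]; simp) (fun {W} k hk => ⟨?_, ?_⟩) (hi := ?_)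
    · refine kernel.lift _ (kernel.lift f (k ≫ kernel.ι (EtDual.unitApp j P)) ?_) ?_
      · have := congrArg (fun x => x ≫ kernel.ι (EtDual.unitApp j Q)) hk
        simpa using this
      · have hG : Mono ((EtCoh.push j).map ((EtCoh.pull j).map (kernel.ι f))) := inferInstance
        refine hG.right_cancellation _ _ ?_
        refine ((Category.assoc _ _ _).trans ?_).trans zero_comp.symm
        refine (congrArg (kernel.lift f _ _ ≫ ·)
          ((EtCoh.pullPushAdj j).unit.naturality (kernel.ι f)).symm).trans ?_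
        refine (Category.assoc _ _ _).symm.trans ?_
        refine (congrArg (· ≫ EtDual.unitApp j P) (kernel.lift_ι f _ _)).trans ?_
        exact (Category.assoc _ _ _).trans
          ((congrArg (k ≫ ·) (kernel.condition (EtDual.unitApp j P))).trans comp_zero)
    · refine (cancel_mono (kernel.ι (EtDual.unitApp j P))).1 ?_
      simp
    · refine ⟨fun a b h => ?_⟩
      have := congrArg (fun x => x ≫ kernel.ι (EtDual.unitApp j P)) h
      refine (cancel_mono (kernel.ι (EtDual.unitApp j _))).1 ((cancel_mono (kernel.ι f)).1 ?_)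
      simpa using this
  exact (EtDual.secSupp j).preservesFiniteLimits_of_preservesKernels

omit [IsOpenImmersion j] in
theorem isZero_locCoh_zero_iff (F : EtCoh.Ab X) :
    IsZero ((EtDual.locCoh j 0).obj F) ↔ Mono (EtDual.unitApp j F) := by
  have := preservesFiniteLimits_secSupp j
  rw [← isZero_kernel_iff]
  exact ((EtDual.secSupp j).rightDerivedZeroIsoSelf.app F).isZero_iff

/-- Injectivity of the unit is injectivity of restriction to the open. -/
theorem mono_unitApp_iff (F : EtCoh.Ab X) :
    Mono (EtDual.unitApp j F) ↔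
      ∀ V : X.Etale, Function.Injective (F.obj.map ((EtCore45.compBcAdj j).counit.app V).op) := by
  let m := (EtCoh.push j).map ((EtCore45.pullRestrIso j).hom.app F)
  have e : EtDual.unitApp j F ≫ m = (EtCore45.restrPushAdj j).unit.app F :=
    Adjunction.unit_leftAdjointUniq_hom_app _ _ F
  have h1 : Mono (EtDual.unitApp j F) ↔ Mono ((EtCore45.restrPushAdj j).unit.app F) :=
    ⟨fun _ => e ▸ mono_comp _ _, fun h => by rw [← e] at h; exact mono_of_mono _ m⟩
  rw [h1]
  have h2 : Mono ((EtCore45.restrPushAdj j).unit.app F) ↔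
      Mono ((EtCore45.restrPushAdj j).unit.app F).hom :=
    (Functor.mono_map_iff_mono (sheafToPresheaf X.smallEtaleTopology AddCommGrpCat.{u + 1}) _).symm
  rw [h2, NatTrans.mono_iff_mono_app]
  exact ⟨fun h V => (AddCommGrpCat.mono_iff_injective _).1 (h (op V)),
    fun h V => (AddCommGrpCat.mono_iff_injective _).2 (h V.unop)⟩

/-- Enlarging the open keeps injectivity of restriction. -/
theorem mono_unitApp_of_le {V : Scheme.{u}} (k : V ⟶ X) [IsOpenImmersion k]
    (hUV : Set.range j.base ⊆ Set.range k.base) (F : EtCoh.Ab X) (h : Mono (EtDual.unitApp j F)) :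
    Mono (EtDual.unitApp k F) := by
  rw [mono_unitApp_iff] at h ⊢
  intro W a b hab
  refine h W ?_
  let l := IsOpenImmersion.lift k j hUV
  have hl : l ≫ k = j := IsOpenImmersion.lift_fac _ _ _
  let φ : (EtShriek.compEtale j).obj ((EtCoh.bc j).obj W) ⟶ (EtShriek.compEtale k).obj ((EtCoh.bc k).obj W) :=
    MorphismProperty.Over.homMk
      (pullback.lift (pullback.fst W.hom j) (pullback.snd W.hom j ≫ l)
        (by rw [Category.assoc, hl]; exact pullback.condition))
      (by
        change pullback.lift _ _ _ ≫ pullback.snd W.hom k ≫ k = pullback.snd W.hom j ≫ j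
        rw [pullback.lift_snd_assoc]
        exact (Category.assoc _ _ _).trans (congrArg _ hl)) trivial
  have hφ : φ ≫ (EtCore45.compBcAdj k).counit.app W = (EtCore45.compBcAdj j).counit.app W := by
    apply MorphismProperty.Over.Hom.ext
    exact pullback.lift_fst _ _ _
  rw [← hφ, op_comp, Functor.map_comp]
  exact congrArg (F.obj.map φ.op) hab

omit [IsOpenImmersion j] in
theorem injective_push (J : EtCoh.Ab U) [Injective J] : Injective ((EtCoh.push j).obj J) :=
  EtCore45.injective_push j J

omit [IsOpenImmersion j] in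
theorem mono_unitApp_push (J : EtCoh.Ab U) : Mono (EtDual.unitApp j ((EtCoh.push j).obj J)) :=
  mono_of_mono_fac ((EtCoh.pullPushAdj j).right_triangle_components J)

omit [IsOpenImmersion j] in
/-- A sheaf with no sections supported off `U` embeds into an injective one of the same kind. -/
theorem exists_shortExact (F : EtCoh.Ab X) (h : Mono (EtDual.unitApp j F)) :
    ∃ S : ShortComplex (EtCoh.Ab X), S.ShortExact ∧ S.X₁ = F ∧ Injective S.X₂ ∧
      Mono (EtDual.unitApp j S.X₂) ∧ ∃ J : EtCoh.Ab U, Injective J ∧ S.X₂ = (EtCoh.push j).obj J := by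
  have := preservesMono_push j
  let ι : F ⟶ (EtCoh.push j).obj (Injective.under ((EtCoh.pull j).obj F)) :=
    EtDual.unitApp j F ≫ (EtCoh.push j).map (Injective.ι _)
  have : Mono ι := mono_comp _ _
  exact ⟨ShortComplex.mk ι (cokernel.π ι) (cokernel.condition ι),
    { exact := ShortComplex.exact_of_g_is_cokernel _ (cokernelIsCokernel ι) }, rfl,
    injective_push j _, mono_unitApp_push j _, _, inferInstance, rfl⟩

omit [IsOpenImmersion j] in
theorem isZero_locCoh_injective (I : EtCoh.Ab X) [Injective I] (h : Mono (EtDual.unitApp j I)) (p : ℕ) :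
    IsZero ((EtDual.locCoh j p).obj I) := by
  cases p with
  | zero => exact (isZero_locCoh_zero_iff j I).2 h
  | succ p => exact Functor.isZero_rightDerived_obj_injective_succ (EtDual.secSupp j) p _

omit [IsOpenImmersion j] in
theorem isZero_shift {S : ShortComplex (EtCoh.Ab X)} (hS : S.ShortExact) [Injective S.X₂]
    (h : Mono (EtDual.unitApp j S.X₂)) (p : ℕ) :
    IsZero ((EtDual.locCoh j p).obj S.X₃) ↔ IsZero ((EtDual.locCoh j (p + 1)).obj S.X₁) := by
  obtain ⟨Δ⟩ := RD97.nonempty_derivedLES (EtDual.secSupp j)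
  have h3 := Δ.exact₃ S hS p (p + 1) rfl
  have h1 := Δ.exact₁ S hS p (p + 1) rfl
  have hm : Mono (Δ.δ S hS p (p + 1) rfl) :=
    h3.mono_g ((isZero_locCoh_injective j S.X₂ h p).eq_of_src _ _)
  have he : Epi (Δ.δ S hS p (p + 1) rfl) :=
    h1.epi_f ((isZero_locCoh_injective j S.X₂ h (p + 1)).eq_of_tgt _ _)
  have := isIso_of_mono_of_epi (Δ.δ S hS p (p + 1) rfl)
  exact (asIso (Δ.δ S hS p (p + 1) rfl)).isZero_iff

omit [IsOpenImmersion j] in
theorem depthGE_zero (F : EtCoh.Ab X) : EtDepth.DepthGE j F 0 := fun p hp => absurd hp (Nat.not_lt_zero p)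

omit [IsOpenImmersion j] in
theorem mono_of_depthGE {F : EtCoh.Ab X} {n : ℕ} (h : EtDepth.DepthGE j F (n + 1)) :
    Mono (EtDual.unitApp j F) :=
  (isZero_locCoh_zero_iff j F).1 (h 0 n.succ_pos)

omit [IsOpenImmersion j] in
theorem depthGE_succ_iff {S : ShortComplex (EtCoh.Ab X)} (hS : S.ShortExact) [Injective S.X₂]
    (h : Mono (EtDual.unitApp j S.X₂)) (h₁ : Mono (EtDual.unitApp j S.X₁)) (n : ℕ) :
    EtDepth.DepthGE j S.X₁ (n + 1) ↔ EtDepth.DepthGE j S.X₃ n := by
  refine ⟨fun H p hp => (isZero_shift j hS h p).2 (H (p + 1) (by omega)), fun H p hp => ?_⟩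
  rcases p with _ | p
  · exact (isZero_locCoh_zero_iff j S.X₁).2 h₁
  · exact (isZero_shift j hS h p).1 (H p (by omega))

end Groth.Agent.Depth22
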